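import Cfsg.Agent.Lib.PushFamily.Reduce

/-!
What is left when none of the cases gives a pair: the exceptional conditions.
-/

set_option autoImplicit false
set_option linter.unusedSectionVars false
set_option linter.style.haveILetI false

namespace CfsgLib.PushFamily

open CfsgLib.CD.Offender (phi)
open scoped commutatorElement IsMulCommutative Pointwise

universe u

variable {S : Type u} [Group S] [Finite S] {p : ℕ} [hp : Fact p.Prime]

theorem szero_top : szero p (⊤ : Subgroup S) (phi ⊤) = if p = 2 then ⁅frattini S, (⊤ : Subgroup S)⁆ ⊔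
    (frattini ↥(frattini S)).map (frattini S).subtype else if p = 3 then
    ⁅⁅frattini S, (⊤ : Subgroup S)⁆, (⊤ : Subgroup S)⁆ ⊔ (frattini ↥(frattini S)).map (frattini S).subtype
    else ⁅frattini S, (⊤ : Subgroup S)⁆ ⊔ Cfsg.powerClosure p 1 (⊤ : Subgroup S) := by
  rw [phi_top]
  rfl

theorem le_center_of_comm_top {N : Subgroup S} (h : ⁅N, (⊤ : Subgroup S)⁆ = ⊥) :
    N ≤ Subgroup.center S := fun x hx => Subgroup.mem_center_iff.2 fun y =>
  (commutatorElement_eq_one_iff_mul_comm.1 (Subgroup.mem_bot.1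
    (h.le (Subgroup.commutator_mem_commutator hx (Subgroup.mem_top y))))).symm

theorem elementary_center (hel : ∀ z ∈ Subgroup.center S, z ^ p = 1) :
    Cfsg.IsElementaryAbelian p (Subgroup.center S) := ⟨inferInstance, hel⟩

/-- The Frattini subgroup when the second layer is trivial. -/
theorem frattini_conditions (hS : IsPGroup p S) [Nontrivial S]
    (hel : ∀ z ∈ Subgroup.center S, z ^ p = 1) (h0 : szero p (⊤ : Subgroup S) (phi ⊤) = ⊥) :
    Cfsg.IsElementaryAbelian p (frattini S) ∧ (p = 2 → frattini S ≤ Subgroup.center S) ∧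
      (p = 3 → frattini S ≤ Subgroup.upperCentralSeries S 2) ∧
      (3 < p → frattini S ≤ Subgroup.center S ∧ Monoid.exponent S = p) := by
  rw [szero, phi_top] at h0
  by_cases h2 : p = 2
  · rw [if_pos h2, sup_eq_bot_iff] at h0
    exact ⟨CD.Offender.elementary_of_phi_eq_bot (p := p) (hS.to_subgroup _) h0.2,
      fun _ => le_center_of_comm_top h0.1, fun h => absurd h (by omega), fun h => absurd h (by omega)⟩
  rw [if_neg h2] at h0
  by_cases h3 : p = 3
  · rw [if_pos h3, sup_eq_bot_iff] at h0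
    refine ⟨CD.Offender.elementary_of_phi_eq_bot (p := p) (hS.to_subgroup _) h0.2,
      fun h => absurd h h2, fun _ x hx => ?_, fun h => absurd h (by omega)⟩
    rw [Subgroup.mem_upperCentralSeries_succ_iff]
    intro y
    rw [Subgroup.upperCentralSeries_one]
    exact le_center_of_comm_top h0.1 (Subgroup.commutator_mem_commutator hx (Subgroup.mem_top y))
  rw [if_neg h3, sup_eq_bot_iff] at h0
  have hc := le_center_of_comm_top h0.1
  refine ⟨⟨⟨⟨fun a b => Subtype.ext ?_⟩⟩, fun x hx => hel x (hc hx)⟩, fun h => absurd h h2,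
    fun h => absurd h h3, fun _ => ⟨hc, Monoid.exponent_eq_prime_iff hp.out |>.2 fun g hg => ?_⟩⟩
  · exact Subgroup.mem_center_iff.1 (hc b.2) a
  · refine orderOf_eq_prime ?_ hg
    have h1 : g ^ p ^ 1 ∈ Cfsg.powerClosure p 1 (⊤ : Subgroup S) :=
      Subgroup.subset_closure ⟨g, trivial, rfl⟩
    rwa [h0.2, Subgroup.mem_bot, pow_one] at h1

/-- The abelian subgroups of largest order when the minimal centrally large subgroups are abelian. -/
theorem large_conditions (hS : IsPGroup p S) (hZ : ⁅ZJ S, (⊤ : Subgroup S)⁆ = ⊥)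
    (hD : ∀ R : Subgroup S, Cfsg.IsMinimalCentrallyLarge R → ⁅R, R⁆ = ⊥) :
    (∀ R : Subgroup S, Cfsg.IsMinimalCentrallyLarge R ↔ Large R) ∧
    Cfsg.thompsonSubgroupA S = ⊤ ∧
    ∀ A ∈ Cfsg.maxAbelianSubgroups S, ∀ B ∈ Cfsg.maxAbelianSubgroups S, ∀ Q : Subgroup S,
      Nat.card ↥A ^ 2 = Nat.card S * Nat.card ↥(Subgroup.center S) ∧
      Nat.card ↥Q * Nat.card ↥(Subgroup.center ↥Q) ≤ Nat.card S * Nat.card ↥(Subgroup.center S) ∧
      ((A ⊔ B : Subgroup S) : Set S) = (A : Set S) * (B : Set S) ∧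
      A ⊔ B = Subgroup.centralizer ((A ⊓ B : Subgroup S) : Set S) := by
  obtain ⟨R₀, hR₀⟩ := exists_mcl (S := S)
  have hiff : ∀ R : Subgroup S, Cfsg.IsMinimalCentrallyLarge R ↔ Large R :=
    (Cfsg.Agent.S3007.result (p := p) S hS R₀ R₀ hR₀ hR₀).2.2.2.2 ⟨⟨fun a b => Subtype.ext
      (commutatorElement_eq_one_iff_mul_comm.1 (Subgroup.mem_bot.1
        (hD R₀ hR₀ ▸ Subgroup.commutator_mem_commutator a.2 b.2)))⟩⟩
  obtain ⟨-, -, hjoin, -, hM⟩ := Cfsg.Agent.S3005.result (p := p) S hS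
  have hJ : Cfsg.minimalCentrallyLargeJoin S = Cfsg.thompsonSubgroupA S :=
    congrArg sSup (Set.ext hiff)
  rw [hJ] at hM
  set J := Cfsg.thompsonSubgroupA S with hJdef
  have hMiff := CD.centrallyLarge_iff.1 hM
  have hCJ : Subgroup.centralizer (J : Set S) = Subgroup.center S := by
    refine le_antisymm (fun x hx => ?_) (Subgroup.center_le_centralizer _)
    exact le_center_of_comm_top hZ (Subgroup.mem_inf.2 ⟨hMiff.2 hx, hx⟩)
  have hJtop : J = ⊤ := by
    rw [(CD.large_centralizer hMiff.1).2, hCJ, Subgroup.centralizer_eq_top_iff_subset]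
  refine ⟨hiff, hJtop, fun A hA B hB Q => ?_⟩
  have hclA : ∀ {A : Subgroup S}, Large A → Cfsg.IsCentrallyLarge A := fun hA => ((hiff _).2 hA).1
  have hf : Cfsg.maxCentralProduct S = Nat.card S * Nat.card (Subgroup.center S) := by
    have h1 := CD.Offender.meas_eq hM
    rw [CD.Offender.cz, hCJ, hJtop, Subgroup.card_top] at h1
    exact h1.symm
  have hC : ∀ {A : Subgroup S}, Large A → Subgroup.centralizer (A : Set S) = A := by
    intro A hA
    haveI := hA.1
    refine le_antisymm (CD.centrallyLarge_iff.1 (hclA hA)).2 fun a ha => ?_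
    exact Subgroup.mem_centralizer_iff.2 fun b hb =>
      congrArg Subtype.val (mul_comm (⟨b, hb⟩ : A) ⟨a, ha⟩)
  refine ⟨?_, ?_, (hjoin A B (hclA hA) (hclA hB)).1, ?_⟩
  · have h1 := CD.Offender.meas_eq (hclA hA)
    rw [CD.Offender.cz, hC hA, hf] at h1
    rw [pow_two]
    exact h1
  · rw [← hf]
    exact le_csSup (CD.bddAbove_range (fun R : Subgroup S => Nat.card R * Nat.card (Subgroup.center R)))
      ⟨Q, rfl⟩
  · have h1 := (CD.large_centralizer (CD.centrallyLarge_iff.1 (hjoin A B (hclA hA) (hclA hB)).2).1).2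
    rwa [CD.centralizer_sup, hC hA, hC hB] at h1

/-- The abelian groups occur in no pushing-up situation. -/
theorem goodPair_of_commutative (hc : IsMulCommutative S) (S₁ S₂ : Subgroup S) : GoodPair p S₁ S₂ := by
  intro G _ _ P₀ e hP
  exfalso
  obtain ⟨-, ⟨P, rfl⟩, hE₁, hE₂, K, hK, F, hF, hFt, n, hcard, hiso⟩ := hP
  letI := hF
  letI := hFt
  haveI := hK
  haveI : CharP F p := SL2Module.Baumann.charP_of_card n hcard
  obtain ⟨M, π, st⟩ := SL2Module.Baumann.exists_setting (F := F) P hE₁ hE₂ K hiso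
  refine SL2Module.Baumann.not_le_pCore st fun x hx => hE₁ (Subgroup.mem_centralizer_iff.2 fun y hy => ?_)
  have h1 : e.symm ⟨y, SL2Module.Baumann.pCore_le P hy⟩ * e.symm ⟨x, hx⟩ =
      e.symm ⟨x, hx⟩ * e.symm ⟨y, SL2Module.Baumann.pCore_le P hy⟩ := mul_comm _ _
  rw [← map_mul, ← map_mul] at h1
  exact congrArg Subtype.val (e.symm.injective h1)

end CfsgLib.PushFamily
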