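import Cfsg.Agent.Lib.PushFamily.Pair
import Cfsg.Agent.Lib.PushRankOne.TwoOdd

/-!
The trilinear form of a pair of modules: in odd characteristic it vanishes unless the characteristic is
three.
-/

set_option autoImplicit false
set_option linter.unusedSectionVars false
set_option linter.style.haveILetI false

namespace CfsgLib.PushFamily

open CfsgLib.SL2 CfsgLib.SL2Module CfsgLib.SL2Module.Baumann
open CfsgLib.PushRankOne (Zc Vc Rc Natural mem_cj cj comm_mul_left comm_mul_right comm_sup_le normalClosure_comm_le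
  conj_mem_of_norm le_pCore_of_stab mulVec_apply neg_one_mulVec two_ne_zero_of_ne_two symm_aux comm_conj form)
open scoped MatrixGroups commutatorElement

universe u

variable {p : ℕ} [hp : Fact p.Prime]

/-- A pair with the second natural module. -/
structure PairY (A B : Vtx.{u} p) (φ : A.P ≃* B.P) (ρY : A.G →* SL(2, A.F)) (ψY : A.G → Fin 2 → A.F) :
    Prop where
  hyp : Pair A B φ
  nat : Natural A.S A.M (Yimg φ) A.V ρY ψY

namespace PairY

variable {A B : Vtx.{u} p} {φ : A.P ≃* B.P} {ρY : A.G →* SL(2, A.F)} {ψY : A.G → Fin 2 → A.F}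
variable (h : PairY A B φ ρY ψY)
include h

theorem comm_Q_P : ⁅A.Q, tr φ.symm (Yimg φ.symm)⁆ ≤ Timg φ := by
  have := h.hyp.symm.comm_Q_trY
  rwa [MulEquiv.symm_symm] at this

theorem E_zero {a : A.G} (ha : a ∈ (Eimg φ)) : ψY a 1 = 0 :=
  (h.nat.line a (h.hyp.E_le_Y ha)).1 fun s hs =>
    A.Z_le_V (h.hyp.comm_E_P_Z (by
      rw [Subgroup.commutator_comm]
      exact Subgroup.commutator_mem_commutator hs ha))

theorem mem_E {a : A.G} (ha : a ∈ (Yimg φ)) (h0 : ψY a 1 = 0) : a ∈ (Eimg φ) := by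
  classical
  let f : (Yimg φ) →* Multiplicative A.F :=
    { toFun := fun v => Multiplicative.ofAdd (ψY v 1)
      map_one' := by rw [OneMemClass.coe_one, h.nat.map_one]; rfl
      map_mul' := fun v w => by
        rw [Subgroup.coe_mul, h.nat.add _ v.2 _ w.2]
        rfl }
  have hf : Function.Surjective f := fun z => by
    obtain ⟨v, hv, e⟩ := h.nat.onto ![0, z.toAdd]
    exact ⟨⟨v, hv⟩, show Multiplicative.ofAdd (ψY v 1) = z by rw [e]; rfl⟩
  have hle : ((Eimg φ)).subgroupOf ((Yimg φ)) ≤ f.ker := fun x hx => by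
    show Multiplicative.ofAdd (ψY x 1) = 1
    rw [show ψY (x : A.G) 1 = 0 from h.E_zero hx]
    rfl
  have h1 := Subgroup.card_eq_card_quotient_mul_card_subgroup f.ker
  rw [Nat.card_congr (QuotientGroup.quotientKerEquivOfSurjective f hf).toEquiv,
    Nat.card_congr Multiplicative.toAdd] at h1
  have h2 := h.hyp.card_E
  rw [A.card_P, h1, mul_assoc, mul_assoc, mul_comm (Nat.card A.Q),
    ← Nat.card_congr (Subgroup.subgroupOfEquivOfLe h.hyp.E_le_Y).toEquiv] at h2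
  have h3 : ((Eimg φ)).subgroupOf ((Yimg φ)) = f.ker := Subgroup.eq_of_le_of_card_ge hle
    (Nat.le_of_mul_le_mul_right (Nat.le_of_mul_le_mul_left h2 Nat.card_pos) Nat.card_pos)
  have h4 : (⟨a, ha⟩ : (Yimg φ)) ∈ f.ker := by
    show Multiplicative.ofAdd (ψY a 1) = 1
    rw [h0]
    rfl
  rwa [← h3, Subgroup.mem_subgroupOf] at h4

theorem sup_top : A.Q ⊔ Subgroup.normalClosure (tr φ.symm (Yimg φ.symm) : Set A.G) = ⊤ := by
  haveI : (Subgroup.normalClosure (tr φ.symm (Yimg φ.symm) : Set A.G)).Normal := Subgroup.normalClosure_normal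
  exact A.sup_top (h.hyp.P_sup_Q.ge.trans
    (sup_le (Subgroup.le_normalClosure.trans le_sup_right) le_sup_left))

theorem comm_Q_L : ⁅A.Q, Subgroup.normalClosure (tr φ.symm (Yimg φ.symm) : Set A.G)⁆ ≤ (Yimg φ) := by
  haveI := A.Q_normal
  rw [Subgroup.commutator_comm]
  refine normalClosure_comm_le ?_
  rw [Subgroup.commutator_comm]
  exact h.comm_Q_P.trans h.hyp.T_le_Y

theorem ker_inf_le {g : A.G} (hV : A.ρV g = 1) (hY : ρY g = 1) : g ∈ A.Q := by
  haveI := A.Q_normal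
  set L := Subgroup.normalClosure (tr φ.symm (Yimg φ.symm) : Set A.G)
  haveI : L.Normal := Subgroup.normalClosure_normal
  have hg' : g ∈ ((A.Q ⊔ L : Subgroup A.G) : Set A.G) := by rw [h.sup_top]; trivial
  rw [Subgroup.normal_mul] at hg'
  obtain ⟨x, hx', l, hl, rfl⟩ := hg'
  refine mul_mem hx' (?_ : l ∈ A.Q)
  have hD : A.ρV.ker ⊓ ρY.ker ⊓ L ≤ A.Q := by
    refine le_pCore_of_stab A.st.self inferInstance h.hyp.Y_le_Q A.V_le_Q ?_ ?_ ?_
    · refine (Subgroup.commutator_mono inf_le_right le_rfl).trans ?_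
      rw [Subgroup.commutator_comm]
      exact h.comm_Q_L
    · exact Subgroup.commutator_le.2 fun d hd v hv => (h.nat.ker d).1 hd.1.2 v hv
    · exact le_bot_iff.1 (Subgroup.commutator_le.2 fun d hd v hv => (A.nat.ker d).1 hd.1.1 v hv)
  have hxV := (A.nat.inf x (A.Q_le_P hx')).2 hx'
  have hxY := (h.nat.inf x (A.Q_le_P hx')).2 hx'
  rw [map_mul, hxV, one_mul] at hV
  rw [map_mul, hxY, one_mul] at hY
  exact hD ⟨⟨hV, hY⟩, hl⟩

theorem value_mem {e t : A.G} (he : e ∈ (Eimg φ)) (ht : t ∈ A.P) : ⁅t, e⁆ ∈ A.Z :=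
  h.hyp.comm_E_P_Z (by
    rw [Subgroup.commutator_comm]
    exact Subgroup.commutator_mem_commutator ht he)

theorem comm_mem_E {y s : A.G} (hy : y ∈ (Yimg φ)) (hs : s ∈ A.P) : ⁅s, y⁆ ∈ (Eimg φ) :=
  h.hyp.comm_Y_P (by
    rw [Subgroup.commutator_comm]
    exact Subgroup.commutator_mem_commutator hs hy)

theorem commute_center {r x : A.G} (hr : r ∈ tr φ.symm B.R) : Commute r x :=
  (Subgroup.mem_center_iff.1 (h.hyp.central hr) x).symm

/-- The additivity in the module. -/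
theorem g_add {t e e' : A.G} (ht : t ∈ A.P) (he : e ∈ (Eimg φ)) (he' : e' ∈ (Eimg φ)) :
    A.ψV ⁅t, e * e'⁆ = A.ψV ⁅t, e⁆ + A.ψV ⁅t, e'⁆ := by
  have h2 := h.value_mem he' ht
  rw [comm_mul_right, show e * ⁅t, e'⁆ * e⁻¹ = ⁅t, e'⁆ by
      rw [← (A.Z_commute h2 (h.hyp.E_le_P he)).eq, mul_inv_cancel_right],
    A.nat.add _ (A.Z_le_V (h.value_mem he ht)) _ (A.Z_le_V h2)]

theorem g_left {t t' e : A.G} (ht : t ∈ A.P) (ht' : t' ∈ A.P) (he : e ∈ (Eimg φ)) :
    A.ψV ⁅t * t', e⁆ = A.ψV ⁅t, e⁆ + A.ψV ⁅t', e⁆ := by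
  have h2 := h.value_mem he ht'
  rw [comm_mul_left, ← (A.Z_commute h2 ht).eq, mul_inv_cancel_right,
    A.nat.add _ (A.Z_le_V h2) _ (A.Z_le_V (h.value_mem he ht)), add_comm]

theorem g_zero {t e : A.G} (hc : ⁅t, e⁆ ∈ Subgroup.center A.G) (he : e ∈ (Eimg φ))
    (ht : t ∈ A.P) : A.ψV ⁅t, e⁆ = 0 :=
  (A.zero_iff (A.Z_le_V (h.value_mem he ht))).2 hc

theorem g_central {t e : A.G} (ht : t ∈ A.P) (he : e ∈ A.Z) : A.ψV ⁅t, e⁆ = 0 := by
  rw [commutatorElement_eq_one_iff_commute.2 (A.Z_commute he ht).symm, A.nat.map_one]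

theorem form_add {y y' s t : A.G} (hy : y ∈ (Yimg φ)) (hy' : y' ∈ (Yimg φ)) (hs : s ∈ A.P)
    (ht : t ∈ A.P) : form A.ψV (y * y') s t = form A.ψV y s t + form A.ψV y' s t := by
  have he' := h.comm_mem_E hy' hs
  have hr := h.hyp.comm_Y_Y (Subgroup.commutator_mem_commutator hy (h.hyp.E_le_Y he'))
  have hrZ := h.hyp.C_le_Z hr
  have hrE : ⁅y, ⁅s, y'⁆⁆ ∈ (Eimg φ) := h.hyp.T_le_E (h.hyp.Z_le_T hrZ)
  rw [form, form, form, comm_mul_right s,
    show y * ⁅s, y'⁆ * y⁻¹ = ⁅y, ⁅s, y'⁆⁆ * ⁅s, y'⁆ by simp only [commutatorElement_def]; group,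
    h.g_add ht (h.comm_mem_E hy hs) (mul_mem hrE he'), h.g_add ht hrE he', h.g_central ht hrZ, zero_add]
  rfl

theorem form_left {y s s' t : A.G} (hy : y ∈ (Yimg φ)) (hs : s ∈ A.P)
    (hs' : s' ∈ A.P) (ht : t ∈ A.P) :
    form A.ψV y (s * s') t = form A.ψV y s t + form A.ψV y s' t := by
  have he' := h.comm_mem_E hy hs'
  have hz := h.value_mem he' hs
  have hzE : ⁅s, ⁅s', y⁆⁆ ∈ (Eimg φ) := h.hyp.T_le_E (h.hyp.Z_le_T hz)
  rw [form, form, form, comm_mul_left s s',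
    show s * ⁅s', y⁆ * s⁻¹ = ⁅s, ⁅s', y⁆⁆ * ⁅s', y⁆ by simp only [commutatorElement_def]; group,
    h.g_add ht (mul_mem hzE he') (h.comm_mem_E hy hs), h.g_add ht hzE he', h.g_central ht hz, zero_add,
    Pi.add_apply, add_comm]

theorem form_right {y s t t' : A.G} (hy : y ∈ (Yimg φ)) (hs : s ∈ A.P)
    (ht : t ∈ A.P) (ht' : t' ∈ A.P) :
    form A.ψV y s (t * t') = form A.ψV y s t + form A.ψV y s t' := by
  rw [form, form, form, h.g_left ht ht' (h.comm_mem_E hy hs)]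
  rfl

theorem form_E {y s t : A.G} (hy : y ∈ (Eimg φ)) (hs : s ∈ A.P) (ht : t ∈ A.P) :
    form A.ψV y s t = 0 := by
  rw [form, h.g_central ht (h.value_mem hy hs)]
  rfl

theorem form_Q_left {y q t : A.G} (hy : y ∈ (Yimg φ)) (hq : q ∈ A.Q) (ht : t ∈ A.P) :
    form A.ψV y q t = 0 := by
  rw [form, h.g_central ht (h.hyp.C_le_Z (h.hyp.comm_Q_Y (Subgroup.commutator_mem_commutator hq hy)))]
  rfl

theorem form_Q_right {y s q : A.G} (hy : y ∈ (Yimg φ)) (hs : s ∈ A.P)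
    (hq : q ∈ A.Q) : form A.ψV y s q = 0 := by
  have he := h.comm_mem_E hy hs
  rw [form, h.g_zero (h.hyp.central (h.hyp.comm_Q_Y
    (Subgroup.commutator_mem_commutator hq (h.hyp.E_le_Y he)))) he (A.Q_le_P hq)]
  rfl

theorem form_congr {y y' s s' t t' : A.G} (hy : y ∈ (Yimg φ)) (hy' : y' ∈ (Yimg φ))
    (ey : ψY y 1 = ψY y' 1) (hs : s ∈ A.P) (es : s'⁻¹ * s ∈ A.Q)
    (hs' : s' ∈ A.P) (ht : t ∈ A.P) (et : t'⁻¹ * t ∈ A.Q)
    (ht' : t' ∈ A.P) : form A.ψV y s t = form A.ψV y' s' t' := by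
  have hd : y'⁻¹ * y ∈ (Eimg φ) := h.mem_E (mul_mem (inv_mem hy') hy) (by
    rw [h.nat.add _ (inv_mem hy') _ hy, h.nat.map_inv hy', Pi.add_apply, Pi.neg_apply, ey, neg_add_cancel])
  have e1 : form A.ψV y s t = form A.ψV y' s t := by
    conv_lhs => rw [show y = y' * (y'⁻¹ * y) by group]
    rw [h.form_add hy' (h.hyp.E_le_Y hd) hs ht, h.form_E hd hs ht, add_zero]
  have e2 : form A.ψV y' s t = form A.ψV y' s' t := by
    conv_lhs => rw [show s = s' * (s'⁻¹ * s) by group]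
    rw [h.form_left hy' hs' (A.Q_le_P es) ht, h.form_Q_left hy' es ht, add_zero]
  have e3 : form A.ψV y' s' t = form A.ψV y' s' t' := by
    conv_lhs => rw [show t = t' * (t'⁻¹ * t) by group]
    rw [h.form_right hy' hs' ht' (A.Q_le_P et), h.form_Q_right hy' hs' et, add_zero]
  rw [e1, e2, e3]

theorem form_one_left {y t : A.G} (hy : y ∈ (Yimg φ)) (ht : t ∈ A.P) : form A.ψV y 1 t = 0 :=
  h.form_Q_left hy (one_mem _) ht

theorem form_one_right {y s : A.G} (hy : y ∈ (Yimg φ)) (hs : s ∈ A.P) : form A.ψV y s 1 = 0 :=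
  h.form_Q_right hy hs (one_mem _)

theorem form_pow {y s t : A.G} (hy : y ∈ (Yimg φ)) (hs : s ∈ A.P) (ht : t ∈ A.P)
    (i j k : ℕ) : form A.ψV (y ^ i) (s ^ j) (t ^ k) = (i * j * k : A.F) * form A.ψV y s t := by
  have e1 : ∀ (j : ℕ) {y t : A.G}, y ∈ (Yimg φ) → t ∈ A.P →
      form A.ψV y (s ^ j) t = (j : A.F) * form A.ψV y s t := by
    intro j y t hy ht
    induction j with
    | zero => rw [pow_zero, h.form_one_left hy ht, Nat.cast_zero, zero_mul]
    | succ j ih => rw [pow_succ, h.form_left hy (pow_mem hs j) hs ht, ih]; push_cast; ring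
  have e2 : ∀ (k : ℕ) {y : A.G}, y ∈ (Yimg φ) → form A.ψV y s (t ^ k) = (k : A.F) * form A.ψV y s t := by
    intro k y hy
    induction k with
    | zero => rw [pow_zero, h.form_one_right hy hs, Nat.cast_zero, zero_mul]
    | succ k ih => rw [pow_succ, h.form_right hy hs (pow_mem ht k) ht, ih]; push_cast; ring
  have e3 : ∀ i : ℕ, form A.ψV (y ^ i) s t = (i : A.F) * form A.ψV y s t := by
    intro i
    induction i with
    | zero => rw [pow_zero, h.form_E (one_mem _) hs ht, Nat.cast_zero, zero_mul]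
    | succ i ih => rw [pow_succ, h.form_add (pow_mem hy i) hy hs ht, ih]; push_cast; ring
  rw [e1 j (pow_mem hy i) (pow_mem ht k), e2 k (pow_mem hy i), e3 i]
  ring

theorem form_conj {g y s t : A.G} (hg : g ∈ A.M) (hy : y ∈ (Yimg φ)) (hs : s ∈ A.P)
    (ht : t ∈ A.P) :
    form A.ψV (g * y * g⁻¹) (g * s * g⁻¹) (g * t * g⁻¹) =
      (A.ρV g : Matrix (Fin 2) (Fin 2) A.F) 0 0 * form A.ψV y s t := by
  have hz := h.value_mem (h.comm_mem_E hy hs) ht
  have h1 : A.ψV ⁅t, ⁅s, y⁆⁆ 1 = 0 := (A.line_iff (A.Z_le_V hz)).2 hz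
  have h2 : (A.ρV g : Matrix (Fin 2) (Fin 2) A.F) 1 0 = 0 := (A.nat.borel g).1 hg
  rw [form, form, ← comm_conj, ← comm_conj, A.nat.equiv g _ (A.Z_le_V hz), mulVec_apply, h1]
  ring

theorem form_symm {y s t : A.G} (hy : y ∈ (Yimg φ)) (hs : s ∈ A.P) (ht : t ∈ A.P) :
    form A.ψV y s t = form A.ψV y t s := by
  set e := ⁅s, y⁆ with he
  set e' := ⁅t, y⁆ with he'
  set q := ⁅s, t⁆ with hq
  have heE := h.comm_mem_E hy hs
  have heE' := h.comm_mem_E hy ht
  have hqQ : q ∈ A.Q := commutator_le_pCore A.st (Subgroup.commutator_mem_commutator hs ht)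
  have hzy := h.hyp.comm_Q_Y (Subgroup.commutator_mem_commutator hqQ hy)
  have hree := h.hyp.comm_Y_Y (Subgroup.commutator_mem_commutator (h.hyp.E_le_Y heE) (h.hyp.E_le_Y heE'))
  set X := ⁅t * s, y⁆ with hX
  have hqX : ⁅q, X⁆ ∈ tr φ.symm B.R :=
    h.hyp.comm_Q_Y (Subgroup.commutator_mem_commutator hqQ
      (h.hyp.E_le_Y (h.comm_mem_E hy (mul_mem ht hs))))
  set za := ⁅s, e'⁆ with hza
  set zb := ⁅t, e⁆ with hzb
  have hza' : za ∈ A.Z := h.value_mem heE' hs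
  have hzb' : zb ∈ A.Z := h.value_mem heE ht
  have hX' : X = zb * (e * e') := by
    rw [hX, comm_mul_left, hzb, he, he', commutatorElement_def t ⁅s, y⁆]
    group
  have h1 : ⁅s * t, y⁆ = za * (e' * e) := by
    rw [comm_mul_left, hza, he, he', commutatorElement_def s ⁅t, y⁆]
    group
  have h2 : ⁅s * t, y⁆ = (⁅q, X⁆ * X) * ⁅q, y⁆ := by
    rw [show s * t = q * (t * s) by rw [hq, commutatorElement_def]; group, comm_mul_left, ← hX]
    congr 1
    simp only [commutatorElement_def]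
    group
  have h3 : za = ⁅q, X⁆ * ⁅q, y⁆ * ⁅e, e'⁆ * zb :=
    symm_aux (h1.symm.trans h2) hX' (h.commute_center hzy) (h.commute_center hree)
  have hrV : ∀ r ∈ tr φ.symm B.R, r ∈ A.V ∧ A.ψV r = 0 := fun r hr =>
    ⟨h.hyp.C_le_V hr, (A.zero_iff (h.hyp.C_le_V hr)).2 (h.hyp.central hr)⟩
  show A.ψV zb 0 = A.ψV za 0
  rw [h3, A.nat.add _ (mul_mem (mul_mem (hrV _ hqX).1 (hrV _ hzy).1) (hrV _ hree).1) _ (A.Z_le_V hzb'),
    A.nat.add _ (mul_mem (hrV _ hqX).1 (hrV _ hzy).1) _ (hrV _ hree).1,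
    A.nat.add _ (hrV _ hqX).1 _ (hrV _ hzy).1, (hrV _ hqX).2, (hrV _ hzy).2, (hrV _ hree).2]
  simp

theorem kerV_inv {r s : A.G} (hs : s ∈ A.P) (hV : A.ρV r = 1 ∨ A.ρV r = -1)
    (hY : ρY r = 1 ∨ ρY r = -1) : s⁻¹ * (r * s * r⁻¹) ∈ A.Q ∧ r * s * r⁻¹ ∈ A.P := by
  have hq : s⁻¹ * (r * s * r⁻¹) ∈ A.Q := by
    refine h.ker_inf_le ?_ ?_
    · rw [map_mul, map_mul, map_mul, map_inv, map_inv]
      rcases hV with e | e <;> rw [e]
      · simp
      · rw [(Commute.neg_one_left (A.ρV s)).eq, mul_assoc, mul_inv_cancel, mul_one, inv_mul_cancel]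
    · rw [map_mul, map_mul, map_mul, map_inv, map_inv]
      rcases hY with e | e <;> rw [e]
      · simp
      · rw [(Commute.neg_one_left (ρY s)).eq, mul_assoc, mul_inv_cancel, mul_one, inv_mul_cancel]
  refine ⟨hq, ?_⟩
  rw [show r * s * r⁻¹ = s * (s⁻¹ * (r * s * r⁻¹)) by group]
  exact mul_mem hs (A.Q_le_P hq)

theorem kernels (hp2 : p ≠ 2) (hex : ∃ y ∈ Yimg φ, ∃ s ∈ A.P, ∃ t ∈ A.P, form A.ψV y s t ≠ 0) : (∀ g, A.ρV g = 1 ↔ g ∈ A.Q) ∧
    (∀ g, ρY g = 1 ↔ g ∈ A.Q) := by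
  obtain ⟨y, hy, s, hs, t, ht, hne⟩ := hex
  have h20 := two_ne_zero_of_ne_two (F := A.F) hp2
  have hkerV : A.ρV.ker ≤ A.M := fun g hg => by rw [A.nat.borel, MonoidHom.mem_ker.1 hg]; simp
  have hkerY : ρY.ker ≤ A.M := fun g hg => by rw [h.nat.borel, MonoidHom.mem_ker.1 hg]; simp
  have main : ∀ r : A.G, A.ρV r = 1 → ρY r = -1 → False := by
    intro r hrV hrY
    have hrM : r ∈ A.M := hkerV hrV
    obtain ⟨es, hrs⟩ := h.kerV_inv hs (Or.inl hrV) (Or.inr hrY)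
    obtain ⟨et, hrt⟩ := h.kerV_inv ht (Or.inl hrV) (Or.inr hrY)
    have e1 := h.form_conj hrM hy hs ht
    rw [hrV, h.form_congr ((Yimg_normal φ).conj_mem y hy r) (inv_mem hy) ?_ hrs es hs hrt et ht] at e1
    · have e2 := h.form_add hy (inv_mem hy) hs ht
      rw [mul_inv_cancel, h.form_E (one_mem _) hs ht, e1] at e2
      simp at e2
      have e3 : (2 : A.F) * form A.ψV y s t = 0 := by rw [two_mul, ← e2]
      exact hne ((mul_eq_zero.1 e3).resolve_left h20)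
    · rw [h.nat.equiv r y hy, hrY, neg_one_mulVec, h.nat.map_inv hy]
  have main' : ∀ r : A.G, ρY r = 1 → A.ρV r = -1 → False := by
    intro r hrY hrV
    have hrM : r ∈ A.M := hkerY hrY
    obtain ⟨es, hrs⟩ := h.kerV_inv hs (Or.inr hrV) (Or.inl hrY)
    obtain ⟨et, hrt⟩ := h.kerV_inv ht (Or.inr hrV) (Or.inl hrY)
    have e1 := h.form_conj hrM hy hs ht
    rw [hrV, h.form_congr ((Yimg_normal φ).conj_mem y hy r) hy ?_ hrs es hs hrt et ht] at e1
    · simp at e1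
      have e3 : (2 : A.F) * form A.ψV y s t = 0 := by linear_combination e1
      exact hne ((mul_eq_zero.1 e3).resolve_left h20)
    · rw [h.nat.equiv r y hy, hrY]
      simp
  refine ⟨fun g => ⟨fun hg => ?_, fun hg => (A.nat.inf g (A.Q_le_P hg)).2 hg⟩,
    fun g => ⟨fun hg => ?_, fun hg => (h.nat.inf g (A.Q_le_P hg)).2 hg⟩⟩
  · rcases h.nat.scalar (MonoidHom.normal_ker A.ρV) hkerV (MonoidHom.mem_ker.2 hg) with e | e
    · exact h.ker_inf_le hg e
    · exact (main g hg e).elim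
  · rcases A.nat.scalar (MonoidHom.normal_ker ρY) hkerY (MonoidHom.mem_ker.2 hg) with e | e
    · exact h.ker_inf_le e hg
    · exact (main' g hg e).elim

theorem eq_three (hp2 : p ≠ 2) (hex : ∃ y ∈ Yimg φ, ∃ s ∈ A.P, ∃ t ∈ A.P, form A.ψV y s t ≠ 0) : p = 3 := by
  obtain ⟨hkV, hkY⟩ := h.kernels hp2 hex
  obtain ⟨y, hy, s, hs, t, ht, hne⟩ := hex
  have h20 := two_ne_zero_of_ne_two (F := A.F) hp2
  set k := (p + 1) / 2 with hk
  have hk2 : (k : A.F) * 2 = 1 := by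
    have hodd : p % 2 = 1 := Nat.odd_iff.1 (hp.out.odd_of_ne_two hp2)
    have e : k * 2 = p + 1 := by omega
    calc (k : A.F) * 2 = ((k * 2 : ℕ) : A.F) := by push_cast; ring
      _ = ((p + 1 : ℕ) : A.F) := by rw [e]
      _ = 1 := by push_cast; rw [CharP.cast_eq_zero, zero_add]
  obtain ⟨s₁, hs₁, hX⟩ := A.nat.upper_onto 1
  obtain ⟨c, hcX⟩ := h.nat.upper s₁ hs₁
  obtain ⟨g, hg⟩ := A.nat.surj wm
  have hgM : g ∉ A.M := by rw [A.nat.borel, hg, wm_coe]; simp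
  set z := g⁻¹ * s₁ * g with hz
  set d := s₁ ^ 2 * z ^ k * s₁ ^ 2 * (s₁ * z * s₁)⁻¹ with hd
  clear_value d
  clear_value z
  have hupow : ∀ (a : A.F) (i : ℕ), upperHom (Multiplicative.ofAdd a) ^ i =
      upperHom (Multiplicative.ofAdd ((i : A.F) * a)) := fun a i => by
    rw [← map_pow, ← ofAdd_nsmul, nsmul_eq_mul]
  have hzpow : ∀ (ρ : A.G →* SL(2, A.F)) (a : A.F) (i : ℕ), ρ s₁ = upperHom (Multiplicative.ofAdd a) →
      ρ (z ^ i) = (ρ g)⁻¹ * upperHom (Multiplicative.ofAdd ((i : A.F) * a)) * ρ g := by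
    intro ρ a i e
    rw [hz, show (g⁻¹ * s₁ * g) ^ i = g⁻¹ * s₁ ^ i * g by
      rw [show g⁻¹ * s₁ * g = g⁻¹ * s₁ * g⁻¹⁻¹ by group, conj_pow, inv_inv],
      map_mul, map_mul, map_inv, map_pow, e, hupow]
  have hdV : (A.ρV d : Matrix (Fin 2) (Fin 2) A.F) 1 0 = 0 ∧
      (A.ρV d : Matrix (Fin 2) (Fin 2) A.F) 0 0 = 2 ∧ (A.ρV d : Matrix (Fin 2) (Fin 2) A.F) 1 1 = k := by
    have e : d * (s₁ * z * s₁) = s₁ ^ 2 * z ^ k * s₁ ^ 2 := by rw [hd, inv_mul_cancel_right]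
    have e' := congrArg (fun x => (A.ρV x : Matrix (Fin 2) (Fin 2) A.F)) e
    have hW : (A.ρV (s₁ * z * s₁) : Matrix (Fin 2) (Fin 2) A.F) = !![0, 1; -1, 0] := by
      rw [map_mul, map_mul, show A.ρV z = A.ρV (z ^ 1) by rw [pow_one], hzpow A.ρV 1 1 hX, hg, hX]
      simp only [Matrix.SpecialLinearGroup.coe_mul, Matrix.SpecialLinearGroup.coe_inv, wm_coe, upperHom_coe,
        Matrix.adjugate_fin_two, toAdd_ofAdd]
      ext i j
      fin_cases i <;> fin_cases j <;> simp [Matrix.mul_apply, Fin.sum_univ_two]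
    simp only [map_mul A.ρV d, Matrix.SpecialLinearGroup.coe_mul, hW] at e'
    rw [map_mul, map_mul, map_pow, hzpow A.ρV 1 k hX, hX, hupow, hg] at e'
    simp only [Matrix.SpecialLinearGroup.coe_mul, Matrix.SpecialLinearGroup.coe_inv, wm_coe, upperHom_coe,
      Matrix.adjugate_fin_two, toAdd_ofAdd] at e'
    have e00 := congrFun (congrFun e' 0) 0
    have e01 := congrFun (congrFun e' 0) 1
    have e10 := congrFun (congrFun e' 1) 0
    have e11 := congrFun (congrFun e' 1) 1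
    simp [Matrix.mul_apply, Fin.sum_univ_two] at e00 e01 e10 e11
    refine ⟨by linear_combination e11 - hk2, ?_, e10⟩
    linear_combination e01 - 2 * hk2
  have hdM : d ∈ A.M := (A.nat.borel d).2 hdV.1
  have hdY : (ρY d : Matrix (Fin 2) (Fin 2) A.F) 1 0 = 0 ∧ (ρY d : Matrix (Fin 2) (Fin 2) A.F) 1 1 = k := by
    have h10 := (h.nat.borel d).1 hdM
    refine ⟨h10, ?_⟩
    have hg10 : (ρY g : Matrix (Fin 2) (Fin 2) A.F) 1 0 ≠ 0 := fun e => hgM ((h.nat.borel g).2 e)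
    have hc0 : c ≠ 0 := fun e => by
      have h1 : s₁ ∈ A.Q := (hkY s₁).1 (by rw [hcX, e]; exact map_one _)
      have h2 := (hkV s₁).2 h1
      rw [hX] at h2
      simpa [upperHom_coe] using congrArg (fun m : SL(2, A.F) => (m : Matrix (Fin 2) (Fin 2) A.F) 0 1) h2
    have e : d * (s₁ * z * s₁) = s₁ ^ 2 * z ^ k * s₁ ^ 2 := by rw [hd, inv_mul_cancel_right]
    have e' := congrArg (fun x => (ρY x : Matrix (Fin 2) (Fin 2) A.F)) e
    rw [show z = z ^ 1 by rw [pow_one]] at e'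
    simp only [map_mul ρY, hzpow ρY c _ hcX, hcX, map_pow ρY s₁, hupow, Matrix.SpecialLinearGroup.coe_mul,
      Matrix.SpecialLinearGroup.coe_inv, upperHom_coe, toAdd_ofAdd, ← pow_mul, one_mul] at e'
    have e10 := congrFun (congrFun e' 1) 0
    simp [Matrix.mul_apply, Matrix.vecMul, dotProduct, Fin.sum_univ_two, h10, Matrix.adjugate_fin_two] at e10
    have hne' : c * ((ρY g : Matrix (Fin 2) (Fin 2) A.F) 1 0) ^ 2 ≠ 0 :=
      mul_ne_zero hc0 (pow_ne_zero _ hg10)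
    have e11 : ((ρY d : Matrix (Fin 2) (Fin 2) A.F) 1 1 - k) *
        (c * ((ρY g : Matrix (Fin 2) (Fin 2) A.F) 1 0) ^ 2) = 0 := by linear_combination -e10
    exact sub_eq_zero.1 ((mul_eq_zero.1 e11).resolve_right hne')
  have hconjS : ∀ x ∈ A.P, d * x * d⁻¹ ∈ A.P ∧
      (x ^ 4)⁻¹ * (d * x * d⁻¹) ∈ A.Q := by
    intro x hx
    obtain ⟨a, ha⟩ := A.nat.upper x hx
    have hq : (x ^ 4)⁻¹ * (d * x * d⁻¹) ∈ A.Q := by
      refine (hkV _).1 ?_
      rw [map_mul, map_inv, inv_mul_eq_one, map_mul, map_mul, map_inv, map_pow, ha, hupow,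
        eq_mul_inv_iff_mul_eq]
      refine Subtype.ext ?_
      simp only [Matrix.SpecialLinearGroup.coe_mul, upperHom_coe, toAdd_ofAdd]
      rw [Matrix.eta_fin_two (A.ρV d : Matrix (Fin 2) (Fin 2) A.F)]
      obtain ⟨d10, d00, d11⟩ := hdV
      ext i j
      fin_cases i <;> fin_cases j <;> simp [d10, d00, d11] <;> linear_combination (2 * a) * hk2
    refine ⟨?_, hq⟩
    rw [show d * x * d⁻¹ = x ^ 4 * ((x ^ 4)⁻¹ * (d * x * d⁻¹)) by group]
    exact mul_mem (pow_mem hx 4) (A.Q_le_P hq)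
  have hyk : ψY (y ^ k) = fun i => (k : A.F) * ψY y i := by
    generalize k = n
    induction n with
    | zero => rw [pow_zero, h.nat.map_one]; funext i; simp
    | succ n ih =>
      rw [pow_succ, h.nat.add _ (pow_mem hy n) _ hy, ih]
      funext i
      simp only [Pi.add_apply]
      push_cast
      ring
  have e1 := h.form_conj hdM hy hs ht
  rw [h.form_congr ((Yimg_normal φ).conj_mem y hy d) (pow_mem hy k) ?_ (hconjS s hs).1 (hconjS s hs).2
    (pow_mem hs 4) (hconjS t ht).1 (hconjS t ht).2 (pow_mem ht 4), h.form_pow hy hs ht, hdV.2.1] at e1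
  · have e2 : (12 : A.F) * form A.ψV y s t = 0 := by
      push_cast at e1
      linear_combination 2 * e1 - (16 * form A.ψV y s t) * hk2
    have e3 : ((12 : ℕ) : A.F) = 0 := by exact_mod_cast (mul_eq_zero.1 e2).resolve_right hne
    rw [CharP.cast_eq_zero_iff A.F p] at e3
    rcases (Nat.Prime.dvd_mul hp.out).1 (show p ∣ 4 * 3 from e3) with e | e
    · exact absurd ((Nat.prime_dvd_prime_iff_eq hp.out Nat.prime_two).1
        (hp.out.dvd_of_dvd_pow (show p ∣ 2 ^ 2 from e))) hp2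
    · exact (Nat.prime_dvd_prime_iff_eq hp.out Nat.prime_three).1 e
  · rw [h.nat.equiv d y hy, mulVec_apply, hdY.1, hdY.2, hyk]
    ring

end PairY

namespace Pair

variable {A B : Vtx.{u} p} {φ : A.P ≃* B.P} (h : Pair A B φ)
include h

theorem comm_T_P_center (hp2 : p ≠ 2) (hp3 : p ≠ 3) : ⁅Timg φ, A.P⁆ ≤ Subgroup.center A.G := by
  obtain ⟨ρY, ψY, hnat⟩ := h.exists_natY
  have hY : PairY A B φ ρY ψY := ⟨h, hnat⟩
  have h0 : ∀ y ∈ Yimg φ, ∀ s ∈ A.P, ∀ t ∈ A.P, ⁅t, ⁅s, y⁆⁆ ∈ Subgroup.center A.G := by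
    intro y hy s hs t ht
    have hz := hY.value_mem (hY.comm_mem_E hy hs) ht
    refine (A.zero_iff (A.Z_le_V hz)).1 (funext fun i => ?_)
    fin_cases i
    · by_contra hne
      exact hp3 (hY.eq_three hp2 ⟨y, hy, s, hs, t, ht, hne⟩)
    · exact (A.line_iff (A.Z_le_V hz)).2 hz
  let C : Subgroup A.G :=
    { carrier := {t | ∀ s ∈ A.P, ⁅s, t⁆ ∈ Subgroup.center A.G}
      one_mem' := fun s _ => by rw [commutatorElement_one_right]; exact one_mem _
      mul_mem' := fun {a c} ha hc s hs => by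
        rw [comm_mul_right]
        exact mul_mem (ha s hs) (Subgroup.Normal.conj_mem inferInstance _ (hc s hs) a)
      inv_mem' := fun {a} ha s hs => by
        rw [show ⁅s, a⁻¹⁆ = a⁻¹ * ⁅s, a⁆⁻¹ * a⁻¹⁻¹ by simp only [commutatorElement_def]; group]
        exact Subgroup.Normal.conj_mem inferInstance _ (inv_mem (ha s hs)) a⁻¹ }
  have hTC : Timg φ ≤ C := by
    refine sup_le ?_ fun z hz s hs => ?_
    · rw [Subgroup.commutator_comm]
      exact Subgroup.commutator_le.2 fun s hs a ha t ht => h0 a ha s hs t ht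
    · rw [commutatorElement_eq_one_iff_commute.2 (A.Z_commute hz hs).symm]
      exact one_mem _
  refine Subgroup.commutator_le.2 fun t ht s hs => ?_
  rw [← commutatorElement_inv]
  exact inv_mem (hTC ht s hs)

theorem comm_T_P_eq_bot (hp2 : p ≠ 2) (hp3 : p ≠ 3) : ⁅Timg φ.symm, B.P⁆ = ⊥ := by
  haveI := h.C_normal
  have h1 : ⁅Timg φ, A.P⁆ ≤ tr φ.symm B.R := by
    intro x hx
    have hx' : x ∈ ((A.R ⊔ tr φ.symm B.R : Subgroup A.G) : Set A.G) :=
      (Subgroup.commutator_mono h.T_le_E le_rfl).trans h.comm_E_P hx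
    rw [Subgroup.mul_normal] at hx'
    obtain ⟨r, hr, r', hr', e⟩ := hx'
    have e : r * r' = x := e
    have h2 : r ∈ A.R ⊓ Subgroup.center A.G := ⟨hr, by
      rw [show r = r * r' * r'⁻¹ by group, e]
      exact Subgroup.mul_mem _ (h.comm_T_P_center hp2 hp3 hx) (Subgroup.inv_mem _ (h.central hr'))⟩
    rw [A.R_inf_center hp2, Subgroup.mem_bot] at h2
    rw [← e, h2, one_mul]
    exact hr'
  have h2 := tr_mono φ h1
  rw [tr_comm φ h.T_le_P le_rfl, h.tr_T, tr_self, tr_tr_symm φ B.R_le_P] at h2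
  exact le_bot_iff.1 ((le_inf h2 (h.symm.comm_T_P_center hp2 hp3)).trans (B.R_inf_center hp2).le)

/-- There is no part of the centre inside the second Frattini layer which is not central. -/
theorem le_center {X : Subgroup B.G} (hXZ : X ≤ B.Z) (hX : X ≤ szero p B.P (CD.Offender.phi B.P)) :
    X ≤ Subgroup.center B.G := by
  have hp2 := h.ne_two
  obtain ⟨g, hg⟩ := A.exists_not_mem_M
  have hgP : cj g (Uimg φ) ≤ A.P := (h.cj_U_le g).trans A.Q_le_P
  set U := tr φ (cj g (Uimg φ)) with hU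
  have hUc : ∀ x ∈ U, ∀ y ∈ U, Commute x y := by
    intro x hx y hy
    obtain ⟨a, ha, rfl⟩ := mem_tr.1 hx
    obtain ⟨b, hb, rfl⟩ := mem_tr.1 hy
    rw [mem_cj] at ha hb
    have h1 := ((tr_V_abelian φ.symm _ ha _ hb).map (MulAut.conj g).toMonoidHom)
    have h2 : a * b = b * a := Subtype.ext (by simpa [mul_assoc] using h1.eq)
    exact congrArg Subtype.val (show φ a * φ b = φ b * φ a by rw [← map_mul, h2, map_mul])
  have hUp : ∀ x ∈ U, x ^ p = 1 := by
    intro x hx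
    obtain ⟨a, ha, rfl⟩ := mem_tr.1 hx
    rw [mem_cj] at ha
    have h1 := tr_V_pow φ.symm _ ha
    rw [show (g⁻¹ * (a : A.G) * g) = g⁻¹ * a * g⁻¹⁻¹ by group, conj_pow, conj_eq_one_iff,
      ← SubmonoidClass.coe_pow] at h1
    rw [← SubmonoidClass.coe_pow, ← map_pow, show a ^ p = 1 from Subtype.ext h1, map_one]
    rfl
  have hne : ¬ U ≤ B.Q := fun hle => by
    have h1 := h.full g hg
    rw [← hU, sup_eq_right.2 hle] at h1
    exact not_le_pCore B.st h1.ge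
  have hQU : ⁅B.Q, U⁆ ≤ Timg φ.symm :=
    (Subgroup.commutator_mono le_rfl (tr_mono φ (h.cj_U_le_Y g))).trans h.comm_Q_trY
  by_cases hp3 : p = 3
  · exact B.end_three (tr_le _ _) (h.full g hg) hUc hUp hQU h.symm.T_le_P h.symm.Z_le_T h.symm.comm_T_P
      (fun t ht => h.symm.T_pow ht hp2) hp3 hne hXZ hX
  · refine B.end_central (tr_le _ _) (h.full g hg) hUc hUp (hQU.trans fun t ht => ?_) hne hXZ hX
    refine Subgroup.mem_inf.2 ⟨h.symm.T_le_P ht, Subgroup.mem_centralizer_iff.2 fun s hs => ?_⟩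
    have h1 := Subgroup.commutator_mem_commutator ht hs
    rw [h.comm_T_P_eq_bot hp2 hp3, Subgroup.mem_bot, commutatorElement_eq_one_iff_mul_comm] at h1
    exact h1.symm

end Pair

end CfsgLib.PushFamily
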