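import Cfsg.Agent.Lib.PushFamily.Perm
import Cfsg.Agent.Lib.PushFamily.Forms

/-!
Critical words of a family: their shifts, and the alternative that either all words are good or a
non-empty part of the family has commutators of the module central in the rest.
-/

set_option autoImplicit false
set_option linter.unusedSectionVars false
set_option linter.style.haveILetI false

namespace CfsgLib.PushFamily

open CfsgLib.SL2 CfsgLib.SL2Module CfsgLib.SL2Module.Baumann
open CfsgLib.PushRankOne (cj cj_mono cj_cj cj_eq_of_normal cj_inv_cj cj_cj_inv cj_one cj_comm cj_le_iff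
  mem_cj mem_cj_of_mem card_cj comm_sup_le normal_of_le_center Vc_normal)
open scoped MatrixGroups commutatorElement

universe u

variable {p : ℕ} [hp : Fact p.Prime] {I : Type} [Finite I] {A : I → Vtx.{u} p}

namespace Vtx

open CfsgLib.SL2Module.Baumann in
/-- A part of the centre centralised by an element outside the core and by a conjugate of the Sylow
subgroup is central. -/
theorem le_center_of_cj (B : Vtx.{u} p) {g : B.G} (hg : g ∉ B.M) {W : Subgroup B.G} (hW : W ≤ B.Z)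
    {a : B.G} (haS : a ∈ B.P) (haQ : a ∉ B.Q) {K : Subgroup B.G} (ha : a ∈ K) (h : ⁅cj g W, K⁆ = ⊥) :
    W ≤ Subgroup.center B.G := by
  have htop : Subgroup.centralizer ((cj g W : Subgroup B.G) : Set B.G) = ⊤ := by
    refine B.gen_top hg ?_ ?_ haS haQ
    · rintro _ ⟨s, hs, rfl⟩
      refine Subgroup.mem_centralizer_iff.2 fun x hx => ?_
      obtain ⟨r, hr, rfl⟩ := hx
      have := (B.Z_commute (hW hr) hs).eq
      show g * r * g⁻¹ * (g * s * g⁻¹) = g * s * g⁻¹ * (g * r * g⁻¹)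
      calc g * r * g⁻¹ * (g * s * g⁻¹) = g * (r * s) * g⁻¹ := by group
        _ = g * (s * r) * g⁻¹ := by rw [this]
        _ = _ := by group
    · rw [Subgroup.commutator_eq_bot_iff_le_centralizer, Subgroup.le_centralizer_iff] at h
      exact h ha
  intro r hr
  refine Subgroup.mem_center_iff.2 fun x => ?_
  have h4 := Subgroup.mem_centralizer_iff.1 (htop.ge (Subgroup.mem_top (g * x * g⁻¹))) _
    (mem_cj_of_mem g hr)
  have h5 := congrArg (fun t => g⁻¹ * t * g) h4
  simpa [mul_assoc] using h5.symm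

end Vtx

theorem cj_emb_V (i : I) (g : (A i).G) : cj (emb A i g) (hat A i (A i).V) = hat A i (A i).V := by
  rw [cj_hat, cj_eq_of_normal]

theorem cj_emb_Q (i : I) (g : (A i).G) : cj (emb A i g) (hat A i (A i).Q) = hat A i (A i).Q := by
  haveI := (A i).Q_normal
  rw [cj_hat, cj_eq_of_normal]

theorem good_left {i j : I} (g : (A i).G) (w : Equiv.Perm (Om A)) :
    Good' A i j (emb A i g * w) ↔ Good' A i j w := by
  rw [Good', Good', ← cj_cj]
  conv_lhs => rw [← cj_emb_Q i g]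
  exact cj_le_iff _

theorem good_right {i j : I} (g : (A j).G) (w : Equiv.Perm (Om A)) :
    Good' A i j (w * emb A j g) ↔ Good' A i j w := by
  rw [Good', Good', ← cj_cj, cj_emb_V]

theorem comm_QV (i : I) : ⁅hat A i (A i).Q, hat A i (A i).V⁆ = ⊥ := by
  rw [hat, hat, ← Subgroup.map_commutator, (A i).Q_comm_V, Subgroup.map_bot]

theorem le_Q_of_comm {i : I} {H : Subgroup (Equiv.Perm (Om A))} (hS : H ≤ hat A i (A i).P)
    (hc : ⁅H, hat A i (A i).V⁆ = ⊥) : H ≤ hat A i (A i).Q := by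
  obtain ⟨B, hB, rfl⟩ := exists_hat hS
  refine hat_le.2 fun a ha => (A i).centralizer_inf_P ⟨?_, hB ha⟩
  rw [hat, hat, ← Subgroup.map_commutator, Subgroup.map_eq_bot_iff_of_injective _ (emb_injective A i),
    Subgroup.commutator_eq_bot_iff_le_centralizer] at hc
  exact hc ha

/-- A word whose conjugate of the module lies in the Sylow subgroup but not in the core, at both
ends. -/
structure Crit (A : I → Vtx.{u} p) (i j : I) (w : Equiv.Perm (Om A)) : Prop where
  le : cj w (hat A j (A j).V) ≤ hat A i (A i).P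
  le' : cj w⁻¹ (hat A i (A i).V) ≤ hat A j (A j).P
  bad : ¬ Good' A i j w
  bad' : ¬ Good' A j i w⁻¹
  iso : Nonempty ((A j).P ≃* (A i).P)

theorem Crit.symm {i j : I} {w : Equiv.Perm (Om A)} (h : Crit A i j w) : Crit A j i w⁻¹ :=
  ⟨h.le', by rw [inv_inv]; exact h.le, h.bad', by rw [inv_inv]; exact h.bad, ⟨h.iso.some.symm⟩⟩

theorem Crit.card_le {i j : I} {w : Equiv.Perm (Om A)} (h : Crit A i j w) {B : Subgroup (A i).G}
    (hB : B ≤ (A i).P) (hBw : hat A i B = cj w (hat A j (A j).V)) :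
    Nat.card (A j).F * Nat.card (A i).Q ≤ Nat.card ↥(B ⊔ (A i).Q) := by
  obtain ⟨B', hB', hB'w⟩ := exists_hat h.le'
  have hB'Q : ¬ B' ≤ (A j).Q := fun h' => h.bad' (by rw [Good', ← hB'w]; exact hat_le.2 h')
  obtain ⟨x, hx, hxQ⟩ := SetLike.not_le_iff_exists.1 hB'Q
  have hx1 : w * emb A j x * w⁻¹ ∈ hat A i (A i).V := by
    have h3 : w * emb A j x * w⁻¹ ∈ cj w (hat A j B') := mem_cj_of_mem w ⟨x, hx, rfl⟩
    rwa [hB'w, cj_cj_inv] at h3
  obtain ⟨v₀, hv₀, hv₀e⟩ := hx1
  have hle : hat A i (B ⊓ (A i).Q) ≤ cj w (hat A j (A j).Z) := by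
    rintro _ ⟨a, ha, rfl⟩
    have h3 : emb A i a ∈ cj w (hat A j (A j).V) := hBw ▸ ⟨a, ha.1, rfl⟩
    obtain ⟨_, ⟨v, hv, rfl⟩, e⟩ := h3
    have e' : w * emb A j v * w⁻¹ = emb A i a := e
    refine ⟨emb A j v, ⟨v, ?_, rfl⟩, e⟩
    refine (A j).fixed_of_commute (hB' hx) hxQ hv (emb_injective A j ?_)
    have h4 : Commute (emb A i v₀) (emb A i a) := ((A i).commute_Q ha.2 hv₀).symm.map (emb A i)
    rw [← e', hv₀e] at h4
    rw [map_mul, map_mul]
    have h5 := congrArg (fun z : Equiv.Perm (Om A) => w⁻¹ * z * w) h4.eq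
    simpa [mul_assoc] using h5
  have hcA : Nat.card B = Nat.card (A j).F * Nat.card (A j).Z := by
    rw [← card_hat (i := i) B, hBw, card_cj, card_hat, (A j).card_V]
  have hcI : Nat.card ↥(B ⊓ (A i).Q) ≤ Nat.card (A j).Z := by
    have h3 := Subgroup.card_le_of_le hle
    rwa [card_cj, card_hat, card_hat] at h3
  have h3 := CfsgLib.Offender.Timmesfeld.card_mul_card_le B (A i).Q
  rw [hcA] at h3
  refine Nat.le_of_mul_le_mul_right (?_ : _ * Nat.card (A j).Z ≤ _) Nat.card_pos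
  refine le_trans (le_of_eq ?_) (h3.trans (Nat.mul_le_mul_left _ hcI))
  ring

theorem Crit.cover {i j : I} {w : Equiv.Perm (Om A)} (h : Crit A i j w) :
    ∃ B : Subgroup (A i).G, B ≤ (A i).P ∧ ¬ B ≤ (A i).Q ∧ hat A i B = cj w (hat A j (A j).V) ∧
      B ⊔ (A i).Q = (A i).P := by
  obtain ⟨B, hB, hBw⟩ := exists_hat h.le
  obtain ⟨B', hB', hB'w⟩ := exists_hat h.le'
  refine ⟨B, hB, fun h' => h.bad (by rw [Good', ← hBw]; exact hat_le.2 h'), hBw, ?_⟩
  refine Subgroup.eq_of_le_of_card_ge (sup_le hB (A i).Q_le_P) ?_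
  have h1 := h.card_le hB hBw
  have h2 := (h.symm.card_le hB' hB'w).trans (Subgroup.card_le_of_le (sup_le hB' (A j).Q_le_P))
  rw [(A j).card_P] at h2
  rw [(A i).card_P]
  exact (Nat.mul_le_mul_right _ (Nat.le_of_mul_le_mul_right h2 Nat.card_pos)).trans h1

theorem comm_cover {i : I} {B : Subgroup (A i).G} (hB : B ≤ (A i).P) (hBQ : B ⊔ (A i).Q = (A i).P) :
    ⁅(A i).V, B⁆ = (A i).R := by
  refine le_antisymm (Subgroup.commutator_mono le_rfl hB) ?_
  show ⁅(A i).V, (A i).P⁆ ≤ _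
  conv_lhs => rw [← hBQ]
  refine comm_sup_le (Coprime.le_normalizer_commutator
    (le_top.trans (Subgroup.normalizer_eq_top (H := (A i).V)).ge) Subgroup.le_normalizer) ?_ le_rfl ?_
  · refine fun q hq => Subgroup.mem_normalizer_fintype fun r hr => ?_
    rw [((A i).commute_Q hq (Subgroup.commutator_le_left _ _ hr)).eq, mul_inv_cancel_right]
    exact hr
  · rw [Subgroup.commutator_comm, (A i).Q_comm_V]
    exact bot_le

theorem Crit.cj_R {i j : I} {w : Equiv.Perm (Om A)} (h : Crit A i j w) :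
    cj w (hat A j (A j).R) = hat A i (A i).R := by
  obtain ⟨B, hB, -, hBw, hfull⟩ := h.cover
  obtain ⟨B', hB', -, hB'w, hfull'⟩ := h.symm.cover
  conv_lhs => rw [hat, ← comm_cover hB' hfull', Subgroup.map_commutator, ← hat, ← hat, cj_comm, hB'w,
    cj_cj_inv, ← hBw, Subgroup.commutator_comm, ← Subgroup.map_commutator, comm_cover hB hfull]

/-- An isomorphism moving the module out of the core. -/
def Edge (A : I → Vtx.{u} p) {i k : I} (φ : (A k).P ≃* (A i).P) : Prop :=
  ¬ (tr φ (A k).V ⊔ (A i).V).Normal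

/-! ### Minimal bad words -/

section

variable {b : ℕ} (hmin : ∀ k, k < b → ∀ (i j : I) x, Word A k i j x → Good' A i j x)
include hmin

theorem land_le {k : ℕ} (hk : k < b) {i l j : I} {n x : Equiv.Perm (Om A)} (hn : IsTw A i l n)
    (hx : Word A k l j x) : cj (n * x) (hat A j (A j).V) ≤ hat A i (A i).P := by
  obtain ⟨φ, hφ⟩ := hn
  rw [← cj_cj]
  refine (cj_mono n ((hmin k hk l j x hx).trans (Subgroup.map_mono (A l).Q_le_P))).trans ?_
  rw [cj_twist hφ le_rfl, tr_self]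

theorem good_inv {k : ℕ} (hk : k ≤ b) {i j : I} {x : Equiv.Perm (Om A)} (hx : Word A k i j x)
    (h : Good' A i j x) : Good' A j i x⁻¹ := by
  have hc : ⁅cj x⁻¹ (hat A i (A i).V), hat A j (A j).V⁆ = ⊥ := by
    have h1 : ⁅cj x (hat A j (A j).V), hat A i (A i).V⁆ = ⊥ :=
      le_bot_iff.1 ((Subgroup.commutator_mono h le_rfl).trans (comm_QV i).le)
    have h2 := congrArg (cj x⁻¹) h1
    rwa [cj_comm, cj_inv_cj, Subgroup.commutator_comm, cj, cj, Subgroup.map_bot] at h2
  have hx' := word_inv hx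
  generalize x⁻¹ = z at hc hx'
  cases hx' with
  | zero i g =>
    rw [Good', cj_emb_V]
    exact hat_le.2 (A _).V_le_Q
  | succ g hn hy =>
    rw [mul_assoc, good_left]
    refine le_Q_of_comm (land_le hmin (by omega) hn hy) ?_
    rw [mul_assoc, ← cj_cj] at hc
    have h2 := congrArg (cj (emb A j g⁻¹)) hc
    rwa [cj_comm, cj_emb_V, map_inv, cj_inv_cj, cj, cj, Subgroup.map_bot] at h2

end

section Shift

variable {c : ℕ} (hmin : ∀ k, k < c + 2 → ∀ (i j : I) x, Word A k i j x → Good' A i j x)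
include hmin

theorem crit_of {i l l' j : I} {m n y : Equiv.Perm (Om A)} (hm : IsTw A i l m) (hy : Word A c l l' y)
    (hn : IsTw A l' j n) (hw : ¬ Good' A i j (m * y * n)) : Crit A i j (m * y * n) := by
  have hword : Word A (c + 2) i j (m * y * n) := by
    rw [mul_assoc]
    exact word_cons hm (word_snoc hy hn)
  refine ⟨?_, ?_, hw, fun h => hw ?_, word_iso hword⟩
  · rw [mul_assoc]
    exact land_le hmin (by omega : c + 1 < c + 2) hm (word_snoc hy hn)
  · rw [show (m * y * n)⁻¹ = n⁻¹ * (y⁻¹ * m⁻¹) by group]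
    exact land_le hmin (by omega : c + 1 < c + 2) hn.inv (word_snoc (word_inv hy) hm.inv)
  · simpa using good_inv hmin le_rfl (word_inv hword) h

theorem split {i j : I} {w : Equiv.Perm (Om A)} (hw : Word A (c + 2) i j w) (hbad : ¬ Good' A i j w) :
    ∃ (l l' : I) (m y n : Equiv.Perm (Om A)), IsTw A i l m ∧ Word A c l l' y ∧ IsTw A l' j n ∧
      ¬ Good' A i j (m * y * n) := by
  cases hw with
  | succ g hm hy =>
    obtain ⟨l', y', n, h, hn, hy', rfl⟩ := word_last hy
    refine ⟨_, l', _, y', n, hm, hy', hn, fun h' => hbad ?_⟩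
    rw [← mul_assoc, ← mul_assoc, good_right, mul_assoc, mul_assoc, good_left, ← mul_assoc]
    exact h'

/-- The shift of a critical word. -/
theorem shift {i k : I} {φ : (A k).P ≃* (A i).P} (hφ : Edge A φ) {n : Equiv.Perm (Om A)}
    (hn : Twist A φ n) {g : (A i).G} (hg : g ∉ (A i).M) {l l' j : I} {n₁ n₂ y : Equiv.Perm (Om A)}
    (h₁ : IsTw A i l n₁) (hy : Word A c l l' y) (h₂ : IsTw A l' j n₂)
    (hw : ¬ Good' A i j (n₁ * y * n₂)) :
    ¬ Good' A k l' (n⁻¹ * emb A i g⁻¹ * (n₁ * y)) ∧ tr φ (A k).R ≤ Subgroup.center (A i).G := by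
  have hC := crit_of hmin h₁ hy h₂ hw
  obtain ⟨B, hBS, hBQ, hBw, -⟩ := hC.cover
  have hwR := hC.cj_R
  obtain ⟨φ₂, hφ₂⟩ := h₂
  obtain ⟨a, ha, haQ⟩ := SetLike.not_le_iff_exists.1 hBQ
  set z := n⁻¹ * emb A i g⁻¹ * (n₁ * y) with hz
  have hu : n₁ * y * z⁻¹ = emb A i g * n := by rw [hz, map_inv]; group
  have hzW : Word A (c + 2) k l' z := by
    rw [hz, mul_assoc]
    exact word_cons (IsTw.inv ⟨φ, hn⟩) (mul_word (word_cons h₁ hy) _)
  have hU : cj (emb A i g * n) (hat A k (A k).V) = hat A i (cj g (tr φ (A k).V)) := by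
    rw [← cj_cj, cj_twist hn (A k).V_le_P, cj_hat]
  have hS : cj g (A i).P ≤
      Subgroup.normalizer ((cj g (tr φ (A k).V) : Subgroup (A i).G) : Set (A i).G) := by
    rintro _ ⟨s, hs, rfl⟩
    refine Subgroup.mem_normalizer_fintype fun x hx => ?_
    rw [SetLike.mem_coe, mem_cj] at hx ⊢
    have h := tr_norm φ ((Subgroup.normalizer_eq_top (H := (A k).V)).ge.trans' le_top) s hs _ hx
    convert h using 1
    simp [mul_assoc]
  have hcrit : ¬ Good' A k l' z := by
    intro hP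
    have h1 := good_inv hmin le_rfl hzW hP
    have h2 : ⁅cj (emb A i g * n) (hat A k (A k).V), hat A i B⁆ ≤ hat A i (A i).R := by
      rw [hBw, ← hu, ← cj_cj (n₁ * y) z⁻¹, ← cj_cj (n₁ * y) n₂, ← cj_comm, cj_twist hφ₂ (A j).V_le_P]
      refine (cj_mono _ (Subgroup.commutator_mono (h1.trans (Subgroup.map_mono (A l').Q_le_P)) le_rfl)).trans ?_
      rw [← Subgroup.map_commutator, Subgroup.commutator_comm, show ⁅tr φ₂ (A j).V, (A l').P⁆ =
        tr φ₂ (A j).R from comm_tr_V φ₂, ← hat, ← cj_twist hφ₂ (A j).R_le_P, cj_cj, hwR]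
    rw [hU, ← Subgroup.map_commutator, ← hat, hat_le] at h2
    have htop : Subgroup.normalizer ((cj g (tr φ (A k).V) ⊔ (A i).V : Subgroup (A i).G) :
        Set (A i).G) = ⊤ := by
      refine (A i).gen_top hg (fun x hx => ?_) ?_ (hBS ha) haQ
      · exact LocalCGT.le_normalizer_sup hS
          (le_top.trans (Subgroup.normalizer_eq_top (H := (A i).V)).ge) hx
      · refine Subgroup.mem_normalizer_fintype fun x hx => ?_
        have hle : cj g (tr φ (A k).V) ⊔ (A i).V ≤
            (cj g (tr φ (A k).V) ⊔ (A i).V).comap (MulAut.conj a).toMonoidHom := by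
          refine sup_le (fun x hx => ?_) fun x hx =>
            Subgroup.mem_sup_right ((Vc_normal (A i).S).conj_mem x hx a)
          show a * x * a⁻¹ ∈ cj g (tr φ (A k).V) ⊔ (A i).V
          rw [show a * x * a⁻¹ = ⁅x, a⁆⁻¹ * x by simp only [commutatorElement_def]; group]
          exact mul_mem (inv_mem (Subgroup.mem_sup_right ((A i).R_le_V
            (h2 (Subgroup.commutator_mem_commutator hx ha))))) (Subgroup.mem_sup_left hx)
        exact hle hx
    haveI : (cj g (tr φ (A k).V) ⊔ (A i).V).Normal := Subgroup.normalizer_eq_top_iff.1 htop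
    refine hφ ?_
    have h3 : tr φ (A k).V ⊔ (A i).V = cj g⁻¹ (cj g (tr φ (A k).V) ⊔ (A i).V) := by
      rw [cj, Subgroup.map_sup, ← cj, ← cj, cj_inv_cj, cj_eq_of_normal g⁻¹ (A i).V]
    rw [h3, cj_eq_of_normal]
    infer_instance
  refine ⟨hcrit, ?_⟩
  obtain ⟨l'', y'', n'', g'', hn'', hy'', he⟩ := word_last (mul_word (word_cons h₁ hy) g⁻¹)
  have hz' : z = n⁻¹ * y'' * n'' * emb A l' g'' := by rw [hz, mul_assoc n⁻¹, he]; group
  have hcrit' : ¬ Good' A k l' (n⁻¹ * y'' * n'') := fun h => hcrit (by rw [hz', good_right]; exact h)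
  have hzR := (crit_of hmin (IsTw.inv ⟨φ, hn⟩) hy'' hn'' hcrit').cj_R
  have h1 : hat A i (cj g (tr φ (A k).R)) ≤ cj (n₁ * y) (hat A l' (A l').V) := by
    have h2 : cj (emb A i g * n) (hat A k (A k).R) = hat A i (cj g (tr φ (A k).R)) := by
      rw [← cj_cj, cj_twist hn (A k).R_le_P, cj_hat]
    rw [← h2, ← hu]
    conv_lhs => rw [← hzR]
    rw [cj_cj, show n₁ * y * z⁻¹ * (n⁻¹ * y'' * n'') = n₁ * y * emb A l' g''⁻¹ by
      rw [hz', map_inv]; group, ← cj_cj]
    refine cj_mono _ ?_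
    rw [cj_hat]
    exact Subgroup.map_mono ((cj_mono _ (A l').R_le_V).trans (cj_eq_of_normal _ _).le)
  have h2 : ⁅cj (n₁ * y) (hat A l' (A l').V), hat A i B⁆ = ⊥ := by
    rw [hBw, ← cj_cj (n₁ * y) n₂, ← cj_comm]
    have h3 : cj n₂ (hat A j (A j).V) ≤ hat A l' (A l').Q :=
      hmin 1 (by omega) l' j n₂ (by simpa using word_cons ⟨φ₂, hφ₂⟩ (one_word j))
    rw [Subgroup.commutator_comm,
      le_bot_iff.1 ((Subgroup.commutator_mono h3 le_rfl).trans (comm_QV l').le), cj, Subgroup.map_bot]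
  have h3 : ⁅cj g (tr φ (A k).R), B⁆ = ⊥ := by
    refine (Subgroup.map_eq_bot_iff_of_injective _ (emb_injective A i)).1 ?_
    rw [Subgroup.map_commutator]
    exact le_bot_iff.1 ((Subgroup.commutator_mono h1 le_rfl).trans h2.le)
  exact (A i).le_center_of_cj hg (tr_R_le_Z φ) (hBS ha) haQ ha h3

/-- Shift of an arbitrary critical word, with the conjugating element left free. -/
theorem shift_any {i k l' j : I} {φ : (A k).P ≃* (A i).P} (hφ : Edge A φ) {n : Equiv.Perm (Om A)}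
    (hn : Twist A φ n) {X n₂ : Equiv.Perm (Om A)} (hX : Word A (c + 1) i l' X) (h₂ : IsTw A l' j n₂)
    (hw : ¬ Good' A i j (X * n₂)) :
    ∃ g : (A i).G, ¬ Good' A k l' (n⁻¹ * emb A i g * X) := by
  obtain ⟨g, hg⟩ := (A i).exists_not_mem_M
  cases hX with
  | succ a h₁ hy =>
    have h := (shift hmin hφ hn hg h₁ hy h₂ (fun h => hw (by
      rw [mul_assoc, mul_assoc, good_left, ← mul_assoc]; exact h))).1
    refine ⟨g⁻¹ * a⁻¹, fun h' => h ?_⟩
    convert h' using 1
    rw [map_mul, map_inv (emb A i) a]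
    group

/-- The first twist of a critical word gives an edge in the reverse direction. -/
theorem first_good {i l l' j : I} {β : (A l).P ≃* (A i).P} {m n y : Equiv.Perm (Om A)}
    (hm : Twist A β m) (hy : Word A c l l' y) (hn : IsTw A l' j n)
    (hw : ¬ Good' A i j (m * y * n)) : Edge A β.symm := by
  intro hN
  haveI := hN
  obtain ⟨g, hg⟩ : ∃ g : (A l).G, ∀ a k k', IsTw A a l' k' → IsTw A l i k →
      a = j → Word A (c + 1) a i (k' * (y⁻¹ * emb A l g) * k) := by
    have hy' := word_inv hy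
    generalize y⁻¹ = z at hy'
    cases c with
    | zero =>
      cases hy' with
      | zero _ h =>
        refine ⟨h⁻¹, fun a k k' hk' hk _ => ?_⟩
        rw [← map_mul, mul_inv_cancel, map_one, mul_one]
        simpa using word_cons (hk'.mul hk) (one_word i)
    | succ c =>
      obtain ⟨l₂, y₂, q, h, hq, hy₂, rfl⟩ := word_last hy'
      refine ⟨h⁻¹, fun a k k' hk' hk _ => ?_⟩
      rw [show k' * (y₂ * q * emb A l h * emb A l h⁻¹) * k = k' * (y₂ * (q * k)) by
        rw [map_inv]; group]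
      exact word_cons hk' (word_snoc hy₂ (hq.mul hk))
  set W := tr β.symm (A i).V ⊔ (A l).V with hW
  have h1 : cj m⁻¹ (hat A i (A i).V) ≤
      cj (emb A l g * m⁻¹) (hat A i (A i).V) ⊔ hat A l (A l).V := by
    rw [← cj_cj (emb A l g) m⁻¹, cj_twist (twist_inv hm) (A i).V_le_P, cj_hat, ← Subgroup.map_sup, hat,
      hat_le]
    refine (le_sup_left : _ ≤ W).trans (le_of_eq ?_)
    conv_lhs => rw [← cj_eq_of_normal g (tr β.symm (A i).V ⊔ (A l).V)]
    rw [cj, Subgroup.map_sup, ← cj, ← cj, cj_eq_of_normal g (A l).V]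
  apply hw
  have hword : Word A (c + 2) j i (m * y * n)⁻¹ := by
    refine word_inv ?_
    rw [mul_assoc]
    exact word_cons ⟨β, hm⟩ (word_snoc hy hn)
  rw [← inv_inv (m * y * n)]
  refine good_inv hmin le_rfl hword ?_
  rw [Good', show (m * y * n)⁻¹ = (n⁻¹ * y⁻¹) * m⁻¹ by group, ← cj_cj]
  refine (cj_mono _ h1).trans ?_
  rw [cj, Subgroup.map_sup, ← cj, ← cj, cj_cj]
  refine sup_le ?_ (hmin (c + 1) (by omega) j l _ (word_cons hn.inv (word_inv hy)))
  refine hmin (c + 1) (by omega) j i _ ?_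
  rw [show n⁻¹ * y⁻¹ * (emb A l g * m⁻¹) = n⁻¹ * (y⁻¹ * emb A l g) * m⁻¹ by group]
  exact hg j _ _ hn.inv (IsTw.inv ⟨β, hm⟩) rfl

end Shift

/-- The words made of twists along edges towards the front. -/
inductive EWord (A : I → Vtx.{u} p) : ℕ → I → I → Equiv.Perm (Om A) → Prop
  | zero (i : I) (g : (A i).G) : EWord A 0 i i (emb A i g)
  | succ {t : ℕ} {a a' b : I} {φ : (A a).P ≃* (A a').P} {n u : Equiv.Perm (Om A)} (hφ : Edge A φ)
      (hn : Twist A φ n) (g : (A a').G) (hu : EWord A t a' b u) :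
      EWord A (t + 1) a b (n⁻¹ * emb A a' g * u)

theorem EWord.word {t : ℕ} {a b : I} {u : Equiv.Perm (Om A)} (h : EWord A t a b u) :
    Word A t a b u := by
  induction h with
  | zero i g => exact .zero i g
  | succ hφ hn g hu ih =>
    rw [mul_assoc]
    exact word_cons (IsTw.inv ⟨_, hn⟩) (mul_word ih g)

theorem EWord.last {t : ℕ} {a b : I} {u : Equiv.Perm (Om A)} (h : EWord A t a b u) :
    ∀ s, t = s + 1 → ∃ (a' : I) (φ : (A a').P ≃* (A b).P) (n y : Equiv.Perm (Om A)) (g : (A b).G),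
      Edge A φ ∧ Twist A φ n ∧ Word A s a a' y ∧ u = y * n⁻¹ * emb A b g := by
  induction h with
  | zero i g => intro s hs; omega
  | @succ t a a' b φ n u hφ hn g hu ih =>
    intro s hs
    obtain rfl : t = s := by omega
    cases t with
    | zero =>
      cases hu with
      | zero _ h =>
        exact ⟨a, φ, n, 1, g * h, hφ, hn, one_word a, by rw [map_mul, one_mul]; group⟩
    | succ t =>
      obtain ⟨a₁, φ₁, n₁, y, g₁, hφ₁, hn₁, hy, e⟩ := ih t rfl
      exact ⟨a₁, φ₁, n₁, n⁻¹ * emb A a' g * y, g₁, hφ₁, hn₁, by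
        rw [mul_assoc]; exact word_cons (IsTw.inv ⟨φ, hn⟩) (mul_word hy g), by rw [e]; group⟩

theorem word_append {a : ℕ} {i l : I} {x : Equiv.Perm (Om A)} (hx : Word A a i l x) :
    ∀ {b : ℕ} {j : I} {y : Equiv.Perm (Om A)}, Word A b l j y → Word A (a + b) i j (x * y) := by
  induction hx with
  | zero i g => intro b j y hy; rw [Nat.zero_add]; exact mul_word hy g
  | @succ k i l j' n z g hn hz ih =>
    intro b j y hy
    rw [show k + 1 + b = (k + b) + 1 by omega, mul_assoc]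
    exact .succ g hn (ih hy)

section Alternative

variable {c : ℕ} (hmin : ∀ k, k < c + 2 → ∀ (i j : I) x, Word A k i j x → Good' A i j x)
include hmin

/-- A chain of edges into critical ends gives a critical word beginning with an edge. -/
theorem exists_twoway {C : I → Prop} (hC : ∀ i, C i → ∃ k, ∃ φ : (A k).P ≃* (A i).P, Edge A φ ∧ C k)
    {i₀ j₀ : I} {w : Equiv.Perm (Om A)} (hi₀ : C i₀) (hw : Word A (c + 2) i₀ j₀ w)
    (hbad : ¬ Good' A i₀ j₀ w) :
    ∃ (i k l' j : I) (φ : (A k).P ≃* (A i).P) (n y n' : Equiv.Perm (Om A)), Edge A φ ∧ Twist A φ n ∧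
      Word A c k l' y ∧ IsTw A l' j n' ∧ ¬ Good' A i j (n * y * n') := by
  have key : ∀ t, t ≤ c + 2 → ∃ (a b j : I) (u x : Equiv.Perm (Om A)), EWord A t a b u ∧
      Word A (c + 2 - t) b j x ∧ C a ∧ ¬ Good' A a j (u * x) := by
    intro t
    induction t with
    | zero =>
      intro _
      exact ⟨i₀, i₀, j₀, _, w, .zero i₀ 1, hw, hi₀, by rwa [map_one, one_mul]⟩
    | succ t ih =>
      intro ht
      obtain ⟨a, b, j, u, x, hu, hx, hCa, hb⟩ := ih (by omega)
      rw [show c + 2 - t = (c + 1 - t) + 1 by omega] at hx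
      obtain ⟨l', x', n₂, g, hn₂, hx', rfl⟩ := word_last hx
      rw [← mul_assoc, ← mul_assoc, good_right] at hb
      obtain ⟨k, φ, hφ, hCk⟩ := hC a hCa
      obtain ⟨n, hn⟩ := exists_twist (A := A) φ
      have hX : Word A (c + 1) a l' (u * x') := by
        have h := word_append hu.word hx'
        rwa [show t + (c + 1 - t) = c + 1 by omega] at h
      obtain ⟨g', hg'⟩ := shift_any hmin hφ hn hX hn₂ hb
      refine ⟨k, b, l', _, x', .succ hφ hn g' hu, ?_, hCk, ?_⟩
      · rwa [show c + 2 - (t + 1) = c + 1 - t by omega]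
      · rwa [mul_assoc]
  obtain ⟨a, b, j, u, x, hu, hx, -, hb⟩ := key (c + 2) le_rfl
  rw [Nat.sub_self] at hx
  cases hx with
  | zero _ h =>
    rw [good_right] at hb
    obtain ⟨a', φ, n, y, g, hφ, hn, hy, rfl⟩ := hu.last (c + 1) rfl
    rw [good_right] at hb
    obtain ⟨l', y', n', h', hn', hy', e⟩ := word_last (word_inv hy)
    refine ⟨b, a', l', a, φ, n, y', n', hφ, hn, hy', hn', fun hgood => hb ?_⟩
    have hword : Word A (c + 2) b a (n * (y' * n' * emb A a h')) :=
      word_cons ⟨φ, hn⟩ (word_mul (word_snoc hy' hn') h')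
    have h1 := good_inv hmin le_rfl hword (by
      rw [← mul_assoc, ← mul_assoc, good_right]; exact hgood)
    rwa [← e, mul_inv_rev, inv_inv] at h1

/-- A critical word beginning with an edge gives two members critical for each other. -/
theorem twoway {i k l' j : I} {φ : (A k).P ≃* (A i).P} {n y n' : Equiv.Perm (Om A)} (hφ : Edge A φ)
    (hn : Twist A φ n) (hy : Word A c k l' y) (hn' : IsTw A l' j n')
    (hw : ¬ Good' A i j (n * y * n')) :
    ∃ (i k : I) (φ : (A k).P ≃* (A i).P), Pair (A k) (A i) φ := by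
  have hφ' : Edge A φ.symm := first_good hmin hn hy hn' hw
  obtain ⟨g₀, hg₀⟩ := (A i).exists_not_mem_M
  obtain ⟨h1, hR⟩ := shift hmin hφ hn hg₀ ⟨φ, hn⟩ hy hn' hw
  obtain ⟨g₁, hg₁⟩ := (A k).exists_not_mem_M
  cases c with
  | succ d =>
    exfalso
    obtain ⟨l₃, ym, q, h, hq, hym, rfl⟩ := word_last hy
    obtain ⟨B, hBS, hBQ, hBw, -⟩ := (crit_of hmin ⟨φ, hn⟩ hy hn' hw).cover
    obtain ⟨a, ha, haQ⟩ := SetLike.not_le_iff_exists.1 hBQ
    set X₁ := emb A i g₀⁻¹ * (n * ym) with hX₁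
    have hX₁w : Word A (d + 1) i l₃ X₁ := mul_word (word_cons ⟨φ, hn⟩ hym) _
    have hb3 : ¬ Good' A k l' (n⁻¹ * X₁ * q) := fun h' => h1 (by
      rw [show n⁻¹ * emb A i g₀⁻¹ * (n * (ym * q * emb A l' h)) = n⁻¹ * X₁ * q * emb A l' h by
        rw [hX₁]; group, good_right]
      exact h')
    obtain ⟨h2, hR'⟩ := shift hmin hφ' (twist_inv hn) hg₁ (IsTw.inv ⟨φ, hn⟩) hX₁w hq hb3
    rw [inv_inv] at h2
    obtain ⟨l₄, y4, n4, h4, hn4, hy4, he4⟩ :=
      word_last (mul_word (word_cons (IsTw.inv ⟨φ, hn⟩) hX₁w) g₁⁻¹)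
    have hR3 : cj (n * y4 * n4) (hat A l₃ (A l₃).R) = hat A i (A i).R :=
      (crit_of hmin ⟨φ, hn⟩ hy4 hn4 fun h' => h2 (by
        rw [mul_assoc n, he4, show n * (y4 * n4 * emb A l₃ h4) = n * y4 * n4 * emb A l₃ h4 by group,
          good_right]
        exact h')).cj_R
    have h5 : hat A i (cj g₀ (A i).R) ≤ cj (n * ym) (hat A l₃ (A l₃).V) := by
      have e : n * y4 * n4 = n * emb A k g₁⁻¹ * n⁻¹ * X₁ * (emb A l₃ h4)⁻¹ := by
        rw [show n * emb A k g₁⁻¹ * n⁻¹ * X₁ = n * (emb A k g₁⁻¹ * (n⁻¹ * X₁)) by group, he4]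
        group
      haveI := normal_of_le_center hR'
      have h6 : cj (n * emb A k g₁ * n⁻¹) (hat A i (A i).R) = hat A i (A i).R := by
        rw [← cj_cj, ← cj_cj, cj_twist (twist_inv hn) (A i).R_le_P, cj_hat,
          cj_eq_of_normal g₁ (tr φ.symm (A i).R), ← cj_twist (twist_inv hn) (A i).R_le_P, cj_cj_inv]
      rw [← cj_hat, ← h6]
      conv_lhs => rw [← hR3]
      rw [cj_cj, cj_cj, e, show emb A i g₀ * (n * emb A k g₁ * n⁻¹) * (n * emb A k g₁⁻¹ * n⁻¹ * X₁ *
          (emb A l₃ h4)⁻¹) = (n * ym) * emb A l₃ h4⁻¹ by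
        rw [hX₁, map_inv, map_inv, map_inv]; group, ← cj_cj]
      refine cj_mono _ ?_
      rw [cj_hat]
      exact Subgroup.map_mono ((cj_mono _ (A l₃).R_le_V).trans (cj_eq_of_normal _ _).le)
    have h7 : ⁅cj (n * ym) (hat A l₃ (A l₃).V), hat A i B⁆ = ⊥ := by
      rw [hBw, show n * (ym * q * emb A l' h) * n' = (n * ym) * (q * (emb A l' h * n')) by group,
        ← cj_cj (n * ym) (q * (emb A l' h * n')), ← cj_comm]
      have h8 : cj (q * (emb A l' h * n')) (hat A j (A j).V) ≤ hat A l₃ (A l₃).Q :=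
        hmin 2 (by omega) l₃ j _ (word_cons hq (mul_word (by
          simpa using word_cons hn' (one_word j)) h))
      rw [Subgroup.commutator_comm,
        le_bot_iff.1 ((Subgroup.commutator_mono h8 le_rfl).trans (comm_QV l₃).le), cj, Subgroup.map_bot]
    have h9 : ⁅cj g₀ (A i).R, B⁆ = ⊥ := by
      refine (Subgroup.map_eq_bot_iff_of_injective _ (emb_injective A i)).1 ?_
      rw [Subgroup.map_commutator]
      exact le_bot_iff.1 ((Subgroup.commutator_mono h5 le_rfl).trans h7.le)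
    exact (A i).R_not_le_center ((A i).le_center_of_cj hg₀ (A i).R_le_Z (hBS ha) haQ ha h9)
  | zero =>
    cases hy with
    | zero _ h =>
      have hA : ∀ g, g ∉ (A i).M → ¬ Good' A k k (n⁻¹ * emb A i g * n) := by
        intro g hg h'
        refine (shift hmin hφ hn (g := g⁻¹) (fun e => hg (by simpa using inv_mem e)) ⟨φ, hn⟩
          (.zero k h) hn' hw).1 ?_
        rw [inv_inv, ← mul_assoc, good_right]
        exact h'
      have hg₀' : g₀⁻¹ ∉ (A i).M := fun e => hg₀ (by simpa using inv_mem e)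
      have hB : ∀ g, g ∉ (A k).M → ¬ Good' A i i (n * emb A k g * n⁻¹) ∧
          tr φ.symm (A i).R ≤ Subgroup.center (A k).G := by
        intro g hg
        obtain ⟨h2, h3⟩ := shift hmin hφ' (twist_inv hn) (g := g⁻¹) (fun e => hg (by simpa using inv_mem e))
          (IsTw.inv ⟨φ, hn⟩) (.zero i g₀⁻¹) ⟨φ, hn⟩ (hA _ hg₀')
        refine ⟨fun h' => h2 ?_, h3⟩
        rw [inv_inv, inv_inv, ← mul_assoc, good_right]
        exact h'
      have hQ : tr φ (A k).V ≤ (A i).Q := by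
        have h2 := hmin 1 (by omega) i k n (by simpa using word_cons ⟨φ, hn⟩ (one_word k))
        rwa [Good', cj_twist hn (A k).V_le_P, hat_le] at h2
      have hQ' : tr φ.symm (A i).V ≤ (A k).Q := by
        have h2 := hmin 1 (by omega) k i n⁻¹
          (by simpa using word_cons (IsTw.inv ⟨φ, hn⟩) (one_word i))
        rwa [Good', cj_twist (twist_inv hn) (A i).V_le_P, hat_le] at h2
      refine ⟨i, k, φ, ⟨hQ, hQ', hφ', ?_, (hB g₁ hg₁).2, hR, ?_, ?_⟩⟩
      · show ¬ (tr φ.symm.symm (A k).V ⊔ (A i).V).Normal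
        rw [MulEquiv.symm_symm]
        exact hφ
      · intro g hg
        obtain ⟨B, -, -, hBw, hfull⟩ :=
          (crit_of hmin ⟨φ, hn⟩ (.zero k g) (IsTw.inv ⟨φ, hn⟩) (hB g hg).1).cover
        haveI := (A k).Q_normal
        rw [← cj_cj, ← cj_cj, cj_twist (twist_inv hn) (A i).V_le_P, cj_hat, cj_twist hn
          (((cj_mono g hQ').trans (cj_eq_of_normal g (A k).Q).le).trans (A k).Q_le_P)] at hBw
        rwa [hat_inj hBw] at hfull
      · intro g hg
        obtain ⟨B, -, -, hBw, hfull⟩ :=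
          (crit_of hmin (IsTw.inv ⟨φ, hn⟩) (.zero i g) ⟨φ, hn⟩ (hA g hg)).cover
        haveI := (A i).Q_normal
        rw [← cj_cj, ← cj_cj, cj_twist hn (A k).V_le_P, cj_hat, cj_twist (twist_inv hn)
          (((cj_mono g hQ).trans (cj_eq_of_normal g (A i).Q).le).trans (A i).Q_le_P)] at hBw
        show tr φ.symm (cj g (Uimg φ.symm)) ⊔ (A k).Q = (A k).P
        rw [Uimg, MulEquiv.symm_symm, ← hat_inj hBw]
        exact hfull

/-- The alternative for a critical end and another member. -/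
theorem dichotomy {i l l' j x : I} {m y n : Equiv.Perm (Om A)} (hm : IsTw A i l m)
    (hy : Word A c l l' y) (hn : IsTw A l' j n) (hw : ¬ Good' A i j (m * y * n))
    (δ : (A x).P ≃* (A i).P) :
    tr δ (A x).R ≤ Subgroup.center (A i).G ∨
      (tr δ (A x).R = (A i).R ∧ ∃ d, Twist A δ d ∧ ¬ Good' A x j (d⁻¹ * m * y * n)) := by
  obtain ⟨d, hd⟩ := exists_twist (A := A) δ
  by_cases hE : Edge A δ
  · obtain ⟨g, hg⟩ := (A i).exists_not_mem_M
    exact Or.inl (shift hmin hE hd hg hm hy hn hw).2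
  have hC := crit_of hmin hm hy hn hw
  by_cases hx : Good' A x j (d⁻¹ * m * y * n)
  swap
  · refine Or.inr ⟨?_, d, hd, hx⟩
    have hC' := (crit_of hmin ((IsTw.inv ⟨δ, hd⟩).mul hm) hy hn hx).cj_R
    apply hat_inj
    rw [← cj_twist hd (A x).R_le_P, ← hC', cj_cj, show d * (d⁻¹ * m * y * n) = m * y * n by group, hC.cj_R]
  left
  obtain ⟨U, hU, -, hUw, hUQ⟩ := hC.cover
  haveI hW : (tr δ (A x).V ⊔ (A i).V).Normal := not_not.1 hE
  haveI := (A i).Q_normal
  set W := tr δ (A x).V ⊔ (A i).V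
  have hle : ⁅(A i).Q, W⁆ ≤ tr δ (A x).R := by
    refine comm_sup_le ((tr_le _ _).trans ((A i).P_le_normalizer_of_le_Z (tr_R_le_Z δ)))
      ((A i).V_le_P.trans ((A i).P_le_normalizer_of_le_Z (tr_R_le_Z δ))) ?_
      ((A i).Q_comm_V.le.trans bot_le)
    rw [Subgroup.commutator_comm, ← comm_tr_V δ]
    exact Subgroup.commutator_mono le_rfl (A i).Q_le_P
  have hcen : ⁅(A i).Q, W⁆ ≤ Subgroup.center (A i).G :=
    (A i).center_of_normal (hle.trans (tr_R_le_Z δ))
  have hUV : ⁅tr δ (A x).V, U⁆ = ⊥ := by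
    refine (Subgroup.map_eq_bot_iff_of_injective _ (emb_injective A i)).1 ?_
    rw [Subgroup.map_commutator, ← hat, ← hat, ← cj_twist hd (A x).V_le_P, hUw,
      show m * y * n = d * (d⁻¹ * m * y * n) by group, ← cj_cj, ← cj_comm, Subgroup.commutator_comm,
      le_bot_iff.1 ((Subgroup.commutator_mono hx le_rfl).trans (comm_QV x).le), cj, Subgroup.map_bot]
  rw [← comm_tr_V δ]
  haveI := normal_of_le_center (le_refl (Subgroup.center (A i).G))
  refine (Subgroup.commutator_mono le_rfl hUQ.ge).trans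
    (PushRankOne.comm_sup_le_normal (hUV.le.trans bot_le) ?_)
  rw [Subgroup.commutator_comm]
  exact (Subgroup.commutator_mono le_rfl le_sup_left).trans hcen

omit hmin in
/-- Two members critical for each other contradict a non-central part of the second layer. -/
theorem pair_false (hX : ∀ i, ∃ X : Subgroup (A i).G, X ≤ (A i).Z ∧
      X ≤ szero p (A i).P (CD.Offender.phi (A i).P) ∧ ¬ X ≤ Subgroup.center (A i).G)
    (h : ∃ (i k : I) (φ : (A k).P ≃* (A i).P), Pair (A k) (A i) φ) : False := by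
  obtain ⟨i, k, φ, hP⟩ := h
  obtain ⟨X, hXZ, hXs, hXn⟩ := hX i
  exact hXn (hP.le_center hXZ hXs)

/-- A non-empty part of the family has commutators of the module central in the rest. -/
theorem exists_part (hX : ∀ i, ∃ X : Subgroup (A i).G, X ≤ (A i).Z ∧
      X ≤ szero p (A i).P (CD.Offender.phi (A i).P) ∧ ¬ X ≤ Subgroup.center (A i).G)
    (hex : ∃ (i j : I) (w : Equiv.Perm (Om A)), Word A (c + 2) i j w ∧ ¬ Good' A i j w) :
    ∃ D : I → Prop, (∃ x, D x) ∧ (∃ y, ¬ D y) ∧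
      ∀ x y, D x → ¬ D y → ∀ γ : (A x).P ≃* (A y).P, tr γ (A x).R ≤ Subgroup.center (A y).G := by
  classical
  let C : I → Prop := fun i => ∃ j w, Word A (c + 2) i j w ∧ ¬ Good' A i j w
  by_cases hall : ∀ i, C i → ∃ k, ∃ φ : (A k).P ≃* (A i).P, Edge A φ
  · exfalso
    obtain ⟨i₀, j₀, w₀, hw₀, hb₀⟩ := hex
    have hC : ∀ i, C i → ∃ k, ∃ φ : (A k).P ≃* (A i).P, Edge A φ ∧ C k := by
      intro i hi
      obtain ⟨k, φ, hφ⟩ := hall i hi
      refine ⟨k, φ, hφ, ?_⟩
      obtain ⟨j, w, hw, hb⟩ := hi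
      obtain ⟨l, l', m, y, n, hm, hy, hn, hb'⟩ := split hmin hw hb
      obtain ⟨d, hd⟩ := exists_twist (A := A) φ
      obtain ⟨g, hg⟩ := (A i).exists_not_mem_M
      exact ⟨l', _, by
        rw [mul_assoc]
        exact word_cons (IsTw.inv ⟨φ, hd⟩) (mul_word (word_cons hm hy) _),
        (shift hmin hφ hd hg hm hy hn hb').1⟩
    obtain ⟨i, k, l', j, φ, n, y, n', hφ, hn, hy, hn', hb⟩ :=
      exists_twoway hmin hC ⟨j₀, w₀, hw₀, hb₀⟩ hw₀ hb₀
    exact pair_false hX (twoway hmin hφ hn hy hn' hb)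
  push Not at hall
  obtain ⟨i, ⟨j, w, hw, hb⟩, hno⟩ := hall
  obtain ⟨l, l', m, y, n, hm, hy, hn, hb⟩ := split hmin hw hb
  refine ⟨fun x => ∀ δ : (A x).P ≃* (A i).P, tr δ (A x).R ≤ Subgroup.center (A i).G, ⟨l, ?_⟩, ⟨i, ?_⟩, ?_⟩
  · intro δ
    rcases dichotomy hmin hm hy hn hb δ with h | ⟨-, d, hd, hbl⟩
    · exact h
    exfalso
    obtain ⟨β, hβ⟩ := hm
    have hα : Twist A (β.trans δ.symm) (d⁻¹ * m) := twist_mul (twist_inv hd) hβ
    have hE := first_good hmin hα hy hn hbl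
    have hword : Word A (c + 2) l j (d⁻¹ * m * y * n) := by
      rw [mul_assoc (d⁻¹ * m)]
      exact word_cons ⟨_, hα⟩ (word_snoc hy hn)
    obtain ⟨i', k, l'', j', φ, n₁, y₁, n', hφ, hn₁, hy₁, hn', hb'⟩ :=
      exists_twoway hmin (C := fun x => x = l) (fun x hx => by subst hx; exact ⟨x, _, hE, rfl⟩) rfl hword hbl
    exact pair_false hX (twoway hmin hφ hn₁ hy₁ hn' hb')
  · intro h
    refine (A i).R_not_le_center ?_
    have := h (MulEquiv.refl _)
    rwa [tr_refl (A i).R_le_P] at this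
  · intro x y' hx hy' γ
    push Not at hy'
    obtain ⟨δ, hδ⟩ := hy'
    rcases dichotomy hmin hm hy hn hb δ with h | ⟨hR, d, hd, hby⟩
    · exact absurd h hδ
    rcases dichotomy hmin ((IsTw.inv ⟨δ, hd⟩).mul hm) hy hn hby γ with h | ⟨hR', -⟩
    · exact h
    exfalso
    have h := hx (γ.trans δ)
    rw [← tr_trans, hR', hR] at h
    exact (A i).R_not_le_center h

end Alternative

/-- Either all words are good, or a non-empty part of the family has commutators of the module central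
in the rest. -/
theorem alternative (hX : ∀ i, ∃ X : Subgroup (A i).G, X ≤ (A i).Z ∧
      X ≤ szero p (A i).P (CD.Offender.phi (A i).P) ∧ ¬ X ≤ Subgroup.center (A i).G) :
    (∀ k i j x, Word A k i j x → Good' A i j x) ∨
    ∃ D : I → Prop, (∃ x, D x) ∧ (∃ y, ¬ D y) ∧
      ∀ x y, D x → ¬ D y → ∀ γ : (A x).P ≃* (A y).P, tr γ (A x).R ≤ Subgroup.center (A y).G := by
  classical
  refine or_iff_not_imp_left.2 fun hbad => ?_
  push Not at hbad
  have hex : ∃ k, ∃ i j x, Word A k i j x ∧ ¬ Good' A i j x := hbad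
  have hmin : ∀ k, k < Nat.find hex → ∀ (i j : I) x, Word A k i j x → Good' A i j x :=
    fun k hk i j x hx => by
      by_contra h
      exact Nat.find_min hex hk ⟨i, j, x, hx, h⟩
  obtain ⟨i, j, w, hw, hb⟩ := Nat.find_spec hex
  generalize Nat.find hex = b at hmin hw
  rcases b with - | - | c
  · cases hw with
    | zero _ g => exact absurd (by rw [Good', cj_emb_V]; exact hat_le.2 (A _).V_le_Q) hb
  · exfalso
    cases hw with
    | succ g hn hy =>
      cases hy with
      | zero _ h =>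
        rename_i n
        obtain ⟨φ, hφ⟩ := hn
        rw [good_right, good_left] at hb
        have hword : Word A 1 i j n := by simpa using word_cons ⟨φ, hφ⟩ (one_word j)
        have hC : Crit A i j n := ⟨by rw [cj_twist hφ (A j).V_le_P]; exact hat_le.2 (tr_le _ _),
          by rw [cj_twist (twist_inv hφ) (A i).V_le_P]; exact hat_le.2 (tr_le _ _), hb,
          fun h => hb (by simpa using good_inv hmin le_rfl (word_inv hword) h), ⟨φ⟩⟩
        obtain ⟨U, -, hUQ', hUw, hUQ⟩ := hC.cover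
        rw [cj_twist hφ (A j).V_le_P] at hUw
        obtain rfl := hat_inj hUw
        obtain ⟨X, hXZ, hXs, hXn⟩ := hX i
        refine hXn ((A i).end_central (tr_le _ _) hUQ (tr_V_abelian φ) (tr_V_pow φ) ?_ hUQ' hXZ hXs)
        rw [Subgroup.commutator_comm]
        refine (Subgroup.commutator_mono le_rfl (A i).Q_le_P).trans ?_
        rw [comm_tr_V]
        exact tr_R_le_Z φ
  · exact exists_part hmin hX ⟨i, j, w, hw, hb⟩

end CfsgLib.PushFamily
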