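import Cfsg.Agent.Lib.PushFamily.Vtx

/-!
An element outside the core acting on the core with small commutators centralises the part of the
core that contains the second Frattini layer of the Sylow subgroup.
-/

set_option autoImplicit false
set_option linter.unusedSectionVars false
set_option linter.style.haveILetI false

namespace CfsgLib.PushFamily

open CfsgLib.SL2 CfsgLib.SL2Module CfsgLib.SL2Module.Baumann
open CfsgLib.PushRankOne (Zc Vc Rc Natural comm_mul_left comm_mul_right comm_sup_le comm_sup_le_normal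
  sup_comm_le_normal sup_comm_le mul_pow_class_two normal_of_le_center conj_mem_of_norm comm_conj)
open CfsgLib.CD.Offender (phi phi_le phi_le_of comm_le_phi pow_mem_phi le_normalizer_phi)
open scoped MatrixGroups commutatorElement

universe u

variable {p : ℕ} [hp : Fact p.Prime]

section Gen

variable {G : Type*} [Group G]

theorem phi_normal (N : Subgroup G) [N.Normal] : (phi N).Normal := by
  haveI : (frattini N).Characteristic := inferInstance
  exact ConjAct.normal_of_characteristic_of_normal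

theorem pow_mul_mod {N : Subgroup G} {a b : G} (ha : a ∈ Subgroup.normalizer (N : Set G))
    (h : ∀ n : ℕ, ⁅b ^ n, a⁆ ∈ N) : ∀ n : ℕ, ∃ c ∈ N, (a * b) ^ n = c * (a ^ n * b ^ n)
  | 0 => ⟨1, one_mem _, by simp⟩
  | n + 1 => by
    obtain ⟨c, hc, e⟩ := pow_mul_mod ha h n
    refine ⟨c * (a ^ n * ⁅b ^ n, a⁆ * (a ^ n)⁻¹), mul_mem hc (conj_mem_of_norm (pow_mem ha n) (h n)), ?_⟩
    rw [pow_succ (a * b), e, pow_succ a, pow_succ b, commutatorElement_def]
    group

theorem dvd_choose_two {p : ℕ} (hp : p.Prime) (h2 : p ≠ 2) : p ∣ p.choose 2 :=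
  hp.dvd_choose_self (by omega) (by have := hp.two_le; omega)

theorem comm_eq_squares (a b : G) : ⁅a, b⁆ = (a * b) ^ 2 * (b⁻¹ * a⁻¹ * b) ^ 2 * b⁻¹ ^ 2 := by
  rw [commutatorElement_def, pow_two, pow_two, pow_two]
  group

end Gen

namespace Vtx

variable (A : Vtx.{u} p)

theorem Z_pow {z : A.G} (hz : z ∈ A.Z) : z ^ p = 1 := A.vp z (A.Z_le_V hz)

theorem isP : IsPGroup p A.P := A.S.2

theorem isP_Q : IsPGroup p A.Q := A.S.2.to_le A.Q_le_P

theorem isP_sub {H : Subgroup A.G} (h : H ≤ A.P) : IsPGroup p H := A.S.2.to_le h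

theorem phiQ_normal : (phi A.Q).Normal := by
  haveI := A.Q_normal
  exact phi_normal _

theorem phiQ_le_phiP : phi A.Q ≤ phi A.P := by
  refine phi_le_of (p := p) (A.Q_le_P.trans (le_normalizer_phi A.P)) ?_ ?_
  · exact (Subgroup.commutator_mono A.Q_le_P A.Q_le_P).trans (comm_le_phi A.isP)
  · exact fun x hx => pow_mem_phi A.isP (A.Q_le_P hx)

theorem phiP_le_Q : phi A.P ≤ A.Q := by
  haveI := A.Q_normal
  refine phi_le_of (p := p) (le_top.trans (Subgroup.normalizer_eq_top (H := A.Q)).ge) ?_ ?_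
  · exact commutator_le_pCore A.st
  · exact fun x hx => pow_mem_pCore A.st hx

theorem exists_decomp {U : Subgroup A.G} (hUQ : U ⊔ A.Q = A.P) {s : A.G} (hs : s ∈ A.P) :
    ∃ u ∈ U, ∃ q ∈ A.Q, s = u * q := by
  haveI := A.Q_normal
  have h : s ∈ ((U ⊔ A.Q : Subgroup A.G) : Set A.G) := by rw [hUQ]; exact hs
  rw [Subgroup.mul_normal] at h
  obtain ⟨u, hu, q, hq, rfl⟩ := h
  exact ⟨u, hu, q, hq, rfl⟩

/-- The consequence for a subgroup of the centre. -/
theorem le_center_of_centralized {W X : Subgroup A.G} [W.Normal] (hXZ : X ≤ A.Z) (hXW : X ≤ W)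
    {U : Subgroup A.G} (hU : U ≤ A.P) (hUQ : ¬ U ≤ A.Q) (h : ∀ w ∈ W, ∀ u ∈ U, Commute u w) :
    X ≤ Subgroup.center A.G := by
  obtain ⟨u, hu, huQ⟩ := SetLike.not_le_iff_exists.1 hUQ
  haveI : (A.V).Normal := inferInstance
  have h1 : W ⊓ A.V ≤ A.Z := fun w hw => A.fixed_of_commute (hU hu) huQ hw.2 (h w hw.1 u hu)
  exact (le_inf hXW (hXZ.trans A.Z_le_V)).trans (A.center_of_normal h1)

variable {U T : Subgroup A.G}

section Central

variable (hU : U ≤ A.P) (hUQ : U ⊔ A.Q = A.P) (hUc : ∀ x ∈ U, ∀ y ∈ U, Commute x y)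
  (hUp : ∀ x ∈ U, x ^ p = 1) (hQU : ⁅A.Q, U⁆ ≤ A.Z)
include hU hUQ hUc hUp hQU

omit hUQ hUc hUp in
theorem commute_phiQ : ∀ w ∈ phi A.Q, ∀ u ∈ U, Commute u w := by
  have hconj : ∀ u ∈ U, ∀ a ∈ A.Q, ∃ z ∈ A.Z, u * a * u⁻¹ = z * a := fun u hu a ha => by
    refine ⟨⁅u, a⁆, ?_, by simp only [commutatorElement_def]; group⟩
    rw [← commutatorElement_inv]
    exact inv_mem (hQU (Subgroup.commutator_mem_commutator ha hu))
  have key : phi A.Q ≤ A.Q ⊓ Subgroup.centralizer (U : Set A.G) := by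
    refine phi_le_of (p := p) (fun a ha => ?_) ?_ ?_
    · haveI := A.Q_normal
      refine Subgroup.mem_normalizer_fintype fun x hx => ⟨A.Q_normal.conj_mem x hx.1 a,
        Subgroup.mem_centralizer_iff.2 fun u hu => ?_⟩
      have hux : u * x * u⁻¹ = x := by
        rw [Subgroup.mem_centralizer_iff.1 hx.2 u hu]
        group
      obtain ⟨z, hz, e⟩ := hconj u hu a ha
      rw [← mul_inv_eq_iff_eq_mul]
      calc u * (a * x * a⁻¹) * u⁻¹ = (u * a * u⁻¹) * (u * x * u⁻¹) * (u * a * u⁻¹)⁻¹ := by group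
        _ = z * (a * x * a⁻¹) * z⁻¹ := by rw [hux, e]; group
        _ = a * x * a⁻¹ := by
          rw [(A.Z_commute hz (A.Q_le_P (A.Q_normal.conj_mem x hx.1 a))).eq]
          group
    · refine Subgroup.commutator_le.2 fun a ha b hb =>
        Subgroup.mem_inf.2 ⟨?_, Subgroup.mem_centralizer_iff.2 fun u hu => ?_⟩
      · exact mul_mem (mul_mem (mul_mem ha hb) (inv_mem ha)) (inv_mem hb)
      have habP : ⁅a, b⁆ ∈ A.P :=
        A.Q_le_P (mul_mem (mul_mem (mul_mem ha hb) (inv_mem ha)) (inv_mem hb))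
      obtain ⟨z, hz, ea⟩ := hconj u hu a ha
      obtain ⟨z', hz', eb⟩ := hconj u hu b hb
      rw [← mul_inv_eq_iff_eq_mul, comm_conj, ea, eb, comm_mul_left, comm_mul_right,
        commutatorElement_eq_one_iff_commute.2 (A.Z_commute hz (A.Q_le_P (mul_mem (A.V_le_Q (A.Z_le_V hz'))
          hb))), commutatorElement_eq_one_iff_commute.2 (A.Z_commute hz' (A.Q_le_P ha)).symm, one_mul,
        mul_one, (A.Z_commute hz' habP).eq, mul_inv_cancel_right, (A.Z_commute hz habP).eq,
        mul_inv_cancel_right]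
    · refine fun a ha => ⟨pow_mem ha p, Subgroup.mem_centralizer_iff.2 fun u hu => ?_⟩
      obtain ⟨z, hz, ea⟩ := hconj u hu a ha
      rw [← mul_inv_eq_iff_eq_mul, ← conj_pow, ea, (A.Z_commute hz (A.Q_le_P ha)).mul_pow, A.Z_pow hz,
        one_mul]
  exact fun w hw u hu => Subgroup.mem_centralizer_iff.1 (key hw).2 u hu

theorem szero_le_phiQ : szero p A.P (phi A.P) ≤ phi A.Q := by
  haveI := A.Q_normal
  haveI := A.phiQ_normal
  have hQs : ∀ q ∈ A.Q, ∀ u ∈ U, ⁅q, u⁆ ∈ A.Z := fun q hq u hu =>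
    hQU (Subgroup.commutator_mem_commutator hq hu)
  set N := phi A.Q ⊔ A.Z with hN
  have hNn : A.P ≤ Subgroup.normalizer (N : Set A.G) :=
    LocalCGT.le_normalizer_sup (le_top.trans (Subgroup.normalizer_eq_top (H := phi A.Q)).ge)
      (A.P_le_normalizer_of_le_Z le_rfl)
  have hpow : ∀ s ∈ A.P, ∃ z ∈ A.Z, ∃ q ∈ A.Q, s ^ p = z * q ^ p ∧ (p ≠ 2 → z = 1) := fun s hs => by
    obtain ⟨u, hu, q, hq, rfl⟩ := A.exists_decomp hUQ hs
    have hz := hQs q hq u hu
    refine ⟨⁅q, u⁆ ^ p.choose 2, pow_mem hz _, q, hq, ?_, fun h2 => ?_⟩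
    · rw [mul_pow_class_two u q (A.Z_commute hz (hU hu)) (A.Z_commute hz (A.Q_le_P hq)), hUp u hu,
        mul_one]
    · obtain ⟨m, hm⟩ := dvd_choose_two hp.out h2
      rw [hm, pow_mul, A.Z_pow hz, one_pow]
  have hphi : phi A.P ≤ N := by
    refine phi_le_of (p := p) hNn ?_ fun s hs => ?_
    · conv_lhs => rw [← hUQ]
      refine sup_comm_le (hU.trans hNn) (A.Q_le_P.trans hNn) ?_ ?_
      · refine comm_sup_le (hU.trans hNn) (A.Q_le_P.trans hNn) ?_ ?_
        · exact (Subgroup.commutator_le.2 fun x hx y hy =>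
            (commutatorElement_eq_one_iff_commute.2 (hUc x hx y hy)) ▸ one_mem _)
        · rw [Subgroup.commutator_comm]
          exact hQU.trans le_sup_right
      · exact comm_sup_le (hU.trans hNn) (A.Q_le_P.trans hNn) (hQU.trans le_sup_right)
          ((comm_le_phi A.isP_Q).trans le_sup_left)
    · obtain ⟨z, hz, q, hq, e, -⟩ := hpow s hs
      rw [e]
      exact mul_mem (Subgroup.mem_sup_right hz) (Subgroup.mem_sup_left (pow_mem_phi A.isP_Q hq))
  have h1 : ⁅phi A.P, A.P⁆ ≤ phi A.Q := by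
    refine (Subgroup.commutator_mono hphi le_rfl).trans (sup_comm_le_normal ?_ ?_)
    · exact Subgroup.commutator_le_left _ _
    · rw [A.comm_Z_P]; exact bot_le
  have h2 : phi (phi A.P) ≤ phi A.Q := by
    refine phi_le_of (p := p) (le_top.trans (Subgroup.normalizer_eq_top (H := phi A.Q)).ge) ?_ ?_
    · exact (Subgroup.commutator_mono le_rfl (phi_le _)).trans h1
    · intro x hx
      have hx' : x ∈ ((phi A.Q ⊔ A.Z : Subgroup A.G) : Set A.G) := hphi hx
      rw [Subgroup.normal_mul] at hx'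
      obtain ⟨f, hf, z, hz, rfl⟩ := hx'
      show (f * z) ^ p ∈ phi A.Q
      rw [((A.Z_commute hz (A.Q_le_P (phi_le _ hf))).symm).mul_pow, A.Z_pow hz, mul_one]
      exact pow_mem hf p
  have h3 : ⁅⁅phi A.P, A.P⁆, A.P⁆ ≤ phi A.Q :=
    (Subgroup.commutator_mono h1 le_rfl).trans (Subgroup.commutator_le_left _ _)
  rw [szero]
  split_ifs with e2 e3
  · exact sup_le h1 h2
  · exact sup_le h3 h2
  · refine sup_le h1 ((Subgroup.closure_le _).2 ?_)
    rintro _ ⟨x, hx, rfl⟩
    obtain ⟨z, -, q, hq, e, hz⟩ := hpow x hx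
    rw [pow_one, e, hz e2, one_mul]
    exact pow_mem_phi A.isP_Q hq

/-- The first kind of end: commutators in the centre. -/
theorem end_central {X : Subgroup A.G} (hne : ¬ U ≤ A.Q) (hXZ : X ≤ A.Z)
    (hX : X ≤ szero p A.P (phi A.P)) : X ≤ Subgroup.center A.G := by
  haveI := A.phiQ_normal
  exact A.le_center_of_centralized hXZ (hX.trans (A.szero_le_phiQ hU hUQ hUc hUp hQU)) hU hne
    (A.commute_phiQ hU hQU)

end Central

section Three

variable (hU : U ≤ A.P) (hUQ : U ⊔ A.Q = A.P) (hUc : ∀ x ∈ U, ∀ y ∈ U, Commute x y)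
  (hUp : ∀ x ∈ U, x ^ p = 1) (hQU : ⁅A.Q, U⁆ ≤ T) (hT : T ≤ A.P) (hZT : A.Z ≤ T)
  (hTS : ⁅T, A.P⁆ ≤ A.Z) (hTp : ∀ t ∈ T, t ^ p = 1) (h3 : p = 3)
include hU hUQ hUc hUp hQU hT hZT hTS hTp h3

/-- The second kind of end. -/
theorem end_three {X : Subgroup A.G} (hne : ¬ U ≤ A.Q) (hXZ : X ≤ A.Z)
    (hX : X ≤ szero p A.P (phi A.P)) : X ≤ Subgroup.center A.G := by
  haveI := A.Q_normal
  haveI := A.phiQ_normal
  haveI : (phi (phi A.Q)).Normal := phi_normal _
  set W := ⁅phi A.Q, A.Q⁆ ⊔ phi (phi A.Q) with hW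
  haveI : W.Normal := Subgroup.sup_normal _ _
  have hp2 : p ≠ 2 := by omega
  have hTz : ∀ t ∈ T, ∀ s ∈ A.P, ⁅t, s⁆ ∈ A.Z := fun t ht s hs =>
    hTS (Subgroup.commutator_mem_commutator ht hs)
  -- the elements of `T` commute with the Frattini subgroup
  have hTphi : ∀ t ∈ T, ∀ f ∈ phi A.P, Commute t f := by
    intro t ht f hf
    have key : phi A.P ≤ A.P ⊓ Subgroup.centralizer (T : Set A.G) := by
      refine phi_le_of (p := p) (fun a ha => ?_) ?_ ?_
      · refine Subgroup.mem_normalizer_fintype fun x hx => Subgroup.mem_inf.2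
          ⟨mul_mem (mul_mem ha hx.1) (inv_mem ha), Subgroup.mem_centralizer_iff.2 fun t ht => ?_⟩
        have hz := hTz t ht a ha
        have htx : t * x * t⁻¹ = x := by
          rw [Subgroup.mem_centralizer_iff.1 hx.2 t ht]
          group
        rw [← mul_inv_eq_iff_eq_mul]
        calc t * (a * x * a⁻¹) * t⁻¹ = (t * a * t⁻¹) * (t * x * t⁻¹) * (t * a * t⁻¹)⁻¹ := by group
          _ = ⁅t, a⁆ * (a * x * a⁻¹) * ⁅t, a⁆⁻¹ := by
            rw [htx]; simp only [commutatorElement_def]; group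
          _ = a * x * a⁻¹ := by
            rw [(A.Z_commute hz (mul_mem (mul_mem ha hx.1) (inv_mem ha))).eq]; group
      · refine Subgroup.commutator_le.2 fun a ha b hb => Subgroup.mem_inf.2 ⟨mul_mem (mul_mem (mul_mem ha hb)
          (inv_mem ha)) (inv_mem hb), Subgroup.mem_centralizer_iff.2 fun t ht => ?_⟩
        have ea : t * a * t⁻¹ = ⁅t, a⁆ * a := by simp only [commutatorElement_def]; group
        have eb : t * b * t⁻¹ = ⁅t, b⁆ * b := by simp only [commutatorElement_def]; group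
        have hz := hTz t ht a ha
        have hz' := hTz t ht b hb
        have habP : ⁅a, b⁆ ∈ A.P := mul_mem (mul_mem (mul_mem ha hb) (inv_mem ha)) (inv_mem hb)
        have hc : ∀ z ∈ A.Z, z * ⁅a, b⁆ * z⁻¹ = ⁅a, b⁆ := fun z hz => by
          rw [(A.Z_commute hz habP).eq, mul_inv_cancel_right]
        rw [← mul_inv_eq_iff_eq_mul, comm_conj, ea, eb, comm_mul_left, comm_mul_right,
          commutatorElement_eq_one_iff_commute.2 (A.Z_commute hz (mul_mem (A.Z_le_P hz') hb)),
          commutatorElement_eq_one_iff_commute.2 (A.Z_commute hz' ha).symm, one_mul, mul_one, hc _ hz',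
          hc _ hz]
      · refine fun a ha => ⟨pow_mem ha p, Subgroup.mem_centralizer_iff.2 fun t ht => ?_⟩
        have ea : t * a * t⁻¹ = ⁅t, a⁆ * a := by simp only [commutatorElement_def]; group
        have hz := hTz t ht a ha
        rw [← mul_inv_eq_iff_eq_mul, ← conj_pow, ea, (A.Z_commute hz ha).mul_pow, A.Z_pow hz, one_mul]
    exact Subgroup.mem_centralizer_iff.1 (key hf).2 t ht
  set T₁ := T ⊓ phi A.P with hT₁
  set N := phi A.Q ⊔ T₁ with hN
  have hTn : A.P ≤ Subgroup.normalizer (T : Set A.G) := fun s hs =>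
    Subgroup.mem_normalizer_fintype fun t ht => by
      show s * t * s⁻¹ ∈ T
      rw [show s * t * s⁻¹ = ⁅t, s⁆⁻¹ * t by simp only [commutatorElement_def]; group]
      exact mul_mem (inv_mem (hZT (hTz t ht s hs))) ht
  have hT₁n : A.P ≤ Subgroup.normalizer (T₁ : Set A.G) := fun s hs =>
    Subgroup.mem_normalizer_fintype fun t ht =>
      ⟨conj_mem_of_norm (hTn hs) ht.1, conj_mem_of_norm (le_normalizer_phi A.P hs) ht.2⟩
  have hNn : A.P ≤ Subgroup.normalizer (N : Set A.G) :=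
    LocalCGT.le_normalizer_sup (le_top.trans (Subgroup.normalizer_eq_top (H := phi A.Q)).ge) hT₁n
  have hQUphi : ⁅A.Q, U⁆ ≤ T₁ := le_inf hQU
    ((Subgroup.commutator_mono A.Q_le_P hU).trans (comm_le_phi A.isP))
  have hPN : ⁅A.P, A.P⁆ ≤ N := by
    conv_lhs => rw [← hUQ]
    refine sup_comm_le (hU.trans hNn) (A.Q_le_P.trans hNn) ?_ ?_
    · refine comm_sup_le (hU.trans hNn) (A.Q_le_P.trans hNn) ?_ ?_
      · exact (Subgroup.commutator_le.2 fun x hx y hy =>
          (commutatorElement_eq_one_iff_commute.2 (hUc x hx y hy)) ▸ one_mem _)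
      · rw [Subgroup.commutator_comm]
        exact hQUphi.trans le_sup_right
    · exact comm_sup_le (hU.trans hNn) (A.Q_le_P.trans hNn) (hQUphi.trans le_sup_right)
        ((comm_le_phi A.isP_Q).trans le_sup_left)
  have hphi : phi A.P ≤ N := by
    refine phi_le_of (p := p) hNn hPN fun s hs => ?_
    obtain ⟨u, hu, q, hq, rfl⟩ := A.exists_decomp hUQ hs
    obtain ⟨c, hc, e⟩ := pow_mul_mod (hNn (hU hu))
      (fun n => hPN (Subgroup.commutator_mem_commutator (A.Q_le_P (pow_mem hq n)) (hU hu))) p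
    rw [e, hUp u hu, one_mul]
    exact mul_mem hc (Subgroup.mem_sup_left (pow_mem_phi A.isP_Q hq))
  -- the action of `U` on the core
  have hconj : ∀ u ∈ U, ∀ a ∈ A.Q, ∃ t ∈ T₁, u * a * u⁻¹ = t * a := fun u hu a ha => by
    refine ⟨⁅u, a⁆, ?_, by simp only [commutatorElement_def]; group⟩
    rw [← commutatorElement_inv]
    exact inv_mem (hQUphi (Subgroup.commutator_mem_commutator ha hu))
  have hphiU : ∀ f ∈ phi A.Q, ∀ u ∈ U, ⁅u, f⁆ ∈ A.Z := by
    let K : Subgroup A.G :=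
      { carrier := {x | x ∈ A.Q ∧ ∀ u ∈ U, ⁅u, x⁆ ∈ A.Z}
        one_mem' := ⟨one_mem _, fun u _ => by rw [commutatorElement_one_right]; exact one_mem _⟩
        mul_mem' := fun {a b} ha hb => ⟨mul_mem ha.1 hb.1, fun u hu => by
          rw [comm_mul_right]
          exact mul_mem (ha.2 u hu)
            (conj_mem_of_norm (A.P_le_normalizer_of_le_Z le_rfl (A.Q_le_P ha.1)) (hb.2 u hu))⟩
        inv_mem' := fun {a} ha => ⟨inv_mem ha.1, fun u hu => by
          rw [show ⁅u, a⁻¹⁆ = a⁻¹ * ⁅u, a⁆⁻¹ * a⁻¹⁻¹ by simp only [commutatorElement_def]; group]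
          exact conj_mem_of_norm (inv_mem (A.P_le_normalizer_of_le_Z le_rfl (A.Q_le_P ha.1)))
            (inv_mem (ha.2 u hu))⟩ }
    have hK : phi A.Q ≤ K := by
      refine phi_le_of (p := p) (fun a ha => ?_) ?_ ?_
      · refine Subgroup.mem_normalizer_fintype fun x hx => ⟨A.Q_normal.conj_mem x hx.1 a, fun u hu => ?_⟩
        obtain ⟨t, ht, e⟩ := hconj u hu a ha
        have hz := hx.2 u hu
        have e2 : u * (a * x * a⁻¹) * u⁻¹ = t * (a * (⁅u, x⁆ * x) * a⁻¹) * t⁻¹ := by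
          calc _ = (u * a * u⁻¹) * (⁅u, x⁆ * x) * (u * a * u⁻¹)⁻¹ := by
                simp only [commutatorElement_def]; group
            _ = _ := by rw [e]; group
        have hxP := A.Q_le_P (A.Q_normal.conj_mem x hx.1 a)
        rw [show a * (⁅u, x⁆ * x) * a⁻¹ = ⁅u, x⁆ * (a * x * a⁻¹) by
          rw [← mul_assoc, ← (A.Z_commute hz (A.Q_le_P ha)).eq]; group] at e2
        rw [commutatorElement_def, e2, show t * (⁅u, x⁆ * (a * x * a⁻¹)) * t⁻¹ * (a * x * a⁻¹)⁻¹ =
          (t * ⁅u, x⁆ * t⁻¹) * ⁅t, a * x * a⁻¹⁆ by simp only [commutatorElement_def]; group]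
        exact mul_mem (conj_mem_of_norm (A.P_le_normalizer_of_le_Z le_rfl (hT ht.1)) hz) (hTz t ht.1 _ hxP)
      · refine Subgroup.commutator_le.2 fun a ha b hb =>
          (show ⁅a, b⁆ ∈ A.Q ∧ ∀ u ∈ U, ⁅u, ⁅a, b⁆⁆ ∈ A.Z from
            ⟨mul_mem (mul_mem (mul_mem ha hb) (inv_mem ha)) (inv_mem hb), fun u hu => ?_⟩)
        obtain ⟨t, ht, ea⟩ := hconj u hu a ha
        obtain ⟨t', ht', eb⟩ := hconj u hu b hb
        have hab : ⁅a, b⁆ ∈ phi A.P :=
          A.phiQ_le_phiP (comm_le_phi A.isP_Q (Subgroup.commutator_mem_commutator ha hb))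
        have h1 : ⁅t * a, b⁆ = ⁅a, b⁆ * ⁅t, b⁆ := by
          rw [comm_mul_left, (hTphi t ht.1 _ hab).eq, mul_inv_cancel_right]
        have hz1 := hTz t ht.1 b (A.Q_le_P hb)
        have hz2 : ⁅t * a, t'⁆ ∈ A.Z := by
          rw [← commutatorElement_inv]
          exact inv_mem (hTz t' ht'.1 _ (mul_mem (hT ht.1) (A.Q_le_P ha)))
        have h2 : ⁅t * a, t' * b⁆ = ⁅t * a, t'⁆ * (⁅a, b⁆ * ⁅t, b⁆) := by
          rw [comm_mul_right, h1, ← mul_assoc t' ⁅a, b⁆, (hTphi t' ht'.1 _ hab).eq,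
            mul_assoc ⁅a, b⁆, ← (A.Z_commute hz1 (hT ht'.1)).eq]
          group
        rw [commutatorElement_def u, comm_conj, ea, eb, h2, mul_assoc, mul_assoc,
          (A.Z_commute hz1 (inv_mem (phi_le _ hab) : ⁅a, b⁆⁻¹ ∈ A.P)).eq, mul_inv_cancel_left]
        exact mul_mem hz2 hz1
      · refine fun a ha => ⟨pow_mem ha p, fun u hu => ?_⟩
        obtain ⟨t, ht, ea⟩ := hconj u hu a ha
        obtain ⟨m, hm⟩ := dvd_choose_two hp.out hp2
        have hz : ⁅a, t⁆ ∈ A.Z := by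
          rw [← commutatorElement_inv]
          exact inv_mem (hTz t ht.1 a (A.Q_le_P ha))
        rw [commutatorElement_def u, ← conj_pow, ea,
          mul_pow_class_two t a (A.Z_commute hz (hT ht.1)) (A.Z_commute hz (A.Q_le_P ha)), hm, pow_mul,
          A.Z_pow hz, one_pow, one_mul, hTp t ht.1, one_mul, mul_inv_cancel]
        exact one_mem _
    exact fun f hf => (hK hf).2
  have hconjf : ∀ u ∈ U, ∀ f ∈ phi A.Q, ∃ z ∈ A.Z, u * f * u⁻¹ = z * f := fun u hu f hf =>
    ⟨⁅u, f⁆, hphiU f hf u hu, by simp only [commutatorElement_def]; group⟩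
  -- `U` centralises `W`
  have hWU : W ≤ Subgroup.centralizer (U : Set A.G) := by
    refine sup_le (Subgroup.commutator_le.2 fun f hf q hq => ?_) ?_
    · refine Subgroup.mem_centralizer_iff.2 fun u hu => ?_
      obtain ⟨z, hz, ef⟩ := hconjf u hu f hf
      obtain ⟨t, ht, eq'⟩ := hconj u hu q hq
      have hfP := A.phiQ_le_phiP hf
      have hfq : ⁅f, q⁆ ∈ phi A.P :=
        comm_le_phi A.isP (Subgroup.commutator_mem_commutator (A.Q_le_P (phi_le _ hf)) (A.Q_le_P hq))
      rw [← mul_inv_eq_iff_eq_mul, comm_conj, ef, eq', comm_mul_left, comm_mul_right,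
        commutatorElement_eq_one_iff_commute.2 (A.Z_commute hz (mul_mem (hT ht.1) (A.Q_le_P hq))),
        commutatorElement_eq_one_iff_commute.2 (hTphi t ht.1 f hfP).symm, one_mul, mul_one,
        (hTphi t ht.1 _ hfq).eq, mul_inv_cancel_right,
        (A.Z_commute hz (phi_le _ hfq)).eq, mul_inv_cancel_right]
    · refine (phi_le_of (p := p) (N := phi A.Q ⊓ Subgroup.centralizer (U : Set A.G)) ?_ ?_ ?_).trans inf_le_right
      · refine fun a ha => Subgroup.mem_normalizer_fintype fun x hx => Subgroup.mem_inf.2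
          ⟨mul_mem (mul_mem ha hx.1) (inv_mem ha), Subgroup.mem_centralizer_iff.2 fun u hu => ?_⟩
        obtain ⟨z, hz, e⟩ := hconjf u hu a ha
        have hux : u * x * u⁻¹ = x := by
          rw [Subgroup.mem_centralizer_iff.1 hx.2 u hu]; group
        rw [← mul_inv_eq_iff_eq_mul]
        calc u * (a * x * a⁻¹) * u⁻¹ = (u * a * u⁻¹) * (u * x * u⁻¹) * (u * a * u⁻¹)⁻¹ := by group
          _ = z * (a * x * a⁻¹) * z⁻¹ := by rw [hux, e]; group
          _ = a * x * a⁻¹ := by
            rw [(A.Z_commute hz (A.Q_le_P (phi_le _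
              (mul_mem (mul_mem ha hx.1) (inv_mem ha) : a * x * a⁻¹ ∈ phi A.Q)))).eq]
            group
      · refine Subgroup.commutator_le.2 fun a ha b hb => Subgroup.mem_inf.2
          ⟨mul_mem (mul_mem (mul_mem ha hb) (inv_mem ha)) (inv_mem hb),
            Subgroup.mem_centralizer_iff.2 fun u hu => ?_⟩
        obtain ⟨z, hz, ea⟩ := hconjf u hu a ha
        obtain ⟨z', hz', eb⟩ := hconjf u hu b hb
        have hab0 : ⁅a, b⁆ ∈ phi A.Q := mul_mem (mul_mem (mul_mem ha hb) (inv_mem ha)) (inv_mem hb)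
        have hab : ⁅a, b⁆ ∈ A.P := A.Q_le_P (phi_le _ hab0)
        rw [← mul_inv_eq_iff_eq_mul, comm_conj, ea, eb, comm_mul_left, comm_mul_right,
          commutatorElement_eq_one_iff_commute.2 (A.Z_commute hz (mul_mem (A.Z_le_P hz')
            (A.Q_le_P (phi_le _ hb)))),
          commutatorElement_eq_one_iff_commute.2 (A.Z_commute hz' (A.Q_le_P (phi_le _ ha))).symm, one_mul,
          mul_one, (A.Z_commute hz' hab).eq, mul_inv_cancel_right, (A.Z_commute hz hab).eq,
          mul_inv_cancel_right]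
      · refine fun a ha => ⟨pow_mem ha p, Subgroup.mem_centralizer_iff.2 fun u hu => ?_⟩
        obtain ⟨z, hz, ea⟩ := hconjf u hu a ha
        rw [← mul_inv_eq_iff_eq_mul, ← conj_pow, ea,
          (A.Z_commute hz (A.Q_le_P (phi_le _ ha))).mul_pow, A.Z_pow hz, one_mul]
  -- the second layer
  have hNQ : N ≤ A.Q := sup_le (phi_le _) (inf_le_right.trans A.phiP_le_Q)
  have h1 : ⁅phi A.P, A.P⁆ ≤ W ⊔ A.Z := by
    have hn : A.P ≤ Subgroup.normalizer ((W ⊔ A.Z : Subgroup A.G) : Set A.G) :=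
      LocalCGT.le_normalizer_sup (le_top.trans (Subgroup.normalizer_eq_top (H := W)).ge)
        (A.P_le_normalizer_of_le_Z le_rfl)
    refine (Subgroup.commutator_mono hphi le_rfl).trans (sup_comm_le ((A.phiQ_le_phiP.trans (phi_le _)).trans hn)
      ((inf_le_left.trans hT).trans hn) ?_ ((Subgroup.commutator_mono inf_le_left le_rfl).trans
        (hTS.trans le_sup_right)))
    conv_lhs => rw [← hUQ]
    refine comm_sup_le (hU.trans hn) (A.Q_le_P.trans hn) ?_ ((le_sup_left : _ ≤ W).trans le_sup_left)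
    rw [Subgroup.commutator_comm]
    exact (Subgroup.commutator_le.2 fun u hu f hf => hphiU f hf u hu).trans le_sup_right
  have hsz : szero p A.P (phi A.P) ≤ W := by
    rw [szero, if_neg hp2, if_pos h3]
    refine sup_le ((Subgroup.commutator_mono h1 le_rfl).trans
      (sup_comm_le_normal (Subgroup.commutator_le_left _ _) (A.comm_Z_P.le.trans bot_le))) ?_
    refine phi_le_of (p := p) (le_top.trans (Subgroup.normalizer_eq_top (H := W)).ge) ?_ ?_
    · refine (Subgroup.commutator_mono hphi hphi).trans (sup_comm_le_normal ?_ ?_)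
      · refine comm_sup_le_normal ((Subgroup.commutator_mono le_rfl (phi_le _)).trans le_sup_left) ?_
        refine (Subgroup.commutator_le.2 fun f hf t ht => ?_)
        rw [commutatorElement_eq_one_iff_commute.2 (hTphi t ht.1 f (A.phiQ_le_phiP hf)).symm]
        exact one_mem _
      · refine Subgroup.commutator_le.2 fun t ht x hx => ?_
        rw [commutatorElement_eq_one_iff_commute.2 (hTphi t ht.1 x
          ((sup_le A.phiQ_le_phiP inf_le_right : N ≤ _) hx))]
        exact one_mem _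
    · intro x hx
      have hx' : x ∈ ((phi A.Q ⊔ T₁ : Subgroup A.G) : Set A.G) := hphi hx
      rw [Subgroup.normal_mul] at hx'
      obtain ⟨f, hf, t, ht, rfl⟩ := hx'
      show (f * t) ^ p ∈ W
      rw [((hTphi t ht.1 f (A.phiQ_le_phiP hf)).symm).mul_pow, hTp t ht.1, mul_one]
      exact Subgroup.mem_sup_right (pow_mem_phi (A.isP_sub ((phi_le _).trans A.Q_le_P)) hf)
  exact A.le_center_of_centralized hXZ (hX.trans hsz) hU hne fun w hw u hu =>
    Subgroup.mem_centralizer_iff.1 (hWU hw) u hu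

end Three

/-! ### Elements of the centre in the second layer -/

/-- With two elements in the field the second layer lies in the Frattini subgroup of the core. -/
theorem szero_two_le (h : Nat.card A.F = 2) : p = 2 ∧ szero p A.P (phi A.P) ≤ phi A.Q := by
  classical
  haveI := A.Q_normal
  haveI := A.phiQ_normal
  have hp2 : p = 2 := by
    have h1 : (2 : ℕ) = Fintype.card A.F := by rw [← Nat.card_eq_fintype_card, h]
    obtain ⟨n, -, hn⟩ := FiniteField.card A.F p
    have h2 : p ∣ 2 := by rw [h1, hn]; exact dvd_pow_self p n.pos.ne'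
    exact (Nat.prime_dvd_prime_iff_eq hp.out Nat.prime_two).1 h2
  subst hp2
  refine ⟨rfl, ?_⟩
  set π := QuotientGroup.mk' (phi A.Q) with hπ
  have hQc : ∀ a ∈ A.Q, ∀ b ∈ A.Q, Commute (π a) (π b) := fun a ha b hb => by
    rw [← commutatorElement_eq_one_iff_commute, ← map_commutatorElement]
    exact (QuotientGroup.eq_one_iff _).2 (comm_le_phi A.isP_Q (Subgroup.commutator_mem_commutator ha hb))
  obtain ⟨u, hu, huQ⟩ := SetLike.not_le_iff_exists.1 (not_le_pCore A.st)
  have hcov : ∀ s ∈ A.P, s ∈ A.Q ∨ u⁻¹ * s ∈ A.Q := by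
    intro s hs
    by_cases hsQ : s ∈ A.Q
    · exact Or.inl hsQ
    right
    have hidx : (A.Q.subgroupOf A.P).index = 2 := by
      have h1 := Subgroup.index_mul_card (A.Q.subgroupOf A.P)
      rw [Nat.card_congr (Subgroup.subgroupOfEquivOfLe A.Q_le_P).toEquiv, A.card_P, h] at h1
      exact Nat.eq_of_mul_eq_mul_right Nat.card_pos h1
    have h2 := Subgroup.mul_mem_iff_of_index_two hidx (a := (⟨u⁻¹, inv_mem hu⟩ : A.P)) (b := ⟨s, hs⟩)
    simp only [Subgroup.mem_subgroupOf] at h2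
    exact h2.2 ⟨fun h => absurd ((inv_mem_iff (x := u)).1 h) huQ, fun h => absurd h hsQ⟩
  have hsq : ∀ s ∈ A.P, s ^ 2 ∈ A.Q := fun s hs => pow_mem_pCore A.st hs
  -- squares commute with the Sylow subgroup modulo the Frattini subgroup of the core
  have hcent : ∀ s ∈ A.P, ∀ t ∈ A.P, Commute (π (s ^ 2)) (π t) := by
    intro s hs
    have hsu : Commute (π (s ^ 2)) (π u) := by
      rcases hcov s hs with hq | hq
      · have h1 : π (s ^ 2) = 1 := (QuotientGroup.eq_one_iff _).2 (pow_mem_phi A.isP_Q hq)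
        rw [h1]
        exact Commute.one_left _
      · set q := u⁻¹ * s with hq'
        have hs' : s = u * q := by rw [hq', mul_inv_cancel_left]
        have hq2 : u⁻¹ * q * u ∈ A.Q := by simpa using A.Q_normal.conj_mem q hq u⁻¹
        have hq3 : u * q * u⁻¹ ∈ A.Q := A.Q_normal.conj_mem q hq u
        have e : π (s ^ 2) = π (u ^ 2) * (π (u⁻¹ * q * u) * π q) := by
          rw [hs', ← map_mul, ← map_mul, pow_two, pow_two]
          congr 1
          group
        have hc : π (u * q * u⁻¹) = π (u⁻¹ * q * u) := by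
          have h1 := (hQc _ (hsq u hu) _ hq2).eq
          rw [← map_mul, ← map_mul] at h1
          calc π (u * q * u⁻¹) = π (u ^ 2 * (u⁻¹ * q * u) * (u ^ 2)⁻¹) := by
                congr 1; rw [pow_two]; group
            _ = π (u⁻¹ * q * u) := by rw [map_mul, h1, map_mul, map_inv, mul_inv_cancel_right]
        show π (s ^ 2) * π u = π u * π (s ^ 2)
        rw [e, ← eq_mul_inv_iff_mul_eq]
        calc π (u ^ 2) * (π (u⁻¹ * q * u) * π q)
            = π (u ^ 2) * (π q * π (u * q * u⁻¹)) := by rw [hc, (hQc _ hq2 _ hq).eq]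
          _ = π u * (π (u ^ 2) * (π (u⁻¹ * q * u) * π q)) * (π u)⁻¹ := by
            rw [← map_inv, ← map_mul, ← map_mul, ← map_mul, ← map_mul, ← map_mul, ← map_mul]
            congr 1
            rw [pow_two]
            group
    intro t ht
    rcases hcov t ht with ht' | ht'
    · exact hQc _ (hsq s hs) _ ht'
    · have h1 := hsu.mul_right (hQc _ (hsq s hs) _ ht')
      rwa [← map_mul, mul_inv_cancel_left] at h1
  have h1 : ⁅phi A.P, A.P⁆ ≤ phi A.Q := by
    let K : Subgroup A.G := A.P ⊓ (Subgroup.centralizer ((A.P.map π : Subgroup (A.G ⧸ phi A.Q)) :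
      Set (A.G ⧸ phi A.Q))).comap π
    have hmem : ∀ x ∈ A.P, (∀ t ∈ A.P, Commute (π x) (π t)) → x ∈ K := fun x hx h =>
      ⟨hx, Subgroup.mem_centralizer_iff.2 (by
        rintro _ ⟨t, ht, rfl⟩
        exact (h t ht).eq.symm)⟩
    have hK : phi A.P ≤ K := by
      refine phi_le_of (p := 2) (fun a ha => Subgroup.mem_normalizer_fintype fun x hx => ?_) ?_
        fun x hx => hmem _ (pow_mem hx 2) (hcent x hx)
      · refine hmem _ (mul_mem (mul_mem ha hx.1) (inv_mem ha)) fun t ht => ?_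
        have h2 : Commute (π a) (π x) := Subgroup.mem_centralizer_iff.1 hx.2 (π a) ⟨a, ha, rfl⟩
        rw [map_mul, map_mul, map_inv, h2.eq, mul_inv_cancel_right]
        exact (Subgroup.mem_centralizer_iff.1 hx.2 (π t) ⟨t, ht, rfl⟩).symm
      · refine Subgroup.commutator_le.2 fun a ha b hb => hmem _
          (mul_mem (mul_mem (mul_mem ha hb) (inv_mem ha)) (inv_mem hb)) fun t ht => ?_
        rw [comm_eq_squares, map_mul, map_mul]
        exact ((hcent _ (mul_mem ha hb) t ht).mul_left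
          (hcent _ (mul_mem (mul_mem (inv_mem hb) (inv_mem ha)) hb) t ht)).mul_left
          (hcent _ (inv_mem hb) t ht)
    refine Subgroup.commutator_le.2 fun x hx t ht => (QuotientGroup.eq_one_iff _).1 ?_
    have h2 : Commute (π x) (π t) := (Subgroup.mem_centralizer_iff.1 (hK hx).2 (π t) ⟨t, ht, rfl⟩).symm
    exact (map_commutatorElement π x t).trans (commutatorElement_eq_one_iff_commute.2 h2)
  rw [szero, if_pos rfl]
  refine sup_le h1 (phi_le_of (p := 2) (le_top.trans (Subgroup.normalizer_eq_top (H := phi A.Q)).ge)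
    ((Subgroup.commutator_mono le_rfl (phi_le _)).trans h1) fun x hx => pow_mem_phi A.isP_Q (A.phiP_le_Q hx))

/-- A non-central part of the centre inside the second layer meets the commutator of the module. -/
theorem R_inf_not_central {X : Subgroup A.G} (hXZ : X ≤ A.Z)
    (hinv : ∀ g ∈ Subgroup.normalizer (A.P : Set A.G), ∀ x ∈ X, g * x * g⁻¹ ∈ X)
    (hsz : szero p A.P (phi A.P) ⊓ A.Z ≤ X) (hX : X ≤ szero p A.P (phi A.P))
    (hn : ¬ X ≤ Subgroup.center A.G) : ¬ A.R ⊓ X ≤ Subgroup.center A.G := by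
  classical
  obtain ⟨z, hz, hzc⟩ := SetLike.not_le_iff_exists.1 hn
  have hz0 : A.ψV z 0 ≠ 0 := fun e => hzc ((A.zero_iff (A.Z_le_V (hXZ hz))).1 (funext fun i => by
    fin_cases i
    · exact e
    · exact (A.line_iff (A.Z_le_V (hXZ hz))).2 (hXZ hz)))
  haveI hVn : (A.V).Normal := inferInstance
  by_cases hq : Nat.card A.F = 2
  · obtain ⟨h2, hle⟩ := A.szero_two_le hq
    haveI := A.phiQ_normal
    obtain ⟨g, hg⟩ := A.nat.surj wm
    set v := g * z * g⁻¹ with hv
    have hv1 : v ∈ phi A.Q := A.phiQ_normal.conj_mem z (hle (hX hz)) g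
    have hv2 : v ∈ A.V := hVn.conj_mem z (A.Z_le_V (hXZ hz)) g
    obtain ⟨s, hs, hc⟩ := A.nat.upper_onto 1
    have hr : ⁅s, v⁆ ∈ A.R := by
      rw [Vtx.R, Rc, Subgroup.commutator_comm]
      exact Subgroup.commutator_mem_commutator hs hv2
    have hr' : ⁅s, v⁆ ∈ szero p A.P (phi A.P) := by
      rw [szero, if_pos h2, Subgroup.commutator_comm]
      exact Subgroup.mem_sup_left (Subgroup.commutator_mem_commutator hs (A.phiQ_le_phiP hv1))
    intro hcon
    have h3 := (A.zero_iff (A.R_le_V hr)).2 (hcon ⟨hr, hsz ⟨hr', A.R_le_Z hr⟩⟩)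
    rw [A.nat.map_comm_upper hc hv2, hv, A.nat.equiv g z (A.Z_le_V (hXZ hz)), hg] at h3
    have h4 := congrFun h3 0
    simp [PushRankOne.mulVec_apply, wm_coe] at h4
    exact hz0 h4
  · obtain ⟨a, ha0, ha1⟩ : ∃ a : A.F, a ≠ 0 ∧ a ≠ 1 := by
      by_contra hcon
      push Not at hcon
      refine hq (le_antisymm ?_ Finite.one_lt_card)
      rw [Nat.card_eq_fintype_card]
      have hsub : (Finset.univ : Finset A.F) ⊆ {0, 1} := fun x _ => by
        by_cases h : x = 0
        · simp [h]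
        · simp [hcon x h]
      exact le_trans (Finset.card_le_card hsub) Finset.card_le_two
    let T : SL(2, A.F) := ⟨!![a, 0; 0, a⁻¹], by simp [Matrix.det_fin_two, ha0]⟩
    have hTc : (T : Matrix (Fin 2) (Fin 2) A.F) = !![a, 0; 0, a⁻¹] := rfl
    clear_value T
    obtain ⟨g, hg⟩ := A.nat.surj T
    let Pre : Subgroup A.G := upperHom.range.comap A.ρV
    have hPPre : A.P ≤ Pre := fun s hs => by
      obtain ⟨c, hc⟩ := A.nat.upper s hs
      exact ⟨_, hc.symm⟩
    have hgP : ∀ s ∈ A.P, g * s * g⁻¹ ∈ Pre := fun s hs => by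
      obtain ⟨c, hc⟩ := A.nat.upper s hs
      refine ⟨Multiplicative.ofAdd (a * a * c), ?_⟩
      show upperHom (Multiplicative.ofAdd (a * a * c)) = A.ρV (g * s * g⁻¹)
      rw [map_mul A.ρV, map_mul A.ρV, map_inv A.ρV, hg, hc, eq_mul_inv_iff_mul_eq]
      ext i j
      fin_cases i <;> fin_cases j <;>
        simp [hTc, upperHom_coe, Matrix.mul_apply, Fin.sum_univ_two] <;> field_simp
    have hc1 : PushRankOne.cj g A.P ≤ Pre := by
      rintro _ ⟨s, hs, rfl⟩
      exact hgP s hs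
    let S₁ : Sylow p Pre := A.S.subtype hPPre
    let S₂ : Sylow p Pre := (g • A.S).subtype (by
      rw [Sylow.coe_subgroup_smul]
      rintro _ ⟨s, hs, rfl⟩
      exact hgP s hs)
    obtain ⟨m, hm⟩ := MulAction.exists_smul_eq Pre S₂ S₁
    set h := (m : A.G) * g with hh
    obtain ⟨c, hc⟩ := m.2
    have hmem : h ∈ Subgroup.normalizer (A.P : Set A.G) := by
      refine Subgroup.mem_normalizer_fintype fun s hs => ?_
      have h1 : (⟨g * s * g⁻¹, hgP s hs⟩ : Pre) ∈ (S₂ : Subgroup Pre) := by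
        show g * s * g⁻¹ ∈ ((g • A.S : Sylow p A.G) : Subgroup A.G)
        rw [Sylow.coe_subgroup_smul]
        exact ⟨s, hs, rfl⟩
      have h2 : m * ⟨g * s * g⁻¹, hgP s hs⟩ * m⁻¹ ∈ (S₁ : Subgroup Pre) := by
        rw [← hm, Sylow.coe_subgroup_smul]
        exact ⟨_, h1, rfl⟩
      have h3 : (m : A.G) * (g * s * g⁻¹) * (m : A.G)⁻¹ ∈ A.P := h2
      show h * s * h⁻¹ ∈ A.P
      rw [hh, show (m : A.G) * g * s * ((m : A.G) * g)⁻¹ = (m : A.G) * (g * s * g⁻¹) * (m : A.G)⁻¹ by group]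
      exact h3
    set x := (h * z * h⁻¹) * z⁻¹ with hx
    have hxX : x ∈ X := mul_mem (hinv h hmem z hz) (inv_mem hz)
    obtain ⟨r, hr, er⟩ := A.exists_R_onto (A.ψV z 0)
    have hcz : r⁻¹ * z ∈ Subgroup.center A.G := by
      refine (A.zero_iff (mul_mem (inv_mem (A.R_le_V hr)) (A.Z_le_V (hXZ hz)))).1 ?_
      rw [A.nat.add _ (inv_mem (A.R_le_V hr)) _ (A.Z_le_V (hXZ hz)), A.nat.map_inv (A.R_le_V hr), er]
      ext i
      fin_cases i
      · simp
      · simp [(A.line_iff (A.Z_le_V (hXZ hz))).2 (hXZ hz)]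
    have hxR : x ∈ A.R := by
      have e : x = (h * r * h⁻¹) * r⁻¹ := by
        have e1 : h * (r⁻¹ * z) * h⁻¹ = r⁻¹ * z := by
          rw [Subgroup.mem_center_iff.1 hcz h, mul_inv_cancel_right]
        calc x = (h * r * h⁻¹) * (h * (r⁻¹ * z) * h⁻¹) * z⁻¹ := by rw [hx]; group
          _ = _ := by rw [e1]; group
      rw [e]
      refine mul_mem ?_ (inv_mem hr)
      have hle : PushRankOne.cj h A.R ≤ A.R := by
        rw [Vtx.R, Rc, PushRankOne.cj_comm, PushRankOne.cj_eq_of_normal,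
          PushRankOne.cj_eq_of_mem hmem]
      exact hle (PushRankOne.mem_cj_of_mem h hr)
    intro hcon
    have h3 := (A.zero_iff (A.R_le_V hxR)).2 (hcon ⟨hxR, hxX⟩)
    rw [hx, A.nat.map_div (hVn.conj_mem z (A.Z_le_V (hXZ hz)) h) (A.Z_le_V (hXZ hz)),
      A.nat.equiv h z (A.Z_le_V (hXZ hz)), hh, map_mul, ← hc, hg] at h3
    have h4 := congrFun h3 0
    have hz1 : A.ψV z 1 = 0 := (A.line_iff (A.Z_le_V (hXZ hz))).2 (hXZ hz)
    rw [Pi.sub_apply, PushRankOne.mulVec_apply, hz1, Matrix.SpecialLinearGroup.coe_mul, hTc, upperHom_coe,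
      Matrix.mul_apply, Fin.sum_univ_two] at h4
    simp at h4
    exact ha1 (mul_right_cancel₀ hz0 (by linear_combination h4))

end Vtx

end CfsgLib.PushFamily
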