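import Cfsg.Agent.Lib.PushFamily.Member
import Cfsg.Agent.Lib.PushFamily.Amalgam

/-!
One pair of characteristic subgroups for all members: induction on a part of the centre inside the
second Frattini layer.
-/

set_option autoImplicit false
set_option linter.unusedSectionVars false
set_option linter.style.haveILetI false

namespace CfsgLib.PushFamily

open CfsgLib.SL2 CfsgLib.SL2Module CfsgLib.SL2Module.Baumann
open CfsgLib.PushRankOne (cj cj_mono cj_eq_of_normal mem_cj_of_mem)
open CfsgLib.CD.Offender (phi)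
open scoped MatrixGroups commutatorElement IsMulCommutative

universe u

variable {p : ℕ} [hp : Fact p.Prime] {S : Type u} [Group S]

/-- An abelian subgroup of largest order. -/
abbrev Large (B : Subgroup S) : Prop := B ∈ Cfsg.maxAbelianSubgroups S

theorem exists_large [Finite S] : ∃ B : Subgroup S, Large B := by
  classical
  haveI : Nonempty {B : Subgroup S // IsMulCommutative B} :=
    ⟨⟨⊥, ⟨⟨fun a b => Subsingleton.elim _ _⟩⟩⟩⟩
  obtain ⟨⟨B, hB⟩, hmax⟩ :=
    Finite.exists_max (fun B : {B : Subgroup S // IsMulCommutative B} => Nat.card (B : Subgroup S))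
  exact ⟨B, hB, fun C hC => hmax ⟨C, hC⟩⟩

theorem large_map [Finite S] {B : Subgroup S} (h : Large B) (σ : S ≃* S) :
    Large (B.map σ.toMonoidHom) := by
  haveI := h.1
  refine ⟨inferInstance, fun C hC => ?_⟩
  rw [Subgroup.card_map_of_injective σ.injective]
  exact h.2 C hC

namespace Member

variable [Finite S] (D : Member p S)

theorem pull_img (X : Subgroup S) : D.pull (D.img X) = X :=
  Subgroup.comap_map_eq_self_of_injective D.ι_injective X

theorem card_le_large {B : Subgroup S} (hB : Large B) {W : Subgroup D.A.G} (hW : W ≤ D.A.P)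
    (hc : ∀ x ∈ W, ∀ y ∈ W, Commute x y) : Nat.card W ≤ Nat.card B := by
  rw [← D.img_pull hW, D.card_img]
  refine hB.2 _ ⟨⟨fun a b => Subtype.ext ?_⟩⟩
  exact (D.commute_iff.1 (hc _ a.2 _ b.2)).eq

theorem large_pull {B : Subgroup S} (hB : Large B) {W : Subgroup D.A.G} (hW : W ≤ D.A.P)
    (hc : ∀ x ∈ W, ∀ y ∈ W, Commute x y) (hcard : Nat.card B ≤ Nat.card W) : Large (D.pull W) := by
  refine ⟨⟨⟨fun a b => Subtype.ext (D.commute_iff.1 (hc _ a.2 _ b.2)).eq⟩⟩, fun C hC => ?_⟩
  rw [← D.card_img (D.pull W), D.img_pull hW]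
  exact (hB.2 C hC).trans hcard

theorem Z_le_img_large {B : Subgroup S} (hB : Large B) : D.A.Z ≤ D.img B := by
  intro z hz
  rw [← D.img_center] at hz
  obtain ⟨s, hs, rfl⟩ := hz
  refine ⟨s, ?_, rfl⟩
  haveI := hB.1
  have hle : B ⊔ Subgroup.center S ≤
      Subgroup.centralizer ((B ⊔ Subgroup.center S : Subgroup S) : Set S) := by
    refine sup_le (Subgroup.le_centralizer_iff.1 (sup_le (fun a ha => Subgroup.mem_centralizer_iff.2
      fun b hb => congrArg Subtype.val (mul_comm (⟨b, hb⟩ : B) ⟨a, ha⟩)) fun a ha =>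
        Subgroup.mem_centralizer_iff.2 fun b _ => Subgroup.mem_center_iff.1 ha b)) fun a ha =>
      Subgroup.mem_centralizer_iff.2 fun b _ => Subgroup.mem_center_iff.1 ha b
  have h1 := hB.2 (B ⊔ Subgroup.center S) ⟨⟨fun a b => Subtype.ext
    (Subgroup.mem_centralizer_iff.1 (hle b.2) a a.2)⟩⟩
  exact (Subgroup.eq_of_le_of_card_ge le_sup_left h1).ge (Subgroup.mem_sup_right hs)

end Member

section Good

variable [Finite S] {n : ℕ} (M : Fin n → Member p S)

/-- The members. -/
abbrev fam : Fin n → Vtx.{u} p := fun i => (M i).A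

/-- The elements of `S` in conjugates of the module. -/
def genSet (i : Fin n) : Set S :=
  {s | ∃ k j x, Word (fam M) k i j x ∧ emb (fam M) i ((M i).ι s) ∈ cj x (hat (fam M) j (fam M j).V)}

variable {M}

theorem twist_between (i j : Fin n) (σ : S ≃* S) :
    ∃ d, Twist (fam M) ((M j).e.symm.trans (σ.trans (M i).e)) d ∧
      ∀ t : S, d * emb (fam M) j ((M j).ι t) * d⁻¹ = emb (fam M) i ((M i).ι (σ t)) := by
  obtain ⟨d, hd⟩ := exists_twist (A := fam M) ((M j).e.symm.trans (σ.trans (M i).e))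
  refine ⟨d, hd, fun t => (hd ((M j).e t)).trans ?_⟩
  rw [MulEquiv.trans_apply, MulEquiv.symm_apply_apply]
  rfl

theorem gen_map (i j : Fin n) (σ : S ≃* S) {t : S} (ht : t ∈ genSet M j) : σ t ∈ genSet M i := by
  obtain ⟨d, hd, hdt⟩ := twist_between (M := M) i j σ
  obtain ⟨k, l, x, hx, hm⟩ := ht
  refine ⟨k + 1, l, d * x, word_cons ⟨_, hd⟩ hx, ?_⟩
  rw [← PushRankOne.cj_cj, ← hdt t]
  exact mem_cj_of_mem d hm

/-- If all words are good, a characteristic subgroup containing a large abelian subgroup is normal in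
all members. -/
theorem exists_normal_of_good (hn : 0 < n)
    (hall : ∀ k i j x, Word (fam M) k i j x → Good' (fam M) i j x) :
    ∃ T : Subgroup S, T.Characteristic ∧ (∃ B, B ≤ T ∧ Large B) ∧ ∀ i, ((M i).img T).Normal := by
  classical
  set i₀ : Fin n := ⟨0, hn⟩
  set T := Subgroup.closure (genSet M i₀) with hT
  haveI hTc : T.Characteristic := Subgroup.characteristic_iff_map_le.2 fun σ => by
    rw [hT, MonoidHom.map_closure, Subgroup.closure_le]
    rintro _ ⟨t, ht, rfl⟩
    exact Subgroup.subset_closure (gen_map i₀ i₀ σ ht)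
  have hgen : ∀ i, genSet M i ⊆ (T : Set S) := fun i t ht =>
    Subgroup.subset_closure (gen_map i₀ i (MulEquiv.refl S) ht)
  have hTQ : ∀ i, (M i).img T ≤ (M i).A.Q := by
    intro i
    rw [Member.img, hT, MonoidHom.map_closure, Subgroup.closure_le]
    rintro _ ⟨t, ht, rfl⟩
    obtain ⟨k, j, x, hx, hm⟩ := (gen_map (M := M) i i₀ (MulEquiv.refl S) ht : t ∈ genSet M i)
    obtain ⟨q, hq, e⟩ := hall k i j x hx hm
    exact (emb_injective _ i e : q = (M i).ι t) ▸ hq
  have hTn : ∀ i, ((M i).img T).Normal := by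
    intro i
    refine ⟨fun x hx g => ?_⟩
    have hle : (M i).img T ≤ ((M i).img T).comap (MulAut.conj g).toMonoidHom := by
      rw [Member.img, Subgroup.map_le_iff_le_comap, hT, Subgroup.closure_le]
      intro t ht
      obtain ⟨k, j, x, hx, hm⟩ := (gen_map (M := M) i i₀ (MulEquiv.refl S) ht : t ∈ genSet M i)
      obtain ⟨q, hq, e⟩ := hall k i j x hx hm
      have hq' : g * (M i).ι t * g⁻¹ ∈ (M i).A.P := (M i).A.Q_le_P
        ((M i).A.Q_normal.conj_mem _ ((emb_injective (fam M) i e : q = (M i).ι t) ▸ hq) g)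
      refine ⟨(M i).e.symm ⟨_, hq'⟩, hgen i ⟨k, j, emb (fam M) i g * x, mul_word hx g, ?_⟩,
        congrArg Subtype.val ((M i).e.apply_symm_apply _)⟩
      rw [← PushRankOne.cj_cj, show (M i).ι ((M i).e.symm ⟨_, hq'⟩) = g * (M i).ι t * g⁻¹ from
        congrArg Subtype.val ((M i).e.apply_symm_apply ⟨_, hq'⟩), map_mul, map_mul, map_inv]
      exact mem_cj_of_mem _ hm
    exact hle hx
  have hVT : ∀ i, (M i).A.V ≤ (M i).img T := fun i v hv => by
    refine ⟨(M i).e.symm ⟨v, (M i).A.V_le_P hv⟩, hgen i ⟨0, i, 1, one_word i, ?_⟩,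
      congrArg Subtype.val ((M i).e.apply_symm_apply _)⟩
    rw [PushRankOne.cj_one, show (M i).ι ((M i).e.symm ⟨v, (M i).A.V_le_P hv⟩) = v from
      congrArg Subtype.val ((M i).e.apply_symm_apply _)]
    exact ⟨v, hv, rfl⟩
  haveI : Nonempty {B : Subgroup S // Large B} := ⟨⟨_, exists_large.choose_spec⟩⟩
  obtain ⟨⟨B₀, hB₀⟩, hmax⟩ :=
    Finite.exists_max (fun B : {B : Subgroup S // Large B} => Nat.card ↥((B : Subgroup S) ⊓ T))
  set m := Nat.card ↥(B₀ ⊓ T)
  have hmax' : ∀ B, Large B → Nat.card ↥(B ⊓ T) ≤ m := fun B hB => hmax ⟨B, hB⟩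
  -- the members of largest intersection lie in the cores
  have hBQ : ∀ B, Large B → m ≤ Nat.card ↥(B ⊓ T) → ∀ i, (M i).img B ≤ (M i).A.Q := by
    intro B hB hBm i
    by_contra hne
    set A := (M i).A with hA
    set B' := (M i).img B with hB'
    haveI := A.Q_normal
    have hB'P : B' ≤ A.P := (M i).img_le B
    obtain ⟨s, hs, hsQ⟩ := SetLike.not_le_iff_exists.1 hne
    haveI := hB.1
    have hBc : ∀ x ∈ B', ∀ y ∈ B', Commute x y := by
      rintro _ ⟨a, ha, rfl⟩ _ ⟨b, hb, rfl⟩
      exact ((M i).commute_iff).2 (congrArg Subtype.val (mul_comm (⟨a, ha⟩ : B) ⟨b, hb⟩))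
    set A₁ := B' ⊓ A.Q ⊔ A.V with hA₁
    have hc₁ : ∀ x ∈ A₁, ∀ y ∈ A₁, Commute x y := by
      have hle : A₁ ≤ Subgroup.centralizer (A₁ : Set A.G) := by
        refine sup_le (Subgroup.le_centralizer_iff.1 (sup_le (fun a ha => ?_) fun a ha => ?_))
          (Subgroup.le_centralizer_iff.1 (sup_le (fun a ha => ?_) fun a ha => ?_))
        · exact Subgroup.mem_centralizer_iff.2 fun b hb => (hBc b hb.1 a ha.1).eq
        · exact Subgroup.mem_centralizer_iff.2 fun b hb => (A.commute_Q hb.2 ha).eq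
        · exact Subgroup.mem_centralizer_iff.2 fun b hb => (A.commute_Q ha.2 hb).symm.eq
        · exact Subgroup.mem_centralizer_iff.2 fun b hb => (A.commute_V hb ha).eq
      exact fun x hx y hy => (Subgroup.mem_centralizer_iff.1 (hle hy) x hx)
    have hA₁P : A₁ ≤ A.P := sup_le (inf_le_left.trans hB'P) A.V_le_P
    have hVB : B' ⊓ A.V ≤ A.Z := fun v hv =>
      A.fixed_of_commute (hB'P hs) hsQ hv.2 (hBc s hs v hv.1)
    have hcard : Nat.card B ≤ Nat.card A₁ := by
      rw [← (M i).card_img B, ← hB']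
      have h1 := CfsgLib.Offender.Timmesfeld.card_mul_card_le B' A.Q
      have h2 : Nat.card B' ≤ Nat.card A.F * Nat.card ↥(B' ⊓ A.Q) := by
        refine Nat.le_of_mul_le_mul_right (?_ : _ * Nat.card A.Q ≤ _ * Nat.card A.Q) Nat.card_pos
        refine h1.trans ((Nat.mul_le_mul_right _ (Subgroup.card_le_of_le (sup_le hB'P A.Q_le_P))).trans
          (le_of_eq ?_))
        rw [A.card_P]
        ring
      have h3 := CfsgLib.CD.card_mul_le (B' ⊓ A.Q) A.V
      have h4 : Nat.card ↥(B' ⊓ A.Q ⊓ A.V) ≤ Nat.card A.Z :=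
        Subgroup.card_le_of_le ((inf_le_inf_right _ inf_le_left).trans hVB)
      rw [← hA₁, A.card_V] at h3
      refine Nat.le_of_mul_le_mul_right (?_ : _ * Nat.card A.Z ≤ _ * Nat.card A.Z) Nat.card_pos
      calc Nat.card B' * Nat.card A.Z ≤ Nat.card A.F * Nat.card ↥(B' ⊓ A.Q) * Nat.card A.Z :=
            Nat.mul_le_mul_right _ h2
        _ = Nat.card ↥(B' ⊓ A.Q) * (Nat.card A.F * Nat.card A.Z) := by ring
        _ ≤ Nat.card A₁ * Nat.card ↥(B' ⊓ A.Q ⊓ A.V) := h3
        _ ≤ _ := Nat.mul_le_mul_left _ h4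
    have hC := (M i).large_pull hB hA₁P hc₁ hcard
    have hle : B' ⊓ (M i).img T ≤ A₁ ⊓ (M i).img T := le_inf
      (fun x hx => Subgroup.mem_sup_left ⟨hx.1, hTQ i hx.2⟩) inf_le_right
    have h5 : Nat.card ↥(A₁ ⊓ (M i).img T) ≤ Nat.card ↥(B' ⊓ (M i).img T) := by
      rw [← (M i).img_pull hA₁P, ← (M i).img_inf, (M i).card_img, hB', ← (M i).img_inf, (M i).card_img]
      exact (hmax' _ hC).trans hBm
    have h6 := Subgroup.eq_of_le_of_card_ge hle h5
    have h7 : A.V ≤ B' := (le_inf le_sup_right (hVT i)).trans (h6.ge.trans inf_le_left)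
    refine A.R_not_le_center ((?_ : A.R ≤ (⊥ : Subgroup A.G)).trans bot_le)
    have hVZ : A.V ≤ A.Z := (le_inf h7 le_rfl).trans hVB
    exact (Subgroup.commutator_mono hVZ le_rfl).trans A.comm_Z_P.le
  -- and centralise all conjugates of the modules
  have hcomm : ∀ k B, Large B → m ≤ Nat.card ↥(B ⊓ T) → ∀ i j x, Word (fam M) k i j x →
      ∀ b ∈ (M i).img B, ∀ v ∈ cj x (hat (fam M) j (fam M j).V), Commute (emb (fam M) i b) v := by
    intro k
    induction k with
    | zero =>
      intro B hB hBm i j x hx b hb v hv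
      cases hx with
      | zero _ g =>
        rw [cj_emb_V] at hv
        obtain ⟨w, hw, rfl⟩ := hv
        exact ((M i).A.commute_Q (hBQ B hB hBm i hb) hw).map (emb (fam M) i)
    | succ k ih =>
      intro B hB hBm i j x hx b hb v hv
      cases hx with
      | succ g hd hy =>
        rename_i l d y
        haveI := (M i).A.Q_normal
        haveI := hTn i
        set W := cj g⁻¹ ((M i).img B) with hW
        have hWQ : W ≤ (M i).A.Q := (cj_mono _ (hBQ B hB hBm i)).trans (cj_eq_of_normal _ _).le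
        have hWP : W ≤ (M i).A.P := hWQ.trans (M i).A.Q_le_P
        haveI := hB.1
        have hWc : ∀ a ∈ W, ∀ c ∈ W, Commute a c := by
          rintro _ ⟨_, ⟨a, ha, rfl⟩, rfl⟩ _ ⟨_, ⟨c, hc, rfl⟩, rfl⟩
          exact (((M i).commute_iff).2 (congrArg Subtype.val (mul_comm (⟨a, ha⟩ : B) ⟨c, hc⟩))).map _
        have hWcard : Nat.card W = Nat.card B := by rw [hW, PushRankOne.card_cj, (M i).card_img]
        set B₁ := (M i).pull W with hB₁
        have hB₁L : Large B₁ := (M i).large_pull hB hWP hWc hWcard.ge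
        have hB₁m : m ≤ Nat.card ↥(B₁ ⊓ T) := by
          refine hBm.trans (le_of_eq ?_)
          rw [← (M i).card_img (B₁ ⊓ T), (M i).img_inf, hB₁, (M i).img_pull hWP, hW,
            ← cj_eq_of_normal g⁻¹ ((M i).img T), cj, cj,
            ← Subgroup.map_inf _ _ _ (MulAut.conj g⁻¹).injective,
            Subgroup.card_map_of_injective (MulAut.conj g⁻¹).injective, ← (M i).img_inf, (M i).card_img]
        obtain ⟨φ, hφ⟩ := hd
        let σ : S ≃* S := ((M i).e.trans φ.symm).trans (M l).e.symm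
        have hB₂L : Large (B₁.map σ.toMonoidHom) := large_map hB₁L σ
        have hB₂m : m ≤ Nat.card ↥(B₁.map σ.toMonoidHom ⊓ T) := by
          rw [← Subgroup.characteristic_iff_map_eq.1 hTc σ, ← Subgroup.map_inf _ _ _ σ.injective,
            Subgroup.card_map_of_injective σ.injective]
          exact hB₁m
        set a := g⁻¹ * b * g⁻¹⁻¹ with ha
        have haW : a ∈ W := mem_cj_of_mem _ hb
        have hφa : ((φ.symm ⟨a, hWP haW⟩ : (M l).A.P) : (M l).A.G) ∈ (M l).img (B₁.map σ.toMonoidHom) := by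
          refine ⟨σ ((M i).e.symm ⟨a, hWP haW⟩), ⟨_, ?_, rfl⟩, ?_⟩
          · show (M i).ι ((M i).e.symm ⟨a, hWP haW⟩) ∈ W
            rwa [show (M i).ι ((M i).e.symm ⟨a, hWP haW⟩) = a from
              congrArg Subtype.val ((M i).e.apply_symm_apply _)]
          · show ((M l).e ((M l).e.symm (φ.symm ((M i).e ((M i).e.symm ⟨a, hWP haW⟩)))) : (M l).A.G) = _
            rw [MulEquiv.apply_symm_apply, MulEquiv.apply_symm_apply]
        rw [mul_assoc, ← PushRankOne.cj_cj, ← PushRankOne.cj_cj] at hv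
        obtain ⟨_, ⟨v', hv', rfl⟩, rfl⟩ := hv
        have h1 := ih _ hB₂L hB₂m l j _ hy _ hφa v' hv'
        have h2 := h1.map (MulAut.conj d).toMonoidHom
        have e := hφ (φ.symm ⟨a, hWP haW⟩)
        rw [MulEquiv.apply_symm_apply] at e
        simp only [MulEquiv.coe_toMonoidHom, MulAut.conj_apply] at h2
        rw [e] at h2
        have h3 := h2.map (MulAut.conj (emb (fam M) i g)).toMonoidHom
        simp only [MulEquiv.coe_toMonoidHom, MulAut.conj_apply] at h3
        rw [← map_inv, ← map_mul, ← map_mul, show g * a * g⁻¹ = b by rw [ha]; group, map_inv] at h3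
        exact h3
  refine ⟨Subgroup.centralizer (T : Set S), inferInstance, ⟨B₀, ?_, hB₀⟩, fun i => ?_⟩
  · rw [Subgroup.le_centralizer_iff, hT, Subgroup.closure_le]
    intro t ht
    refine Subgroup.mem_centralizer_iff.2 fun b hb => ?_
    obtain ⟨k, j, x, hx, hm⟩ := ht
    have h1 := hcomm k B₀ hB₀ le_rfl i₀ j x hx _ (Member.mem_img_of_mem _ hb) _ hm
    exact (((M i₀).commute_iff).1 (Commute.of_map (emb_injective (fam M) i₀) h1)).eq
  · haveI := hTn i
    haveI := (M i).A.Q_normal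
    haveI : (Subgroup.centralizer (((M i).img T : Subgroup (M i).A.G) : Set (M i).A.G)).Normal :=
      Subgroup.normal_centralizer
    have h : (M i).img (Subgroup.centralizer (T : Set S)) =
        Subgroup.centralizer (((M i).img T : Subgroup (M i).A.G) : Set (M i).A.G) ⊓ (M i).A.Q := by
      ext x
      constructor
      · rintro ⟨s, hs, rfl⟩
        have hc : (M i).ι s ∈ Subgroup.centralizer (((M i).img T : Subgroup (M i).A.G) : Set (M i).A.G) := by
          refine Subgroup.mem_centralizer_iff.2 ?_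
          rintro _ ⟨t, ht, rfl⟩
          have h1 : t * s = s * t := Subgroup.mem_centralizer_iff.1 hs t ht
          rw [← map_mul, h1, map_mul]
        refine ⟨hc, (M i).A.centralizer_inf_P ⟨?_, ((M i).e s).2⟩⟩
        exact Subgroup.centralizer_le (SetLike.coe_subset_coe.2 (hVT i)) hc
      · rintro ⟨hx, hxQ⟩
        have hxP := (M i).A.Q_le_P hxQ
        have e : (M i).ι ((M i).e.symm ⟨x, hxP⟩) = x := congrArg Subtype.val ((M i).e.apply_symm_apply _)
        refine ⟨(M i).e.symm ⟨x, hxP⟩, Subgroup.mem_centralizer_iff.2 fun t ht => (M i).ι_injective ?_, e⟩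
        rw [map_mul, map_mul, e]
        exact Subgroup.mem_centralizer_iff.1 hx _ ⟨t, ht, rfl⟩
    rw [h]
    exact Subgroup.normal_inf_normal _ _

end Good

/-! ### The induction -/

/-- What the induction carries. -/
structure Admissible (p : ℕ) [Fact p.Prime] (X : Subgroup S) : Prop where
  char : X.Characteristic
  ne : X ≠ ⊥
  center : X ≤ Subgroup.center S
  layer : X ≤ szero p ⊤ (phi ⊤)
  meets : ∀ D : Member p S, ¬ (D.img X).Normal → ¬ D.A.R ⊓ D.img X ≤ Subgroup.center D.A.G

theorem exists_pair_of_admissible [Finite S] : ∀ (m : ℕ) (X : Subgroup S), Nat.card X ≤ m →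
    Admissible p X → ∃ S₁ S₂ : Subgroup S, S₁ ≠ ⊥ ∧ S₁.Characteristic ∧ S₁ ≤ Subgroup.center S ∧
      S₂.Characteristic ∧ (∃ B, B ≤ S₂ ∧ Large B) ∧
      ∀ D : Member p S, (D.img S₁).Normal ∨ (D.img S₂).Normal := by
  classical
  intro m
  induction m with
  | zero => intro X hX; exact absurd hX (by have := Nat.card_pos (α := X); omega)
  | succ m ih =>
    intro X hXm hX
    by_cases hT : ∃ T : Subgroup S, T.Characteristic ∧ (∃ B, B ≤ T ∧ Large B) ∧
        ∀ D : Member p S, ¬ (D.img X).Normal → (D.img T).Normal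
    · obtain ⟨T, hTc, hTB, hTn⟩ := hT
      exact ⟨X, T, hX.ne, hX.char, hX.center, hTc, hTB, fun D => or_iff_not_imp_left.2 (hTn D)⟩
    let sig : Member p S → Subgroup S × Set (Subgroup S) := fun D =>
      (D.pull D.A.R, {U | (D.img U).Normal})
    let K : Set (Subgroup S × Set (Subgroup S)) :=
      {s | ∃ D : Member p S, ¬ (D.img X).Normal ∧ sig D = s}
    let ec : Fin (Nat.card K) ≃ K := (Finite.equivFin K).symm
    let rep : Fin (Nat.card K) → Member p S := fun i => (ec i).2.choose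
    have hrep : ∀ i, ¬ ((rep i).img X).Normal := fun i => (ec i).2.choose_spec.1
    have hsig : ∀ D : Member p S, ¬ (D.img X).Normal → ∃ i, sig (rep i) = sig D := by
      intro D hD
      refine ⟨ec.symm ⟨sig D, D, hD, rfl⟩, ?_⟩
      exact ((ec (ec.symm ⟨sig D, D, hD, rfl⟩)).2.choose_spec.2).trans (by rw [Equiv.apply_symm_apply])
    have hsame : ∀ {D D' : Member p S}, sig D' = sig D → ∀ U, (D'.img U).Normal ↔ (D.img U).Normal :=
      fun {D D'} e U => Set.ext_iff.1 (congrArg Prod.snd e) U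
    have hXZ : ∀ D : Member p S, D.img X ≤ D.A.Z := fun D =>
      (D.img_mono hX.center).trans D.img_center.le
    have hnc : ∀ D : Member p S, ¬ (D.img X).Normal → ¬ D.img X ≤ Subgroup.center D.A.G :=
      fun D hD h => hD (PushRankOne.normal_of_le_center h)
    have hvX : ∀ i, ∃ W : Subgroup (fam rep i).G, W ≤ (fam rep i).Z ∧
        W ≤ szero p (fam rep i).P (CD.Offender.phi (fam rep i).P) ∧
        ¬ W ≤ Subgroup.center (fam rep i).G := fun i =>
      ⟨(rep i).img X, hXZ _, ((rep i).img_mono hX.layer).trans (rep i).img_szero.le, hnc _ (hrep i)⟩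
    have hn : 0 < Nat.card K := by
      by_contra h0
      refine hT ⟨⊤, inferInstance, ⟨_, le_top, exists_large.choose_spec⟩, fun D hD => ?_⟩
      exact absurd (hsig D hD).choose.2 (by omega)
    rcases alternative hvX with hall | ⟨Dp, ⟨x₀, hx₀⟩, ⟨y₀, hy₀⟩, hsplit⟩
    · exfalso
      obtain ⟨T, hTc, hTB, hTn⟩ := exists_normal_of_good hn hall
      refine hT ⟨T, hTc, hTB, fun D hD => ?_⟩
      obtain ⟨i, hi⟩ := hsig D hD
      exact (hsame hi T).1 (hTn i)
    let f : {i // Dp i} × (S ≃* S) → Subgroup S := fun x =>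
      ((rep x.1.1).pull (rep x.1.1).A.R ⊓ X).map x.2.toMonoidHom
    set Z₁ := iSup f with hZ₁
    have hmapmap : ∀ (W : Subgroup S) (τ σ : S ≃* S),
        (W.map τ.toMonoidHom).map σ.toMonoidHom = W.map (τ.trans σ).toMonoidHom := fun W τ σ =>
      Subgroup.map_map _ _ _
    haveI hZ₁c : Z₁.Characteristic := Subgroup.characteristic_iff_map_le.2 fun σ => by
      rw [hZ₁, Subgroup.map_iSup]
      exact iSup_le fun x => le_iSup_of_le (⟨x.1, x.2.trans σ⟩ : {i // Dp i} × (S ≃* S))
        (hmapmap _ _ _).le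
    have hZ₁X : Z₁ ≤ X := iSup_le fun x =>
      (Subgroup.map_mono inf_le_right).trans (Subgroup.characteristic_iff_map_le.1 hX.char x.2)
    have hcen : ∀ y, ¬ Dp y → (rep y).img Z₁ ≤ Subgroup.center (rep y).A.G := by
      intro y hy
      rw [hZ₁, Member.img, Subgroup.map_iSup]
      refine iSup_le fun x => ?_
      refine le_trans ?_ (hsplit x.1.1 y x.1.2 hy ((rep x.1.1).e.symm.trans (x.2.trans (rep y).e)))
      rintro _ ⟨_, ⟨s, hs, rfl⟩, rfl⟩
      refine mem_tr.2 ⟨(rep x.1.1).e s, hs.1, ?_⟩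
      rw [MulEquiv.trans_apply, MulEquiv.symm_apply_apply]
      rfl
    have hne : Z₁ ≠ ⊥ := by
      intro h0
      refine hX.meets (rep x₀) (hrep x₀) ?_
      rintro _ ⟨hR, s, hs, rfl⟩
      have h1 : s ∈ Z₁ := le_iSup f ⟨⟨x₀, hx₀⟩, MulEquiv.refl S⟩ ⟨s, ⟨hR, hs⟩, rfl⟩
      rw [h0, Subgroup.mem_bot] at h1
      rw [h1, map_one]
      exact one_mem _
    have hlt : Nat.card Z₁ ≤ m := by
      by_contra hcon
      refine hnc _ (hrep y₀) ?_
      rw [← Subgroup.eq_of_le_of_card_ge hZ₁X (by omega)]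
      exact hcen y₀ hy₀
    refine ih Z₁ hlt ⟨hZ₁c, hne, hZ₁X.trans hX.center, hZ₁X.trans hX.layer, fun D hD => ?_⟩
    have hDX : ¬ (D.img X).Normal := fun h => hD (PushRankOne.normal_of_le_center
      ((D.img_mono hZ₁X).trans (by
        haveI := h
        exact D.A.center_of_normal (hXZ D))))
    obtain ⟨i, hi⟩ := hsig D hDX
    have hiD : Dp i := by
      by_contra hi'
      exact hD ((hsame hi Z₁).1 (PushRankOne.normal_of_le_center (hcen i hi')))
    intro hle
    refine hX.meets D hDX ?_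
    rintro _ ⟨hR, s, hs, rfl⟩
    refine hle ⟨hR, s, le_iSup f ⟨⟨i, hiD⟩, MulEquiv.refl S⟩ ⟨s, ⟨?_, hs⟩, rfl⟩, rfl⟩
    have e : (rep i).pull (rep i).A.R = D.pull D.A.R := congrArg Prod.fst hi
    rw [e]
    exact hR

/-- The main step: the second layer is not trivial. -/
theorem main [Finite S] (hS : IsPGroup p S) (hne : szero p (⊤ : Subgroup S) (phi ⊤) ≠ ⊥) :
    ∃ S₁ S₂ : Subgroup S, S₁ ≠ ⊥ ∧ S₁.Characteristic ∧ S₁ ≤ Subgroup.center S ∧
      S₂.Characteristic ∧ (∃ B, B ≤ S₂ ∧ Large B) ∧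
      ∀ D : Member p S, (D.img S₁).Normal ∨ (D.img S₂).Normal := by
  haveI := szero_char (G := S) p
  set S₀ := szero p (⊤ : Subgroup S) (phi ⊤) with hS₀
  have hX : S₀ ⊓ Subgroup.center S ≠ ⊥ := by
    have h := Signalizer.inf_centralizer_ne_bot (v := p) (P := (⊤ : Subgroup S)) (N := S₀)
      (hS.to_subgroup ⊤) le_top (le_top.trans (Subgroup.normalizer_eq_top (H := S₀)).ge) hne
    rwa [Subgroup.coe_top, Subgroup.centralizer_univ] at h
  refine exists_pair_of_admissible _ _ le_rfl
    ⟨Subgroup.characteristic_iff_map_eq.2 fun σ => by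
      rw [Subgroup.map_inf _ _ _ σ.injective, Subgroup.characteristic_iff_map_eq.1 inferInstance σ,
        Subgroup.characteristic_iff_map_eq.1 inferInstance σ],
      hX, inf_le_right, inf_le_left, fun D hD => ?_⟩
  haveI : (S₀ ⊓ Subgroup.center S).Characteristic := Subgroup.characteristic_iff_map_eq.2 fun σ => by
    rw [Subgroup.map_inf _ _ _ σ.injective, Subgroup.characteristic_iff_map_eq.1 inferInstance σ,
      Subgroup.characteristic_iff_map_eq.1 inferInstance σ]
  refine D.A.R_inf_not_central ((D.img_mono inf_le_right).trans D.img_center.le)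
    (fun g hg => D.img_conj_mem hg) ?_ ((D.img_mono inf_le_left).trans D.img_szero.le)
    fun h => hD (PushRankOne.normal_of_le_center h)
  rw [D.img_inf, hS₀, D.img_szero, D.img_center]

end CfsgLib.PushFamily
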