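import Cfsg.Agent.Lib.PushFamily.Ends

/-!
Members of the family as embeddings of one group: the transport of the characteristic subgroups.
-/

set_option autoImplicit false
set_option linter.unusedSectionVars false
set_option linter.style.haveILetI false

namespace CfsgLib.PushFamily

open CfsgLib.SL2 CfsgLib.SL2Module CfsgLib.SL2Module.Baumann
open CfsgLib.CD.Offender (phi phi_le)
open scoped MatrixGroups commutatorElement

universe u

section Gen

variable {G H : Type*} [Group G] [Group H]

theorem map_frattini_equiv {e : G ≃* H} : (frattini G).map e.toMonoidHom = frattini H := by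
  refine le_antisymm ?_ ?_
  · rintro _ ⟨x, hx, rfl⟩
    exact frattini_le_comap_frattini_of_surjective (φ := e.toMonoidHom) e.surjective hx
  · intro y hy
    exact ⟨e.symm y,
      frattini_le_comap_frattini_of_surjective (φ := e.symm.toMonoidHom) e.symm.surjective hy,
      e.apply_symm_apply y⟩

theorem map_phi_inj {f : G →* H} (hf : Function.Injective f) (N : Subgroup G) :
    (phi N).map f = phi (N.map f) := by
  have h1 : (frattini (N.map f)) = (frattini N).map (N.equivMapOfInjective f hf).toMonoidHom :=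
    map_frattini_equiv.symm
  rw [CD.Offender.phi, CD.Offender.phi, h1, Subgroup.map_map, Subgroup.map_map]
  rfl

theorem map_powerClosure (f : G →* H) (p n : ℕ) (N : Subgroup G) :
    (Cfsg.powerClosure p n N).map f = Cfsg.powerClosure p n (N.map f) := by
  rw [Cfsg.powerClosure, MonoidHom.map_closure, Cfsg.powerClosure]
  congr 1
  ext y
  constructor
  · rintro ⟨_, ⟨x, hx, rfl⟩, rfl⟩
    exact ⟨f x, ⟨x, hx, rfl⟩, map_pow f x _⟩
  · rintro ⟨_, ⟨x, hx, rfl⟩, rfl⟩
    exact ⟨x ^ p ^ n, ⟨x, hx, rfl⟩, map_pow f x _⟩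

theorem phi_top : phi (⊤ : Subgroup G) = frattini G := map_frattini_equiv (e := Subgroup.topEquiv)

theorem char_sup (A B : Subgroup G) [A.Characteristic] [B.Characteristic] : (A ⊔ B).Characteristic :=
  Subgroup.characteristic_iff_map_eq.2 fun σ => by
    rw [Subgroup.map_sup, Subgroup.characteristic_iff_map_eq.1 inferInstance σ,
      Subgroup.characteristic_iff_map_eq.1 inferInstance σ]

theorem phi_char (N : Subgroup G) [hN : N.Characteristic] : (phi N).Characteristic := by
  refine Subgroup.characteristic_iff_map_eq.2 fun σ => ?_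
  rw [map_phi_inj (f := σ.toMonoidHom) σ.injective, Subgroup.characteristic_iff_map_eq.1 hN σ]

theorem powerClosure_char (p n : ℕ) (N : Subgroup G) [hN : N.Characteristic] :
    (Cfsg.powerClosure p n N).Characteristic := by
  refine Subgroup.characteristic_iff_map_eq.2 fun σ => ?_
  rw [map_powerClosure, Subgroup.characteristic_iff_map_eq.1 hN σ]

theorem szero_char (p : ℕ) : (szero p (⊤ : Subgroup G) (phi (⊤ : Subgroup G))).Characteristic := by
  haveI := phi_char (⊤ : Subgroup G)
  haveI := phi_char (phi (⊤ : Subgroup G))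
  haveI := powerClosure_char p 1 (⊤ : Subgroup G)
  rw [szero]
  split_ifs <;> exact char_sup _ _

end Gen

variable {p : ℕ} [hp : Fact p.Prime]

/-- A member of the family with an identification of its Sylow subgroup with `S`. -/
structure Member (p : ℕ) [Fact p.Prime] (S : Type u) [Group S] : Type (u + 1) where
  A : Vtx.{u} p
  e : S ≃* A.P

namespace Member

variable {S : Type u} [Group S] (D : Member p S)

/-- The embedding. -/
def ι : S →* D.A.G := D.A.P.subtype.comp D.e.toMonoidHom

theorem ι_injective : Function.Injective D.ι := D.A.P.subtype_injective.comp D.e.injective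

/-- The image. -/
def img (X : Subgroup S) : Subgroup D.A.G := X.map D.ι

theorem mem_img {X : Subgroup S} {x : D.A.G} : x ∈ D.img X ↔ ∃ s ∈ X, (D.e s : D.A.G) = x :=
  Iff.rfl

theorem mem_img_of_mem {X : Subgroup S} {s : S} (h : s ∈ X) : (D.e s : D.A.G) ∈ D.img X := ⟨s, h, rfl⟩

theorem img_le (X : Subgroup S) : D.img X ≤ D.A.P := by
  rintro _ ⟨s, -, rfl⟩
  exact (D.e s).2

theorem img_mono {X Y : Subgroup S} (h : X ≤ Y) : D.img X ≤ D.img Y := Subgroup.map_mono h

theorem img_le_iff {X Y : Subgroup S} : D.img X ≤ D.img Y ↔ X ≤ Y :=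
  Subgroup.map_le_map_iff_of_injective D.ι_injective

theorem img_top : D.img ⊤ = D.A.P :=
  le_antisymm (D.img_le _) fun x hx =>
    ⟨D.e.symm ⟨x, hx⟩, trivial, congrArg Subtype.val (D.e.apply_symm_apply ⟨x, hx⟩)⟩

theorem img_center : D.img (Subgroup.center S) = D.A.Z := by
  ext x
  rw [D.mem_img]
  constructor
  · rintro ⟨s, hs, rfl⟩
    refine Subgroup.mem_inf.2 ⟨(D.e s).2, Subgroup.mem_centralizer_iff.2 fun y hy => ?_⟩
    have h1 : D.e.symm ⟨y, hy⟩ * s = s * D.e.symm ⟨y, hy⟩ := Subgroup.mem_center_iff.1 hs _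
    have h2 := congrArg D.e h1
    rw [map_mul, map_mul, MulEquiv.apply_symm_apply] at h2
    exact congrArg Subtype.val h2
  · intro hx
    refine ⟨D.e.symm ⟨x, hx.1⟩, Subgroup.mem_center_iff.2 fun t => D.e.injective ?_,
      congrArg Subtype.val (D.e.apply_symm_apply _)⟩
    rw [map_mul, map_mul, MulEquiv.apply_symm_apply]
    exact Subtype.ext (Subgroup.mem_centralizer_iff.1 (Subgroup.mem_inf.1 hx).2 _ (D.e t).2)

theorem img_inf (X Y : Subgroup S) : D.img (X ⊓ Y) = D.img X ⊓ D.img Y :=
  Subgroup.map_inf X Y _ D.ι_injective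

theorem img_szero : D.img (szero p ⊤ (phi ⊤)) = szero p D.A.P (phi D.A.P) := by
  have hf : D.img (phi ⊤) = phi D.A.P := by rw [img, map_phi_inj D.ι_injective, ← img, D.img_top]
  have hff : D.img (phi (phi ⊤)) = phi (phi D.A.P) := by
    rw [img, map_phi_inj D.ι_injective, ← img, hf]
  rw [szero, szero]
  split_ifs
  · rw [img, Subgroup.map_sup, Subgroup.map_commutator, ← img, ← img, ← img, hf, hff, D.img_top]
  · rw [img, Subgroup.map_sup, Subgroup.map_commutator, Subgroup.map_commutator, ← img, ← img, ← img, hf,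
      hff, D.img_top]
  · rw [img, Subgroup.map_sup, Subgroup.map_commutator, map_powerClosure, ← img, ← img, hf, D.img_top]

/-- The part of `S` over a subgroup. -/
def pull (W : Subgroup D.A.G) : Subgroup S := W.comap D.ι

theorem img_pull {W : Subgroup D.A.G} (hW : W ≤ D.A.P) : D.img (D.pull W) = W :=
  Subgroup.map_comap_eq_self (hW.trans (D.img_top.ge.trans (by rw [img, ← MonoidHom.range_eq_map])))

theorem img_conj_mem {X : Subgroup S} [hX : X.Characteristic] {g : D.A.G}
    (hg : g ∈ Subgroup.normalizer (D.A.P : Set D.A.G)) :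
    ∀ x ∈ D.img X, g * x * g⁻¹ ∈ D.img X := by
  rintro _ ⟨s, hs, rfl⟩
  let c : D.A.P ≃* D.A.P :=
    { toFun := fun y => ⟨g * y * g⁻¹, (Subgroup.mem_normalizer_iff.1 hg y).1 y.2⟩
      invFun := fun y => ⟨g⁻¹ * y * g, by
        have h := (Subgroup.mem_normalizer_iff.1 hg (g⁻¹ * y * g)).2
        rw [show g * (g⁻¹ * (y : D.A.G) * g) * g⁻¹ = y by group] at h
        exact h y.2⟩
      left_inv := fun y => Subtype.ext (show g⁻¹ * (g * (y : D.A.G) * g⁻¹) * g = y by group)
      right_inv := fun y => Subtype.ext (show g * (g⁻¹ * (y : D.A.G) * g) * g⁻¹ = y by group)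
      map_mul' := fun y z => Subtype.ext
        (show g * ((y : D.A.G) * z) * g⁻¹ = g * y * g⁻¹ * (g * z * g⁻¹) by group) }
  refine ⟨D.e.symm (c (D.e s)), ?_, congrArg Subtype.val (D.e.apply_symm_apply _)⟩
  exact (Subgroup.characteristic_iff_map_le.1 hX ((D.e.trans c).trans D.e.symm)) ⟨s, hs, rfl⟩

theorem commute_iff {s t : S} : Commute (D.ι s) (D.ι t) ↔ Commute s t :=
  ⟨fun h => D.ι_injective (by rw [map_mul, map_mul]; exact h.eq), fun h => h.map D.ι⟩

theorem card_img (X : Subgroup S) : Nat.card (D.img X) = Nat.card X :=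
  Subgroup.card_map_of_injective D.ι_injective

end Member

end CfsgLib.PushFamily
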