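import Cfsg.Agent.Lib.PushFamily.Ends

/-!
Two groups of a family whose modules are critical for each other at distance two: the second module
generated in each group by the image of the module of the other one.
-/

set_option autoImplicit false
set_option linter.unusedSectionVars false
set_option linter.style.haveILetI false

namespace CfsgLib.PushFamily

open CfsgLib.SL2 CfsgLib.SL2Module CfsgLib.SL2Module.Baumann
open CfsgLib.PushRankOne (Zc Vc Rc Natural mem_fixMod comm_conj comm_mul_left comm_mul_right comm_sup_le comm_sup_le_normal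
  sup_comm_le_normal mul_pow_class_two normal_of_le_center normalClosure_comm_le fixMod mem_cj cj cj_mono
  cj_eq_of_normal mem_cj_of_mem le_pCore_of_stab exists_natural)
open scoped MatrixGroups commutatorElement

universe u

variable {p : ℕ} [hp : Fact p.Prime]

namespace Vtx

variable (A : Vtx.{u} p)

theorem gen_top {g : A.G} (hg : g ∉ A.M) {H : Subgroup A.G} (h1 : cj g A.P ≤ H) {a : A.G} (ha : a ∈ H)
    (haS : a ∈ A.P) (haQ : a ∉ A.Q) : H = ⊤ := by
  by_contra hne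
  have hle : cj g⁻¹ H ≤ A.M := A.st.uniq _ (by
    have h2 := cj_mono g⁻¹ h1
    rwa [PushRankOne.cj_inv_cj] at h2) fun h => hne (by
    have h2 := congrArg (cj g) h
    rwa [PushRankOne.cj_cj_inv, cj, Subgroup.map_top_of_surjective _ (MulAut.conj g).surjective] at h2)
  have h3 := (mem_M_iff A.st _).1 (hle (mem_cj_of_mem g⁻¹ ha))
  rw [map_mul, map_mul, map_inv] at h3
  have hπa : A.π a ≠ 1 := fun e => haQ (ker_inf A.st haS e)
  refine hg (by
    rw [← inv_inv g]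
    refine inv_mem ((mem_M_iff A.st _).2 (mem_borelPSL_of_conj (map_mem A.st haS) hπa ?_))
    simp only [map_inv, inv_inv] at h3 ⊢
    exact mem_upperPSL_of_pow p h3 (by
      rw [show (A.π g)⁻¹ * A.π a * A.π g = (A.π g)⁻¹ * A.π a * (A.π g)⁻¹⁻¹ by rw [inv_inv], conj_pow,
        upper_pow p (map_mem A.st haS)]
      group))

theorem conj_not_mem {g s : A.G} (hg : g ∉ A.M) (hs : s ∈ A.P) (hsQ : s ∉ A.Q) : g⁻¹ * s * g ∉ A.M := by
  intro h'
  refine hsQ (ker_inf A.st hs ?_)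
  by_contra hπs
  refine hg ?_
  rw [← inv_inv g]
  refine inv_mem ((mem_M_iff A.st _).2 (mem_borelPSL_of_conj (map_mem A.st hs) hπs ?_))
  have h3 := (mem_M_iff A.st _).1 h'
  rw [map_mul, map_mul, map_inv] at h3
  simp only [map_inv, inv_inv] at h3 ⊢
  exact mem_upperPSL_of_pow p h3 (by
    rw [show (A.π g)⁻¹ * A.π s * A.π g = (A.π g)⁻¹ * A.π s * (A.π g)⁻¹⁻¹ by rw [inv_inv], conj_pow,
      upper_pow p (map_mem A.st hs)]
    group)

end Vtx

section Defs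

variable {A B : Vtx.{u} p}

/-- The image of the other module. -/
def Uimg (φ : A.P ≃* B.P) : Subgroup A.G := tr φ.symm B.V

/-- The second module. -/
def Yimg (φ : A.P ≃* B.P) : Subgroup A.G :=
  Subgroup.normalClosure (Uimg φ : Set A.G) ⊔ A.V

instance Yimg_normal (φ : A.P ≃* B.P) : (Yimg φ).Normal := Subgroup.sup_normal _ _

/-- The part of the second module inside the other core. -/
def Eimg (φ : A.P ≃* B.P) : Subgroup A.G := Yimg φ ⊓ tr φ.symm B.Q

/-- The commutator part of the second module. -/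
def Timg (φ : A.P ≃* B.P) : Subgroup A.G := ⁅Yimg φ, A.P⁆ ⊔ A.Z

/-- The hypotheses. -/
structure Pair (A B : Vtx.{u} p) (φ : A.P ≃* B.P) : Prop where
  inQ : tr φ A.V ≤ B.Q
  inQ' : tr φ.symm B.V ≤ A.Q
  good : ¬ (Uimg φ ⊔ A.V).Normal
  good' : ¬ (Uimg φ.symm ⊔ B.V).Normal
  central : tr φ.symm B.R ≤ Subgroup.center A.G
  central' : tr φ A.R ≤ Subgroup.center B.G
  full : ∀ g, g ∉ A.M → tr φ (cj g (Uimg φ)) ⊔ B.Q = B.P
  full' : ∀ g, g ∉ B.M → tr φ.symm (cj g (Uimg φ.symm)) ⊔ A.Q = A.P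

end Defs

namespace Pair

variable {A B : Vtx.{u} p} {φ : A.P ≃* B.P}

theorem symm (h : Pair A B φ) : Pair B A φ.symm :=
  ⟨h.inQ', by rw [MulEquiv.symm_symm]; exact h.inQ, h.good', by rw [MulEquiv.symm_symm]; exact h.good,
    by rw [MulEquiv.symm_symm]; exact h.central', h.central,
    h.full', by rw [MulEquiv.symm_symm]; exact h.full⟩

variable (h : Pair A B φ)
include h

theorem U_le_Q : Uimg φ ≤ A.Q := h.inQ'

theorem U_le_Y : Uimg φ ≤ Yimg φ := Subgroup.le_normalClosure.trans le_sup_left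

theorem V_le_Y : A.V ≤ Yimg φ := le_sup_right

theorem Y_le_Q : Yimg φ ≤ A.Q := by
  haveI := A.Q_normal
  exact sup_le (Subgroup.normalClosure_le_normal h.U_le_Q) A.V_le_Q

theorem Y_le_P : Yimg φ ≤ A.P := h.Y_le_Q.trans A.Q_le_P

theorem cj_U_le (g : A.G) : cj g (Uimg φ) ≤ A.Q := by
  haveI := A.Q_normal
  exact (cj_mono g h.U_le_Q).trans (cj_eq_of_normal g A.Q).le

theorem cj_U_le_Y (g : A.G) : cj g (Uimg φ) ≤ Yimg φ :=
  (cj_mono g h.U_le_Y).trans (cj_eq_of_normal g _).le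

theorem V_le_bQ : A.V ≤ tr φ.symm B.Q := (tr_le_comm φ A.V_le_P B.Q_le_P).1 h.inQ

theorem U_le_bQ : Uimg φ ≤ tr φ.symm B.Q := tr_mono φ.symm B.V_le_Q

theorem C_le_Z : tr φ.symm B.R ≤ A.Z := tr_R_le_Z φ.symm

theorem C_le_V : tr φ.symm B.R ≤ A.V := h.C_le_Z.trans A.Z_le_V

theorem C_normal : (tr φ.symm B.R).Normal := normal_of_le_center h.central

theorem comm_Q_Y : ⁅A.Q, Yimg φ⁆ ≤ tr φ.symm B.R := by
  haveI := A.Q_normal
  haveI := h.C_normal
  refine comm_sup_le_normal ?_ ?_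
  · rw [Subgroup.commutator_comm]
    refine normalClosure_comm_le ((Subgroup.commutator_mono le_rfl A.Q_le_P).trans ?_)
    rw [Uimg, comm_tr_V φ.symm]
  · rw [A.Q_comm_V]
    exact bot_le

theorem comm_Y_Y : ⁅Yimg φ, Yimg φ⁆ ≤ tr φ.symm B.R :=
  (Subgroup.commutator_mono h.Y_le_Q le_rfl).trans h.comm_Q_Y

theorem C_pow {r : A.G} (hr : r ∈ tr φ.symm B.R) : r ^ p = 1 := A.vp r (h.C_le_V hr)

theorem mul_pow_Y {a c : A.G} (ha : a ∈ Yimg φ) (hc : c ∈ Yimg φ) :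
    (a * c) ^ p = ⁅c, a⁆ ^ p.choose 2 * a ^ p * c ^ p := by
  have h1 : ⁅c, a⁆ ∈ Subgroup.center A.G :=
    h.central (h.comm_Y_Y (Subgroup.commutator_mem_commutator hc ha))
  exact mul_pow_class_two a c (Subgroup.mem_center_iff.1 h1 a).symm (Subgroup.mem_center_iff.1 h1 c).symm p

theorem pow_Y {y : A.G} (hy : y ∈ Yimg φ) : y ^ p ∈ tr φ.symm B.R ∧ (p ≠ 2 → y ^ p = 1) := by
  haveI := h.C_normal
  let W : Subgroup A.G :=
    { carrier := {a | a ∈ Yimg φ ∧ a ^ p ∈ tr φ.symm B.R ∧ (p ≠ 2 → a ^ p = 1)}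
      one_mem' := ⟨one_mem _, by rw [one_pow]; exact one_mem _, fun _ => one_pow p⟩
      mul_mem' := fun {a c} ha hc => by
        have hz := h.comm_Y_Y (Subgroup.commutator_mem_commutator hc.1 ha.1)
        refine ⟨mul_mem ha.1 hc.1, ?_, fun h2 => ?_⟩
        · rw [h.mul_pow_Y ha.1 hc.1]
          exact mul_mem (mul_mem (pow_mem hz _) ha.2.1) hc.2.1
        · obtain ⟨m, hm⟩ := dvd_choose_two hp.out h2
          rw [h.mul_pow_Y ha.1 hc.1, hm, pow_mul, h.C_pow hz, one_pow, one_mul, ha.2.2 h2, hc.2.2 h2,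
            one_mul]
      inv_mem' := fun {a} ha => ⟨inv_mem ha.1, by rw [inv_pow]; exact inv_mem ha.2.1, fun h2 => by
        rw [inv_pow, ha.2.2 h2, inv_one]⟩ }
  haveI : W.Normal := ⟨fun a ha g => ⟨(Yimg_normal φ).conj_mem a ha.1 g, by
    rw [conj_pow]
    exact h.C_normal.conj_mem _ ha.2.1 g, fun h2 => by rw [conj_pow, ha.2.2 h2]; group⟩⟩
  have hle : Yimg φ ≤ W := sup_le (Subgroup.normalClosure_le_normal fun u hu => by
      have e := tr_V_pow φ.symm u hu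
      exact ⟨h.U_le_Y hu, by rw [e]; exact one_mem _, fun _ => e⟩)
    fun v hv => ⟨h.V_le_Y hv, by rw [A.vp v hv]; exact one_mem _, fun _ => A.vp v hv⟩
  exact (hle hy).2

theorem E_le_Y : Eimg φ ≤ Yimg φ := inf_le_left

theorem E_le_P : Eimg φ ≤ A.P := h.E_le_Y.trans h.Y_le_P

theorem E_U (g : B.G) : ⁅Eimg φ, tr φ.symm (cj g (Uimg φ.symm))⁆ ≤ A.R := by
  have hgU : cj g (Uimg φ.symm) ≤ B.P := (h.symm.cj_U_le g).trans B.Q_le_P
  have h1 : tr φ ⁅Eimg φ, tr φ.symm (cj g (Uimg φ.symm))⁆ ≤ tr φ A.R := by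
    rw [tr_comm φ h.E_le_P (tr_le _ _), tr_tr_symm φ hgU]
    refine (Subgroup.commutator_mono (H₂ := cj g (Uimg φ.symm)) (K₁ := B.Q) ?_ (h.symm.cj_U_le_Y g)).trans ?_
    · rw [tr_le_comm φ h.E_le_P B.Q_le_P]
      exact inf_le_right
    · have := h.symm.comm_Q_Y
      rwa [MulEquiv.symm_symm] at this
  exact (tr_le_iff φ ((Subgroup.commutator_mono h.E_le_P (tr_le _ _)).trans (Subgroup.commutator_le_self _))
    A.R_le_P).1 h1

theorem RR_le_Z : A.R ⊔ tr φ.symm B.R ≤ A.Z := sup_le A.R_le_Z h.C_le_Z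

theorem comm_E_P : ⁅Eimg φ, A.P⁆ ≤ A.R ⊔ tr φ.symm B.R := by
  have hn := A.P_le_normalizer_of_le_Z h.RR_le_Z
  obtain ⟨g, hg⟩ := B.exists_not_mem_M
  conv_lhs => rw [← h.full' g hg]
  refine comm_sup_le ((tr_le _ _).trans hn) (A.Q_le_P.trans hn) ((h.E_U g).trans le_sup_left) ?_
  rw [Subgroup.commutator_comm]
  exact (Subgroup.commutator_mono le_rfl h.E_le_Y).trans (h.comm_Q_Y.trans le_sup_right)

theorem comm_E_P_Z : ⁅Eimg φ, A.P⁆ ≤ A.Z := h.comm_E_P.trans h.RR_le_Z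

theorem comm_Y_P : ⁅Yimg φ, A.P⁆ ≤ Eimg φ := by
  refine le_inf (Subgroup.commutator_le_left _ _) ?_
  rw [← tr_le_comm φ ((Subgroup.commutator_le_left _ _).trans h.Y_le_P) B.Q_le_P,
    tr_comm φ h.Y_le_P le_rfl, tr_self]
  exact (Subgroup.commutator_mono (tr_le _ _) le_rfl).trans (commutator_le_pCore B.st)

theorem V_le_E : A.V ≤ Eimg φ := le_inf h.V_le_Y h.V_le_bQ

theorem T_le_E : Timg φ ≤ Eimg φ := sup_le h.comm_Y_P (A.Z_le_V.trans h.V_le_E)

theorem T_le_Y : Timg φ ≤ Yimg φ := h.T_le_E.trans h.E_le_Y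

theorem T_le_P : Timg φ ≤ A.P := h.T_le_Y.trans h.Y_le_P

theorem Z_le_T : A.Z ≤ Timg φ := le_sup_right

theorem comm_T_P : ⁅Timg φ, A.P⁆ ≤ A.Z := (Subgroup.commutator_mono h.T_le_E le_rfl).trans h.comm_E_P_Z

theorem P_sup_Q : tr φ.symm (Yimg φ.symm) ⊔ A.Q = A.P := by
  obtain ⟨g, hg⟩ := B.exists_not_mem_M
  refine le_antisymm (sup_le (tr_le _ _) A.Q_le_P) ?_
  conv_lhs => rw [← h.full' g hg]
  exact sup_le_sup_right (tr_mono _ (h.symm.cj_U_le_Y g)) _

theorem T_normalized : A.P ≤ Subgroup.normalizer (Timg φ : Set A.G) := fun s hs =>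
  Subgroup.mem_normalizer_fintype fun t ht => by
    show s * t * s⁻¹ ∈ Timg φ
    rw [show s * t * s⁻¹ = ⁅t, s⁆⁻¹ * t by simp only [commutatorElement_def]; group]
    exact mul_mem (inv_mem (h.Z_le_T (h.comm_T_P (Subgroup.commutator_mem_commutator ht hs)))) ht

theorem tr_T_le : tr φ (Timg φ) ≤ Timg φ.symm := by
  have hYn : A.P ≤ Subgroup.normalizer (Yimg φ : Set A.G) :=
    le_top.trans (Subgroup.normalizer_eq_top (H := Yimg φ)).ge
  have hYn' : B.P ≤ Subgroup.normalizer (Yimg φ.symm : Set B.G) :=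
    le_top.trans (Subgroup.normalizer_eq_top (H := Yimg φ.symm)).ge
  set C := ⁅Yimg φ, tr φ.symm (Yimg φ.symm)⁆ with hC
  have hCP : C ≤ A.P :=
    (Subgroup.commutator_mono h.Y_le_P (tr_le _ _)).trans (Subgroup.commutator_le_self _)
  have hn : A.P ≤ Subgroup.normalizer ((C ⊔ A.Z : Subgroup A.G) : Set A.G) :=
    LocalCGT.le_normalizer_sup (Coprime.le_normalizer_commutator hYn (le_normalizer_tr φ.symm hYn'))
      (A.P_le_normalizer_of_le_Z le_rfl)
  have hTC : Timg φ ≤ C ⊔ A.Z := by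
    refine sup_le ?_ le_sup_right
    conv_lhs => rw [← h.P_sup_Q]
    refine comm_sup_le ((tr_le _ _).trans hn) (A.Q_le_P.trans hn) le_sup_left ?_
    rw [Subgroup.commutator_comm]
    exact h.comm_Q_Y.trans (h.C_le_Z.trans le_sup_right)
  refine (tr_mono φ hTC).trans ?_
  rw [tr_sup φ hCP A.Z_le_P, tr_Z, hC, tr_comm φ h.Y_le_P (tr_le _ _), tr_tr_symm φ h.symm.Y_le_P]
  refine sup_le ?_ h.symm.Z_le_T
  rw [Subgroup.commutator_comm]
  exact (Subgroup.commutator_mono le_rfl (tr_le _ _)).trans le_sup_left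

theorem tr_T : tr φ (Timg φ) = Timg φ.symm := by
  refine le_antisymm h.tr_T_le ?_
  have h1 := tr_mono φ h.symm.tr_T_le
  rw [tr_tr_symm φ h.symm.T_le_P] at h1
  simpa only [MulEquiv.symm_symm] using h1

theorem comm_Q_trY : ⁅B.Q, tr φ (Yimg φ)⁆ ≤ Timg φ.symm := by
  rw [← h.tr_T, ← tr_tr_symm φ B.Q_le_P, ← tr_comm φ (tr_le _ _) h.Y_le_P]
  refine tr_mono φ ?_
  rw [Subgroup.commutator_comm]
  exact (Subgroup.commutator_mono le_rfl (tr_le _ _)).trans le_sup_left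

theorem T_pow {t : A.G} (ht : t ∈ Timg φ) (hp2 : p ≠ 2) : t ^ p = 1 := (h.pow_Y (h.T_le_Y ht)).2 hp2

/-! ### The two fields -/

theorem card_Y : Nat.card (Yimg φ) ≤ Nat.card B.F * Nat.card (Eimg φ) := by
  have h1 := CfsgLib.Offender.Timmesfeld.card_mul_card_le (Yimg φ) (tr φ.symm B.Q)
  rw [card_tr φ.symm B.Q_le_P] at h1
  have h2 : Nat.card ↥(Yimg φ ⊔ tr φ.symm B.Q) ≤ Nat.card B.F * Nat.card B.Q := by
    refine (Subgroup.card_le_of_le (sup_le h.Y_le_P (tr_le _ _))).trans (le_of_eq ?_)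
    rw [← card_tr φ (le_refl A.P), tr_self, B.card_P]
  refine Nat.le_of_mul_le_mul_right (?_ : _ * Nat.card B.Q ≤ _ * Nat.card B.Q) Nat.card_pos
  calc _ ≤ Nat.card B.F * Nat.card B.Q * Nat.card (Eimg φ) := h1.trans (Nat.mul_le_mul_right _ h2)
    _ = _ := by ring

/-- The field of a member is not larger than that of the other one. -/
theorem card_F_le : Nat.card A.F ≤ Nat.card B.F := by
  classical
  haveI := A.Q_normal
  set Y := Yimg φ with hY
  haveI : Y.Normal := Yimg_normal φ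
  set K := fixMod Y A.V with hKdef
  let C : Subgroup A.G :=
    { carrier := {y | y ∈ Y ∧ ∀ s ∈ A.P, ⁅s, y⁆ ∈ A.V}
      one_mem' := ⟨one_mem _, fun s _ => by rw [commutatorElement_one_right]; exact one_mem _⟩
      mul_mem' := fun {a b} ha hb => ⟨mul_mem ha.1 hb.1, fun s hs => by
        rw [comm_mul_right]
        exact mul_mem (ha.2 s hs) ((inferInstance : A.V.Normal).conj_mem _ (hb.2 s hs) a)⟩
      inv_mem' := fun {a} ha => ⟨inv_mem ha.1, fun s hs => by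
        rw [show ⁅s, a⁻¹⁆ = a⁻¹ * ⁅s, a⁆⁻¹ * a⁻¹⁻¹ by simp only [commutatorElement_def]; group]
        exact (inferInstance : A.V.Normal).conj_mem _ (inv_mem (ha.2 s hs)) a⁻¹⟩ }
  have hKm : ∀ x, x ∈ K ↔ x ∈ Y ∧ ∀ g, ⁅g, x⁆ ∈ A.V := fun x => mem_fixMod
  have hVK : A.V ≤ K := fun v hv => (hKm v).2 ⟨h.V_le_Y hv, fun g => by
    rw [commutatorElement_def]
    exact mul_mem ((inferInstance : A.V.Normal).conj_mem v hv g) (inv_mem hv)⟩
  have hKC : K ≤ C := fun x hx => ⟨((hKm x).1 hx).1, fun s _ => ((hKm x).1 hx).2 s⟩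
  have hEC : Eimg φ ≤ C := fun e he => ⟨h.E_le_Y he, fun s hs => A.Z_le_V (h.comm_E_P_Z (by
    rw [Subgroup.commutator_comm]
    exact Subgroup.commutator_mem_commutator hs he))⟩
  obtain ⟨g, hg⟩ := A.exists_not_mem_M
  obtain ⟨a, haP, haQ⟩ := SetLike.not_le_iff_exists.1 (not_le_pCore A.st)
  -- elements fixed by the conjugate of the Sylow subgroup
  have hCg : ∀ c ∈ cj g C, c ∈ Y ∧ cj g A.P ≤ A.P.map (MulAut.conj g).toMonoidHom ∧
      ∀ x ∈ cj g A.P, ⁅x, c⁆ ∈ A.V := by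
    rintro _ ⟨c, hc, rfl⟩
    refine ⟨(inferInstance : Y.Normal).conj_mem c hc.1 g, le_rfl, ?_⟩
    rintro _ ⟨s, hs, rfl⟩
    have h1 := (inferInstance : A.V.Normal).conj_mem _ (hc.2 s hs) g
    rw [comm_conj] at h1
    exact h1
  have hK : ∀ c ∈ cj g C, ∀ s ∈ A.P, s ∉ A.Q → ⁅s, c⁆ ∈ K → c ∈ K := by
    intro c hc s hs hsQ hcs
    obtain ⟨hcY, -, hcg⟩ := hCg c hc
    let H : Subgroup A.G :=
      { carrier := {x | ⁅x, c⁆ ∈ K}
        one_mem' := by show ⁅(1 : A.G), c⁆ ∈ K; rw [commutatorElement_one_left]; exact one_mem _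
        mul_mem' := fun {x y} (hx : ⁅x, c⁆ ∈ K) (hy : ⁅y, c⁆ ∈ K) => by
          show ⁅x * y, c⁆ ∈ K
          rw [comm_mul_left]
          exact mul_mem ((inferInstance : K.Normal).conj_mem _ hy x) hx
        inv_mem' := fun {x} (hx : ⁅x, c⁆ ∈ K) => by
          show ⁅x⁻¹, c⁆ ∈ K
          rw [show ⁅x⁻¹, c⁆ = x⁻¹ * ⁅x, c⁆⁻¹ * x⁻¹⁻¹ by simp only [commutatorElement_def]; group]
          exact (inferInstance : K.Normal).conj_mem _ (inv_mem hx) x⁻¹ }
    have htop : H = ⊤ := A.gen_top hg (fun x hx => hVK (hcg x hx)) (show s ∈ H from hcs) hs hsQ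
    let H' : Subgroup A.G :=
      { carrier := {x | ⁅x, c⁆ ∈ A.V}
        one_mem' := by show ⁅(1 : A.G), c⁆ ∈ A.V; rw [commutatorElement_one_left]; exact one_mem _
        mul_mem' := fun {x y} (hx : ⁅x, c⁆ ∈ A.V) (hy : ⁅y, c⁆ ∈ A.V) => by
          show ⁅x * y, c⁆ ∈ A.V
          rw [comm_mul_left]
          exact mul_mem ((inferInstance : A.V.Normal).conj_mem _ hy x) hx
        inv_mem' := fun {x} (hx : ⁅x, c⁆ ∈ A.V) => by
          show ⁅x⁻¹, c⁆ ∈ A.V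
          rw [show ⁅x⁻¹, c⁆ = x⁻¹ * ⁅x, c⁆⁻¹ * x⁻¹⁻¹ by simp only [commutatorElement_def]; group]
          exact (inferInstance : A.V.Normal).conj_mem _ (inv_mem hx) x⁻¹ }
    haveI : H'.Normal := ⟨fun h' (hh : ⁅h', c⁆ ∈ A.V) x => by
      show ⁅x * h' * x⁻¹, c⁆ ∈ A.V
      have hk : ⁅x⁻¹, c⁆ ∈ K := (htop.ge (Subgroup.mem_top x⁻¹) : x⁻¹ ∈ H)
      have h1 : ⁅h', ⁅x⁻¹, c⁆ * c⁆ ∈ A.V := by
        rw [comm_mul_right]
        exact mul_mem (((hKm _).1 hk).2 h') ((inferInstance : A.V.Normal).conj_mem _ hh _)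
      rw [show ⁅x * h' * x⁻¹, c⁆ = x * ⁅h', ⁅x⁻¹, c⁆ * c⁆ * x⁻¹ by
        simp only [commutatorElement_def]; group]
      exact (inferInstance : A.V.Normal).conj_mem _ h1 x⟩
    have hle : (⊤ : Subgroup A.G) ≤ H' := by
      rw [← normalClosure_S A.st]
      refine Subgroup.normalClosure_le_normal fun t ht => ?_
      have h1 := (inferInstance : H'.Normal).conj_mem (g * t * g⁻¹)
        (hcg _ (mem_cj_of_mem g ht)) g⁻¹
      simpa [mul_assoc] using h1
    exact (hKm c).2 ⟨hcY, fun x => hle (Subgroup.mem_top x)⟩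
  obtain ⟨c, hc, hcK⟩ : ∃ c ∈ cj g C, c ∉ K := by
    by_contra hcon
    push Not at hcon
    refine h.good ⟨fun x hx w => ?_⟩
    have hle : Uimg φ ⊔ A.V ≤ K := by
      refine sup_le (fun u hu => ?_) hVK
      have h1 := hcon _ (mem_cj_of_mem g (hEC ⟨h.U_le_Y hu, h.U_le_bQ hu⟩))
      simpa [mul_assoc] using (inferInstance : K.Normal).conj_mem _ h1 g⁻¹
    rw [show w * x * w⁻¹ = ⁅w, x⁆ * x by simp only [commutatorElement_def]; group]
    exact mul_mem (Subgroup.mem_sup_right (((hKm x).1 (hle hx)).2 w)) hx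
  obtain ⟨hcY, -, hcg⟩ := hCg c hc
  have hsc : ∀ s ∈ A.P, ⁅s, c⁆ ∈ C := fun s hs => hEC (h.comm_Y_P (by
    rw [Subgroup.commutator_comm]
    exact Subgroup.commutator_mem_commutator hs hcY))
  let f : A.P →* A.G ⧸ K := MonoidHom.mk' (fun s => QuotientGroup.mk' K ⁅(s : A.G), c⁆) fun s t => by
    have h1 : ⁅(s : A.G) * t, c⁆ = ⁅(s : A.G), ⁅(t : A.G), c⁆⁆ * (⁅⁅(t : A.G), c⁆, ⁅(s : A.G), c⁆⁆ *
        (⁅(s : A.G), c⁆ * ⁅(t : A.G), c⁆)) := by simp only [commutatorElement_def]; group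
    have h2 : QuotientGroup.mk' K ⁅(s : A.G), ⁅(t : A.G), c⁆⁆ = 1 :=
      (QuotientGroup.eq_one_iff _).2 (hVK ((hsc _ t.2).2 s s.2))
    have h3 : QuotientGroup.mk' K ⁅⁅(t : A.G), c⁆, ⁅(s : A.G), c⁆⁆ = 1 :=
      (QuotientGroup.eq_one_iff _).2 (hVK (h.C_le_V (h.comm_Y_Y
        (Subgroup.commutator_mem_commutator (hsc _ t.2).1 (hsc _ s.2).1))))
    show QuotientGroup.mk' K ⁅(s : A.G) * t, c⁆ = _
    rw [h1, map_mul, h2, one_mul, map_mul, h3, one_mul, map_mul]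
  have hker : f.ker ≤ A.Q.subgroupOf A.P := fun s hs => by
    by_contra hsQ
    exact hcK (hK c hc s s.2 hsQ ((QuotientGroup.eq_one_iff _).1 hs))
  let f₀ : C →* A.G ⧸ K := (QuotientGroup.mk' K).comp C.subtype
  have hf₀ : f₀.ker = K.subgroupOf C := by
    rw [← MonoidHom.comap_ker, QuotientGroup.ker_mk']
    rfl
  have hrange : f.range ≤ f₀.range := by
    rintro _ ⟨s, rfl⟩
    exact ⟨⟨_, hsc s s.2⟩, rfl⟩
  have h1 : Nat.card A.F * Nat.card K ≤ Nat.card C := by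
    have e1 := Subgroup.card_eq_card_quotient_mul_card_subgroup f.ker
    rw [Nat.card_congr (QuotientGroup.quotientKerEquivRange f).toEquiv, A.card_P] at e1
    have e2 := Subgroup.card_eq_card_quotient_mul_card_subgroup f₀.ker
    rw [Nat.card_congr (QuotientGroup.quotientKerEquivRange f₀).toEquiv, hf₀,
      Nat.card_congr (Subgroup.subgroupOfEquivOfLe hKC).toEquiv] at e2
    rw [e2]
    refine Nat.mul_le_mul_right _ ?_
    refine Nat.le_of_mul_le_mul_right (?_ : _ * Nat.card A.Q ≤ _ * Nat.card A.Q) Nat.card_pos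
    rw [e1]
    exact Nat.mul_le_mul (Subgroup.card_le_of_le hrange)
      ((Subgroup.card_le_of_le hker).trans (le_of_eq (Nat.card_congr
        (Subgroup.subgroupOfEquivOfLe A.Q_le_P).toEquiv)))
  have hinf : C ⊓ cj g C ≤ K := fun x hx => by
    refine hK x hx.2 a haP haQ (hVK (hx.1.2 a haP))
  have h2 := CfsgLib.Offender.Timmesfeld.card_mul_card_le C (cj g C)
  rw [PushRankOne.card_cj] at h2
  have h3 : Nat.card ↥(C ⊔ cj g C) ≤ Nat.card B.F * Nat.card C :=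
    (Subgroup.card_le_of_le (sup_le (fun x hx => hx.1 : C ≤ Y) fun x hx => (hCg x hx).1)).trans
      (h.card_Y.trans (Nat.mul_le_mul_left _ (Subgroup.card_le_of_le hEC)))
  refine Nat.le_of_mul_le_mul_right (?_ : _ * (Nat.card C * Nat.card K) ≤ _ * (Nat.card C * Nat.card K))
    (Nat.mul_pos Nat.card_pos Nat.card_pos)
  calc Nat.card A.F * (Nat.card C * Nat.card K) = Nat.card C * (Nat.card A.F * Nat.card K) := by ring
    _ ≤ Nat.card C * Nat.card C := Nat.mul_le_mul_left _ h1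
    _ ≤ Nat.card B.F * Nat.card C * Nat.card K :=
      h2.trans (Nat.mul_le_mul h3 (Subgroup.card_le_of_le hinf))
    _ = _ := by ring

theorem card_E : Nat.card (Yimg φ) * Nat.card A.Q ≤ Nat.card A.P * Nat.card (Eimg φ) := by
  rw [A.card_P]
  calc _ ≤ Nat.card B.F * Nat.card (Eimg φ) * Nat.card A.Q := Nat.mul_le_mul_right _ h.card_Y
    _ ≤ Nat.card A.F * Nat.card (Eimg φ) * Nat.card A.Q :=
      Nat.mul_le_mul_right _ (Nat.mul_le_mul_right _ h.symm.card_F_le)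
    _ = _ := by ring

theorem exists_natY : ∃ (ρY : A.G →* SL(2, A.F)) (ψY : A.G → Fin 2 → A.F),
    Natural A.S A.M (Yimg φ) A.V ρY ψY := by
  refine exists_natural A.st (Yimg φ) A.V h.V_le_Y (h.comm_Y_Y.trans h.C_le_V)
    (fun y hy => h.C_le_V (h.pow_Y hy).1) (h.comm_Q_Y.trans h.C_le_V) ?_ (L := Eimg φ) h.V_le_E h.E_le_Y ?_
    h.card_E ?_
  · rw [Subgroup.commutator_comm A.P (Yimg φ), Subgroup.commutator_comm]
    exact (Subgroup.commutator_mono h.comm_Y_P le_rfl).trans (h.comm_E_P_Z.trans A.Z_le_V)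
  · rw [Subgroup.commutator_comm]
    exact h.comm_E_P_Z.trans A.Z_le_V
  · intro g hg
    by_contra hgM
    have hle : cj g (Uimg φ) ≤ tr φ.symm B.Q := by
      rintro _ ⟨u, hu, rfl⟩
      show g * u * g⁻¹ ∈ tr φ.symm B.Q
      rw [show g * u * g⁻¹ = ⁅g, u⁆ * u by simp only [commutatorElement_def]; group]
      exact mul_mem (h.V_le_bQ (hg u (h.U_le_Y hu))) (h.U_le_bQ hu)
    have h1 := h.full g hgM
    rw [sup_eq_right.2 ((tr_le_comm φ ((h.cj_U_le g).trans A.Q_le_P) B.Q_le_P).2 hle)] at h1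
    exact not_le_pCore B.st h1.ge

/-! ### The characteristic two -/

theorem ne_two : p ≠ 2 := by
  intro h2
  subst h2
  haveI := A.Q_normal
  obtain ⟨g, hg⟩ := A.exists_not_mem_M
  obtain ⟨g', hg'⟩ := B.exists_not_mem_M
  have key : ∀ y ∈ cj g (Uimg φ), ∀ s ∈ A.P, ⁅y, s * y * s⁻¹⁆ ∈ A.R ⊓ Subgroup.center A.G := by
    intro y hy s hs
    have hyY := h.cj_U_le_Y g hy
    have hy2 : y * y = 1 := by
      rw [mem_cj] at hy
      have e := tr_V_pow φ.symm _ hy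
      rw [pow_two] at e
      calc y * y = g * ((g⁻¹ * y * g) * (g⁻¹ * y * g)) * g⁻¹ := by group
        _ = 1 := by rw [e]; group
    have hyi : y⁻¹ = y := inv_eq_of_mul_eq_one_right hy2
    obtain ⟨x, hx, q, hq, rfl⟩ := A.exists_decomp (h.full' g' hg') hs
    have hxP : x ∈ A.P := tr_le _ _ hx
    set w := ⁅y, x⁆ with hw
    have hwT : w ∈ Timg φ := Subgroup.mem_sup_left (Subgroup.commutator_mem_commutator hyY hxP)
    set wS : A.P := ⟨w, h.T_le_P hwT⟩ with hwS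
    have hwa : (φ wS : B.G) ∈ Yimg φ.symm := h.symm.T_le_Y (h.tr_T_le (mem_tr_of_mem φ (h := wS) hwT))
    have hw2 : w ^ 2 ∈ A.R := by
      have h3 := (h.symm.pow_Y hwa).1
      rw [MulEquiv.symm_symm, ← SubmonoidClass.coe_pow, ← map_pow] at h3
      obtain ⟨k, hk, e⟩ := mem_tr.1 h3
      have e' : k = wS ^ 2 := φ.injective (Subtype.ext e)
      rw [e', SubmonoidClass.coe_pow] at hk
      exact hk
    have hw2' : w ^ 2 ∈ Subgroup.center A.G := h.central (h.pow_Y (h.T_le_Y hwT)).1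
    set y' := x * y * x⁻¹ with hy'
    have hy'i : y'⁻¹ = y' := by rw [hy', mul_inv_rev, mul_inv_rev, inv_inv, hyi]; group
    have e : w ^ 2 = ⁅y, y'⁆ := by
      rw [commutatorElement_def, hyi, hy'i, hw, commutatorElement_def, hyi, pow_two, hy']
      group
    have hr : ⁅q, y⁆ ∈ Subgroup.center A.G :=
      h.central (h.comm_Q_Y (Subgroup.commutator_mem_commutator hq hyY))
    have e2 : x * q * y * (x * q)⁻¹ = ⁅q, y⁆ * y' := by
      rw [hy', ← mul_assoc, ← mul_assoc, ← Subgroup.mem_center_iff.1 hr x, commutatorElement_def]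
      group
    rw [e2, comm_mul_right, commutatorElement_eq_one_iff_mul_comm.2 (Subgroup.mem_center_iff.1 hr y),
      one_mul, ← e, ← Subgroup.mem_center_iff.1 hr (w ^ 2), mul_inv_cancel_right]
    exact ⟨hw2, hw2'⟩
  obtain ⟨s, hs, hsQ⟩ := SetLike.not_le_iff_exists.1 (not_le_pCore A.st)
  set k := g⁻¹ * s * g with hk
  have hkM : k ∉ A.M := A.conj_not_mem hg hs hsQ
  obtain ⟨u, hu, hun⟩ : ∃ u ∈ Uimg φ, k * u * k⁻¹ ∉ tr φ.symm B.Q := by
    by_contra hc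
    push Not at hc
    have hle : cj k (Uimg φ) ≤ tr φ.symm B.Q := by
      rintro _ ⟨u, hu, rfl⟩
      exact hc u hu
    have h1 := h.full k hkM
    rw [sup_eq_right.2 ((tr_le_comm φ ((h.cj_U_le k).trans A.Q_le_P) B.Q_le_P).2 hle)] at h1
    exact not_le_pCore B.st h1.ge
  have h1 := key _ (mem_cj_of_mem g hu) s hs
  have h1' : ⁅u, k * u * k⁻¹⁆ = ⁅g * u * g⁻¹, s * (g * u * g⁻¹) * s⁻¹⁆ := by
    have h2 := Subgroup.mem_center_iff.1 h1.2 g⁻¹
    have e : ⁅u, k * u * k⁻¹⁆ = g⁻¹ * ⁅g * u * g⁻¹, s * (g * u * g⁻¹) * s⁻¹⁆ * g := by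
      rw [hk]
      simp only [commutatorElement_def]
      group
    rw [e, h2, mul_assoc, inv_mul_cancel, mul_one]
  set uS : A.P := ⟨u, tr_le _ _ hu⟩ with huS
  have hkuP : k * u * k⁻¹ ∈ A.P := A.Q_le_P (h.cj_U_le k (mem_cj_of_mem k hu))
  set tS : A.P := ⟨k * u * k⁻¹, hkuP⟩ with htS
  have hv : (φ uS : B.G) ∈ B.V := by
    have := symm_mem_of_mem_tr φ.symm (x := uS) hu
    rwa [MulEquiv.symm_symm] at this
  have htQ : (φ tS : B.G) ∉ B.Q := fun h' => hun (by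
    have := mem_tr_of_mem φ.symm (h := φ tS) h'
    rwa [MulEquiv.symm_apply_apply] at this)
  have hc : ⁅(φ uS : B.G), (φ tS : B.G)⁆ ∈ Subgroup.center B.G := by
    refine h.central' ?_
    have e : ⁅(φ uS : B.G), (φ tS : B.G)⁆ = (φ ⁅uS, tS⁆ : B.G) := by
      rw [map_commutatorElement]
      rfl
    rw [e]
    refine mem_tr_of_mem φ ?_
    show ⁅u, k * u * k⁻¹⁆ ∈ A.R
    rw [h1']
    exact h1.1
  have hvZ : (φ uS : B.G) ∈ B.Z := by
    refine B.fixed (φ tS).2 htQ hv ?_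
    rw [B.zero_iff (B.nat.map_comm _ hv).1, ← commutatorElement_inv]
    exact inv_mem hc
  refine hun (h.V_le_bQ ?_)
  have huZ : u ∈ A.Z := by
    have := mem_tr_of_mem φ.symm (h := φ uS) hvZ
    rw [MulEquiv.symm_apply_apply, tr_Z] at this
    exact this
  exact (inferInstance : A.V.Normal).conj_mem _ (A.Z_le_V huZ) k

end Pair

end CfsgLib.PushFamily
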