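import Cfsg.Agent.Lib.PushFamily.Vtx

/-!
The amalgam of a family: the members act on the product of the groups, each on its own coordinate, and
every isomorphism of the Sylow subgroups of two members is induced by a permutation of that product.
Words in these two kinds of elements replace the paths of the coset graph.
-/

set_option autoImplicit false
set_option linter.unusedSectionVars false
set_option linter.style.haveILetI false

namespace CfsgLib.PushFamily

open CfsgLib.PushRankOne (cj cj_mono)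

universe u

/-- Two free actions of a group on a finite set are conjugate. -/
theorem exists_conj_of_free {S Ω : Type*} [Group S] [Finite S] [Finite Ω] (a b : S →* Equiv.Perm Ω)
    (ha : ∀ s x, a s x = x → s = 1) (hb : ∀ s x, b s x = x → s = 1) :
    ∃ n : Equiv.Perm Ω, ∀ s, n * a s * n⁻¹ = b s := by
  classical
  have equivOf : ∀ a : S →* Equiv.Perm Ω, (∀ s x, a s x = x → s = 1) →
      ∃ (k : ℕ) (e : S × Fin k ≃ Ω), (Nat.card Ω = Nat.card S * k) ∧ ∀ s t i, e (s * t, i) = a s (e (t, i)) := by
    intro a ha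
    let r : Setoid Ω := ⟨fun x y => ∃ s, a s x = y, fun x => ⟨1, by simp⟩,
      fun {x y} ⟨s, h⟩ => ⟨s⁻¹, by rw [← h, map_inv, Equiv.Perm.inv_def, Equiv.symm_apply_apply]⟩,
      fun {x y z} ⟨s, h⟩ ⟨t, h'⟩ => ⟨t * s, by rw [map_mul, Equiv.Perm.mul_apply, h, h']⟩⟩
    let e₀ : Quotient r ≃ Fin (Nat.card (Quotient r)) := Finite.equivFin _
    let f : S × Fin (Nat.card (Quotient r)) → Ω := fun x => a x.1 (e₀.symm x.2).out
    have hf : Function.Bijective f := by
      constructor
      · rintro ⟨s, i⟩ ⟨t, j⟩ h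
        have h' : a s (e₀.symm i).out = a t (e₀.symm j).out := h
        have hij : i = j := by
          refine e₀.symm.injective ?_
          rw [← Quotient.out_eq (e₀.symm i), ← Quotient.out_eq (e₀.symm j)]
          exact Quotient.sound ⟨t⁻¹ * s, by
            rw [map_mul, map_inv, Equiv.Perm.mul_apply, h', Equiv.Perm.inv_def, Equiv.symm_apply_apply]⟩
        subst hij
        have h1 : t⁻¹ * s = 1 := ha _ (e₀.symm i).out (by
          rw [map_mul, map_inv, Equiv.Perm.mul_apply, h', Equiv.Perm.inv_def, Equiv.symm_apply_apply])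
        rw [inv_mul_eq_one] at h1
        rw [h1]
      · intro y
        obtain ⟨s, hs⟩ := Quotient.exact (Quotient.out_eq (⟦y⟧ : Quotient r))
        exact ⟨(s, e₀ ⟦y⟧), by simpa [f] using hs⟩
    refine ⟨_, Equiv.ofBijective f hf, ?_, fun s t i => ?_⟩
    · rw [← Nat.card_congr (Equiv.ofBijective f hf), Nat.card_prod, Nat.card_fin]
    · show a (s * t) _ = a s (a t _)
      rw [map_mul, Equiv.Perm.mul_apply]
  obtain ⟨k, ea, hka, hea⟩ := equivOf a ha
  obtain ⟨l, eb, hkb, heb⟩ := equivOf b hb
  obtain rfl : k = l := Nat.eq_of_mul_eq_mul_left Nat.card_pos (hka.symm.trans hkb)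
  refine ⟨ea.symm.trans eb, fun s => ?_⟩
  rw [mul_inv_eq_iff_eq_mul]
  refine Equiv.ext fun x => ?_
  obtain ⟨⟨t, i⟩, rfl⟩ := ea.surjective x
  show eb (ea.symm (a s (ea (t, i)))) = b s (eb (ea.symm (ea (t, i))))
  rw [← hea, Equiv.symm_apply_apply, Equiv.symm_apply_apply, heb]

variable {p : ℕ} [hp : Fact p.Prime] {I : Type} [Finite I]
variable (A : I → Vtx.{u} p)

/-- The set on which everything acts. -/
abbrev Om : Type u := ∀ i, (A i).G

/-- The action of a member on its coordinate. -/
noncomputable def emb (i : I) : (A i).G →* Equiv.Perm (Om A) :=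
  letI := Classical.decEq I
  (MulAction.toPermHom (Om A) (Om A)).comp (MonoidHom.mulSingle (fun j => (A j).G) i)

theorem emb_free {i : I} {g : (A i).G} {x : Om A} (h : emb A i g x = x) : g = 1 := by
  classical
  have h1 : MonoidHom.mulSingle (fun j => (A j).G) i g * x = x := by
    convert h using 0
    exact Iff.rfl
  rw [mul_eq_right] at h1
  simpa using congrFun h1 i

theorem emb_injective (i : I) : Function.Injective (emb A i) :=
  (injective_iff_map_eq_one _).2 fun g h => emb_free A (x := 1) (by rw [h]; rfl)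

/-- The image in the symmetric group. -/
noncomputable abbrev hat (i : I) (H : Subgroup (A i).G) : Subgroup (Equiv.Perm (Om A)) := H.map (emb A i)

/-- `n` induces the isomorphism `φ` between the copies of the Sylow subgroups. -/
def Twist {i j : I} (φ : (A j).P ≃* (A i).P) (n : Equiv.Perm (Om A)) : Prop :=
  ∀ s : (A j).P, n * emb A j (s : (A j).G) * n⁻¹ = emb A i (φ s : (A i).G)

/-- `n` induces some isomorphism from the member `j` to the member `i`. -/
def IsTw (i j : I) (n : Equiv.Perm (Om A)) : Prop := ∃ φ : (A j).P ≃* (A i).P, Twist A φ n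

/-- The products with `k` twists from `j` to `i`. -/
inductive Word : ℕ → I → I → Equiv.Perm (Om A) → Prop
  | zero (i : I) (g : (A i).G) : Word 0 i i (emb A i g)
  | succ {k : ℕ} {i l j : I} {n y : Equiv.Perm (Om A)} (g : (A i).G) (hn : IsTw A i l n)
      (hy : Word k l j y) : Word (k + 1) i j (emb A i g * n * y)

/-- The conjugate of the module lies in the core. -/
def Good' (i j : I) (w : Equiv.Perm (Om A)) : Prop := cj w (hat A j (A j).V) ≤ hat A i (A i).Q

variable {A}

theorem exists_twist {i j : I} (φ : (A j).P ≃* (A i).P) : ∃ n, Twist A φ n :=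
  exists_conj_of_free ((emb A j).comp (A j).P.subtype)
    ((emb A i).comp ((A i).P.subtype.comp φ.toMonoidHom))
    (fun s x h => Subtype.ext (emb_free A h))
    (fun s x h => φ.injective ((Subtype.ext (emb_free A h)).trans (map_one φ).symm))

theorem twist_one (i : I) : Twist A (MulEquiv.refl (A i).P) (1 : Equiv.Perm (Om A)) := fun s => by simp

theorem twist_inv {i j : I} {φ : (A j).P ≃* (A i).P} {n : Equiv.Perm (Om A)} (h : Twist A φ n) :
    Twist A φ.symm n⁻¹ := fun s => by
  have h1 := h (φ.symm s)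
  rw [MulEquiv.apply_symm_apply] at h1
  rw [← h1]
  group

theorem twist_mul {i j l : I} {φ : (A j).P ≃* (A i).P} {ψ : (A l).P ≃* (A j).P}
    {m n : Equiv.Perm (Om A)} (h : Twist A φ m) (h' : Twist A ψ n) :
    Twist A (ψ.trans φ) (m * n) := fun s => by
  rw [MulEquiv.trans_apply, ← h, ← h']
  group

theorem IsTw.inv {i j : I} {n : Equiv.Perm (Om A)} (h : IsTw A i j n) : IsTw A j i n⁻¹ :=
  ⟨_, twist_inv h.choose_spec⟩

theorem IsTw.mul {i j l : I} {m n : Equiv.Perm (Om A)} (h : IsTw A i j m) (h' : IsTw A j l n) :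
    IsTw A i l (m * n) := ⟨_, twist_mul h.choose_spec h'.choose_spec⟩

theorem hat_le {i : I} {H K : Subgroup (A i).G} : hat A i H ≤ hat A i K ↔ H ≤ K :=
  Subgroup.map_le_map_iff_of_injective (emb_injective A i)

theorem hat_inj {i : I} {H K : Subgroup (A i).G} (h : hat A i H = hat A i K) : H = K :=
  Subgroup.map_injective (emb_injective A i) h

theorem card_hat {i : I} (H : Subgroup (A i).G) : Nat.card (hat A i H) = Nat.card H :=
  Subgroup.card_map_of_injective (emb_injective A i)

theorem cj_hat {i : I} (g : (A i).G) (H : Subgroup (A i).G) :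
    cj (emb A i g) (hat A i H) = hat A i (cj g H) := by
  rw [cj, cj, hat, hat, Subgroup.map_map, Subgroup.map_map]
  congr 1
  ext x : 1
  simp

theorem exists_hat {i : I} {H : Subgroup (Equiv.Perm (Om A))} {K : Subgroup (A i).G}
    (h : H ≤ hat A i K) : ∃ B : Subgroup (A i).G, B ≤ K ∧ hat A i B = H := by
  refine ⟨H.comap (emb A i), fun x hx => ?_,
    le_antisymm (Subgroup.map_comap_le _ _) fun x hx => ?_⟩
  · obtain ⟨y, hy, e⟩ := h hx
    rwa [← emb_injective A i e]
  · obtain ⟨y, -, rfl⟩ := h hx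
    exact ⟨y, hx, rfl⟩

theorem cj_twist {i j : I} {φ : (A j).P ≃* (A i).P} {n : Equiv.Perm (Om A)} (h : Twist A φ n)
    {H : Subgroup (A j).G} (hH : H ≤ (A j).P) : cj n (hat A j H) = hat A i (tr φ H) := by
  ext x
  constructor
  · rintro ⟨_, ⟨y, hy, rfl⟩, rfl⟩
    exact ⟨_, mem_tr_of_mem φ (h := ⟨y, hH hy⟩) hy, (h ⟨y, hH hy⟩).symm⟩
  · rintro ⟨y, hy, rfl⟩
    obtain ⟨k, hk, rfl⟩ := mem_tr.1 hy
    exact ⟨emb A j (k : (A j).G), ⟨k, hk, rfl⟩, h k⟩

/-! ### Words -/

theorem one_word (i : I) : Word A 0 i i 1 := by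
  have h := Word.zero (A := A) i 1
  rwa [map_one] at h

theorem mul_word {k : ℕ} {i j : I} {x : Equiv.Perm (Om A)} (h : Word A k i j x) (g : (A i).G) :
    Word A k i j (emb A i g * x) := by
  cases h with
  | zero i h => rw [← map_mul]; exact .zero i (g * h)
  | succ a hn hy =>
    rw [← mul_assoc, ← mul_assoc, ← map_mul]
    exact .succ (g * a) hn hy

theorem word_mul {k : ℕ} {i j : I} {x : Equiv.Perm (Om A)} (h : Word A k i j x) :
    ∀ g : (A j).G, Word A k i j (x * emb A j g) := by
  induction h with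
  | zero i h => intro g; rw [← map_mul]; exact .zero i (h * g)
  | succ a hn hy ih => intro g; rw [mul_assoc]; exact .succ a hn (ih g)

theorem word_cons {k : ℕ} {i l j : I} {n x : Equiv.Perm (Om A)} (hn : IsTw A i l n)
    (hx : Word A k l j x) : Word A (k + 1) i j (n * x) := by
  have h := Word.succ 1 hn hx
  rwa [map_one, one_mul] at h

theorem word_snoc {k : ℕ} {i l : I} {x : Equiv.Perm (Om A)} (hx : Word A k i l x) :
    ∀ {j : I} {n : Equiv.Perm (Om A)}, IsTw A l j n → Word A (k + 1) i j (x * n) := by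
  induction hx with
  | zero i h =>
    intro j n hn
    have h1 := Word.succ h hn (one_word j)
    rwa [mul_one] at h1
  | succ a hm hy ih =>
    intro j n hn
    rw [mul_assoc]
    exact .succ a hm (ih hn)

theorem word_last : ∀ {k : ℕ} {i j : I} {x : Equiv.Perm (Om A)}, Word A (k + 1) i j x →
    ∃ (l : I) (y n : Equiv.Perm (Om A)) (g : (A j).G),
      IsTw A l j n ∧ Word A k i l y ∧ x = y * n * emb A j g
  | 0, _, _, _, .succ a hn (.zero _ g) => ⟨_, _, _, g, hn, .zero _ a, rfl⟩
  | k + 1, _, _, _, .succ (n := m) a hm hy => by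
    obtain ⟨l, y', n, g, hn, hy', rfl⟩ := word_last hy
    exact ⟨l, _, n, g, hn, .succ a hm hy', by group⟩

theorem word_inv {k : ℕ} {i j : I} {x : Equiv.Perm (Om A)} (h : Word A k i j x) :
    Word A k j i x⁻¹ := by
  induction h with
  | zero i h => rw [← map_inv]; exact .zero i h⁻¹
  | succ a hm hy ih =>
    rw [mul_inv_rev, mul_inv_rev, ← map_inv, ← mul_assoc]
    exact word_mul (word_snoc ih hm.inv) _

theorem word_iso {k : ℕ} {i j : I} {x : Equiv.Perm (Om A)} (h : Word A k i j x) :
    Nonempty ((A j).P ≃* (A i).P) := by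
  induction h with
  | zero i h => exact ⟨MulEquiv.refl _⟩
  | succ a hm hy ih =>
    obtain ⟨φ, -⟩ := hm
    exact ⟨ih.some.trans φ⟩

end CfsgLib.PushFamily
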