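import Cfsg.Agent.Lib.PushFamily.Member

/-!
Isomorphisms carry abelian subgroups of largest order, centrally large subgroups and the subgroups
built from them.
-/

set_option autoImplicit false
set_option linter.unusedSectionVars false

namespace CfsgLib.PushFamily.Transport

open CfsgLib.CD.Offender (phi)
open scoped IsMulCommutative

variable {A B : Type*} [Group A] [Group B] [Finite A] [Finite B] (e : A ≃* B)

theorem comm_map (X : Subgroup A) (h : IsMulCommutative X) :
    IsMulCommutative (X.map e.toMonoidHom) := by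
  haveI := h
  infer_instance

theorem exists_eq_map (Y : Subgroup B) : ∃ X : Subgroup A, X.map e.toMonoidHom = Y :=
  ⟨Y.comap e.toMonoidHom, Subgroup.map_comap_eq_self_of_surjective e.surjective Y⟩

theorem maxAbelian_map {X : Subgroup A} :
    X.map e.toMonoidHom ∈ Cfsg.maxAbelianSubgroups B ↔ X ∈ Cfsg.maxAbelianSubgroups A := by
  constructor
  · rintro ⟨h, hm⟩
    haveI := h
    refine ⟨⟨⟨fun a b => Subtype.ext (e.injective ?_)⟩⟩, fun Y hY => ?_⟩
    · rw [Subgroup.coe_mul, Subgroup.coe_mul, map_mul, map_mul]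
      exact congrArg Subtype.val (mul_comm (⟨e a, a, a.2, rfl⟩ : X.map e.toMonoidHom) ⟨e b, b, b.2, rfl⟩)
    · have h1 := hm _ (comm_map e Y hY)
      rwa [Subgroup.card_map_of_injective e.injective, Subgroup.card_map_of_injective e.injective] at h1
  · rintro ⟨h, hm⟩
    refine ⟨comm_map e X h, fun Y hY => ?_⟩
    obtain ⟨Z, rfl⟩ := exists_eq_map e Y
    rw [Subgroup.card_map_of_injective e.injective, Subgroup.card_map_of_injective e.injective]
    refine hm Z ⟨⟨fun a b => Subtype.ext (e.injective ?_)⟩⟩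
    haveI := hY
    rw [Subgroup.coe_mul, Subgroup.coe_mul, map_mul, map_mul]
    exact congrArg Subtype.val (mul_comm (⟨e a, a, a.2, rfl⟩ : Z.map e.toMonoidHom) ⟨e b, b, b.2, rfl⟩)

theorem map_sSup (s : Set (Subgroup A)) (t : Set (Subgroup B))
    (h : ∀ X, X.map e.toMonoidHom ∈ t ↔ X ∈ s) : (sSup s).map e.toMonoidHom = sSup t := by
  refine le_antisymm ?_ (sSup_le fun Y hY => ?_)
  · rw [Subgroup.map_le_iff_le_comap]
    exact sSup_le fun X hX => Subgroup.map_le_iff_le_comap.1 (le_sSup ((h X).2 hX))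
  · obtain ⟨X, rfl⟩ := exists_eq_map e Y
    exact Subgroup.map_mono (le_sSup ((h X).1 hY))

theorem thompsonA_map : (Cfsg.thompsonSubgroupA A).map e.toMonoidHom = Cfsg.thompsonSubgroupA B :=
  map_sSup e _ _ fun _ => maxAbelian_map e

theorem centralizer_map (X : Subgroup A) :
    (Subgroup.centralizer (X : Set A)).map e.toMonoidHom =
      Subgroup.centralizer ((X.map e.toMonoidHom : Subgroup B) : Set B) := by
  refine le_antisymm ?_ fun y hy => ⟨e.symm y, ?_, e.apply_symm_apply y⟩
  · rintro _ ⟨a, ha, rfl⟩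
    refine Subgroup.mem_centralizer_iff.2 ?_
    rintro _ ⟨x, hx, rfl⟩
    rw [← map_mul, Subgroup.mem_centralizer_iff.1 ha x hx, map_mul]
  · refine Subgroup.mem_centralizer_iff.2 fun x hx => e.injective ?_
    rw [map_mul, map_mul, e.apply_symm_apply]
    exact Subgroup.mem_centralizer_iff.1 hy _ ⟨x, hx, rfl⟩

theorem card_center_map (X : Subgroup A) :
    Nat.card (Subgroup.center (X.map e.toMonoidHom)) = Nat.card (Subgroup.center X) :=
  (Nat.card_congr (Subgroup.centerCongr (X.equivMapOfInjective _ e.injective)).toEquiv).symm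

include e in
theorem maxCentralProduct_congr : Cfsg.maxCentralProduct A = Cfsg.maxCentralProduct B := by
  refine congrArg sSup (Set.ext fun k => ?_)
  constructor
  · rintro ⟨X, rfl⟩
    exact ⟨X.map e.toMonoidHom, by rw [card_center_map, Subgroup.card_map_of_injective e.injective]⟩
  · rintro ⟨Y, rfl⟩
    obtain ⟨X, rfl⟩ := exists_eq_map e Y
    exact ⟨X, by rw [card_center_map, Subgroup.card_map_of_injective e.injective]⟩

theorem cl_map {X : Subgroup A} :
    Cfsg.IsCentrallyLarge (X.map e.toMonoidHom) ↔ Cfsg.IsCentrallyLarge X := by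
  rw [Cfsg.IsCentrallyLarge, Cfsg.IsCentrallyLarge, card_center_map,
    Subgroup.card_map_of_injective e.injective, maxCentralProduct_congr e]

theorem mcl_map {X : Subgroup A} :
    Cfsg.IsMinimalCentrallyLarge (X.map e.toMonoidHom) ↔ Cfsg.IsMinimalCentrallyLarge X := by
  constructor
  · rintro ⟨h, hm⟩
    exact ⟨(cl_map e).1 h, fun Y hY hYc =>
      Subgroup.map_injective e.injective (hm _ (Subgroup.map_mono hY) ((cl_map e).2 hYc))⟩
  · rintro ⟨h, hm⟩
    refine ⟨(cl_map e).2 h, fun Y hY hYc => ?_⟩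
    obtain ⟨Z, rfl⟩ := exists_eq_map e Y
    rw [hm Z ((Subgroup.map_le_map_iff_of_injective e.injective).1 hY) ((cl_map e).1 hYc)]

theorem mclJoin_map :
    (Cfsg.minimalCentrallyLargeJoin A).map e.toMonoidHom = Cfsg.minimalCentrallyLargeJoin B :=
  map_sSup e _ _ fun _ => mcl_map e

theorem omega_map (p : ℕ) (X : Subgroup A) :
    (Cfsg.omegaOneCenter p X).map e.toMonoidHom = Cfsg.omegaOneCenter p (X.map e.toMonoidHom) := by
  rw [CD.Offender.omegaOneCenter_eq, CD.Offender.omegaOneCenter_eq]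
  ext y
  constructor
  · rintro ⟨x, ⟨⟨hx, hc⟩, hp⟩, rfl⟩
    refine ⟨⟨⟨x, hx, rfl⟩, ?_⟩, ?_⟩
    · exact (centralizer_map e X).le ⟨x, hc, rfl⟩
    · rw [← map_pow, hp, map_one]
  · rintro ⟨⟨⟨x, hx, rfl⟩, hc⟩, hp⟩
    refine ⟨x, ⟨⟨hx, ?_⟩, e.injective ?_⟩, rfl⟩
    · obtain ⟨z, hz, ez⟩ := (centralizer_map e X).ge hc
      rwa [← e.injective ez]
    · rw [map_pow, map_one]
      exact hp

include e in
theorem maxOmega_congr (p : ℕ) :
    Cfsg.maxOmegaCenterOfMinimalCL p A = Cfsg.maxOmegaCenterOfMinimalCL p B := by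
  refine congrArg sSup (Set.ext fun k => ?_)
  constructor
  · rintro ⟨X, hX, rfl⟩
    exact ⟨X.map e.toMonoidHom, (mcl_map e).2 hX, by
      rw [← omega_map, Subgroup.card_map_of_injective e.injective]⟩
  · rintro ⟨Y, hY, rfl⟩
    obtain ⟨X, rfl⟩ := exists_eq_map e Y
    exact ⟨X, (mcl_map e).1 hY, by rw [← omega_map, Subgroup.card_map_of_injective e.injective]⟩

theorem frattiniJoin_map (p : ℕ) :
    (Cfsg.frattiniOfMinimalCLJoin p A).map e.toMonoidHom = Cfsg.frattiniOfMinimalCLJoin p B := by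
  rw [Cfsg.frattiniOfMinimalCLJoin, Cfsg.frattiniOfMinimalCLJoin, Subgroup.map_iSup]
  refine le_antisymm (iSup_le fun X => ?_) (iSup_le fun Y => ?_)
  · refine le_iSup_of_le ⟨X.1.map e.toMonoidHom, (mcl_map e).2 X.2.1, ?_⟩
      (map_phi_inj (f := e.toMonoidHom) e.injective X.1).le
    rw [← omega_map, Subgroup.card_map_of_injective e.injective, ← maxOmega_congr e]
    exact X.2.2
  · obtain ⟨X, hX⟩ := exists_eq_map e Y.1
    have h1 := Y.2
    rw [← hX] at h1
    refine le_iSup_of_le ⟨X, (mcl_map e).1 h1.1, ?_⟩ ?_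
    · rw [← Subgroup.card_map_of_injective (f := e.toMonoidHom) e.injective, omega_map, maxOmega_congr e]
      exact h1.2
    · rw [← hX]
      exact (map_phi_inj (f := e.toMonoidHom) e.injective X).ge

theorem thompsonA_char : (Cfsg.thompsonSubgroupA A).Characteristic :=
  Subgroup.characteristic_iff_map_eq.2 fun σ => thompsonA_map σ

theorem mclJoin_char : (Cfsg.minimalCentrallyLargeJoin A).Characteristic :=
  Subgroup.characteristic_iff_map_eq.2 fun σ => mclJoin_map σ

theorem frattiniJoin_char (p : ℕ) : (Cfsg.frattiniOfMinimalCLJoin p A).Characteristic :=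
  Subgroup.characteristic_iff_map_eq.2 fun σ => frattiniJoin_map σ p

end CfsgLib.PushFamily.Transport
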