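import Cfsg.Agent.Lib.PushFamily.Main
import Cfsg.Agent.Lib.PushFamily.Transport
import Cfsg.Agent.Lib.PushRankOne.CLPush
import Cfsg.Agent.S2769
import Cfsg.Agent.S2770
import Cfsg.Agent.S3005
import Cfsg.Agent.S3007

/-!
The reduction of the theorems on pairs of characteristic subgroups to the main step.
-/

set_option autoImplicit false
set_option linter.unusedSectionVars false
set_option linter.style.haveILetI false

namespace CfsgLib.PushFamily

open CfsgLib.SL2 CfsgLib.SL2Module CfsgLib.SL2Module.Baumann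
open CfsgLib.PushRankOne (Zc Vc Rc exists_natural)
open CfsgLib.CD.Offender (phi)
open scoped MatrixGroups commutatorElement

universe u

variable {S : Type u} [Group S] [Finite S] {p : ℕ} [hp : Fact p.Prime]

/-- The centre of the Thompson subgroup. -/
abbrev ZJ (S : Type u) [Group S] : Subgroup S :=
  Cfsg.thompsonSubgroupA S ⊓ Subgroup.centralizer (Cfsg.thompsonSubgroupA S : Set S)

/-- One of the two subgroups is normal in every group in the pushing-up situation over `S`. -/
def GoodPair (p : ℕ) (S₁ S₂ : Subgroup S) : Prop :=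
  ∀ (G : Type u) [Group G] [Finite G] (P : Subgroup G) (e : S ≃* P), Cfsg.IsPushingUpSituation p P →
    ((S₁.map ((P.subtype).comp (e : S ≃* P).toMonoidHom)).Normal ∨
      (S₂.map ((P.subtype).comp (e : S ≃* P).toMonoidHom)).Normal)

theorem ZJ_char : (ZJ S).Characteristic := by
  haveI := Transport.thompsonA_char (A := S)
  exact Subgroup.characteristic_iff_map_eq.2 fun σ => by
    rw [Subgroup.map_inf _ _ _ σ.injective, Transport.thompsonA_map σ,
      Subgroup.characteristic_iff_map_eq.1 inferInstance σ]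

theorem exists_centralizer_char : (Subgroup.centralizer (ZJ S : Set S)).Characteristic := by
  haveI := ZJ_char (S := S)
  infer_instance

section Data

variable {G : Type u} [Group G] [Finite G] (P : Sylow p G) (e : S ≃* (P : Subgroup G))

/-- The embedding. -/
def emb0 : S →* G := (P : Subgroup G).subtype.comp e.toMonoidHom

theorem emb0_injective : Function.Injective (emb0 P e) :=
  (P : Subgroup G).subtype_injective.comp e.injective

theorem emb0_map (X : Subgroup S) :
    X.map (emb0 P e) = (X.map e.toMonoidHom).map (P : Subgroup G).subtype := (Subgroup.map_map _ _ _).symm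

theorem emb0_top : (⊤ : Subgroup S).map (emb0 P e) = (P : Subgroup G) := by
  rw [emb0_map, Subgroup.map_top_of_surjective _ e.surjective, ← MonoidHom.range_eq_map,
    Subgroup.range_subtype]

theorem emb0_centralizer (X : Subgroup S) :
    (Subgroup.centralizer (X : Set S)).map (emb0 P e) =
      (P : Subgroup G) ⊓ Subgroup.centralizer ((X.map (emb0 P e) : Subgroup G) : Set G) := by
  refine le_antisymm ?_ ?_
  · rintro _ ⟨s, hs, rfl⟩
    refine Subgroup.mem_inf.2 ⟨(e s).2, Subgroup.mem_centralizer_iff.2 ?_⟩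
    rintro _ ⟨x, hx, rfl⟩
    rw [← map_mul, Subgroup.mem_centralizer_iff.1 hs x hx, map_mul]
  · rintro x ⟨hxP, hx⟩
    have e1 : emb0 P e (e.symm ⟨x, hxP⟩) = x := congrArg Subtype.val (e.apply_symm_apply _)
    refine ⟨e.symm ⟨x, hxP⟩, Subgroup.mem_centralizer_iff.2 fun y hy => emb0_injective P e ?_, e1⟩
    rw [map_mul, map_mul, e1]
    exact Subgroup.mem_centralizer_iff.1 hx _ ⟨y, hy, rfl⟩

theorem emb0_center : (Subgroup.center S).map (emb0 P e) = Zc P := by
  rw [← Subgroup.centralizer_univ, ← Subgroup.coe_top, emb0_centralizer, emb0_top]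
  rfl

theorem emb0_ZJ : (ZJ S).map (emb0 P e) = Cfsg.centerThompsonAOf (P : Subgroup G) := by
  rw [Subgroup.map_inf _ _ _ (emb0_injective P e), emb0_centralizer, ← inf_assoc,
    inf_eq_left.2 ((Subgroup.map_mono le_top).trans (emb0_top P e).le), Cfsg.centerThompsonAOf,
    Cfsg.thompsonSubgroupAOf, emb0_map, Transport.thompsonA_map]

theorem emb0_Jt : (Subgroup.centralizer (ZJ S : Set S)).map (emb0 P e) =
    (P : Subgroup G) ⊓ Subgroup.centralizer (Cfsg.centerThompsonAOf (P : Subgroup G) : Set G) := by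
  rw [emb0_centralizer, emb0_ZJ]

include e in
theorem le_centralizer_of_central (hZ : ⁅ZJ S, (⊤ : Subgroup S)⁆ = ⊥) :
    (P : Subgroup G) ≤ Subgroup.centralizer (Cfsg.centerThompsonAOf (P : Subgroup G) : Set G) := by
  have h : (⊤ : Subgroup S) ≤ Subgroup.centralizer (ZJ S : Set S) :=
    Subgroup.commutator_eq_bot_iff_le_centralizer.1 (by rw [Subgroup.commutator_comm, hZ])
  have h1 := Subgroup.map_mono (f := emb0 P e) h
  rw [emb0_top, emb0_Jt] at h1
  exact h1.trans inf_le_right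

/-- A group in which the centre is not normal gives a member. -/
theorem exists_member {F : Type} [Field F] [Fintype F] [CharP F p] {M : Subgroup G}
    {π : G →* Matrix.ProjectiveSpecialLinearGroup (Fin 2) F} (st : Setting P M π)
    (hJ : (P : Subgroup G) ≤ Subgroup.centralizer (Cfsg.centerThompsonAOf (P : Subgroup G) : Set G))
    (hel : ∀ z ∈ Zc P, z ^ p = 1) (hZn : ¬ (Zc P).Normal) :
    ∃ (ρV : G →* SL(2, F)) (ψV : G → Fin 2 → F),
      PushRankOne.Natural P M (Vc P) ⊥ ρV ψV ∧ ∀ v ∈ Vc P, v ^ p = 1 := by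
  classical
  haveI := Fitting.pCore_normal (G := G) p
  have hVM : Subgroup.centralizer (Vc P : Set G) ≤ M := by
    by_contra hn
    exact hZn (normal_of_fixed st hn inf_le_right (Subgroup.centralizer_le Subgroup.subset_normalClosure))
  obtain ⟨A₀, hA₀, hA₀Q⟩ : ∃ A, MaxAb (P : Subgroup G) A ∧ ¬ A ≤ Cfsg.pCore p G := by
    by_contra hall
    push Not at hall
    exact hZn (PushRankOne.zj_eq_Zc hJ ▸ zj_normal_of_le P hall)
  obtain ⟨-, hquad, hcard⟩ := structure_full st hA₀ hA₀Q hVM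
  have hVQ : Vc P ≤ Cfsg.pCore p G := Subgroup.normalClosure_le_normal fun z hz =>
    st.self (Subgroup.mem_centralizer_iff.2 fun x hx =>
      Subgroup.mem_centralizer_iff.1 (Subgroup.mem_inf.1 hz).2 x (pCore_le P hx))
  haveI hCQn : (Subgroup.centralizer (Cfsg.pCore p G : Set G)).Normal := Subgroup.normal_centralizer
  have hVC : Vc P ≤ Subgroup.centralizer (Cfsg.pCore p G : Set G) :=
    Subgroup.normalClosure_le_normal fun z hz => Subgroup.mem_centralizer_iff.2 fun x hx =>
      Subgroup.mem_centralizer_iff.1 (Subgroup.mem_inf.1 hz).2 x (pCore_le P hx)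
  have hVc : ∀ x ∈ Vc P, ∀ y ∈ Vc P, Commute x y := fun x hx y hy =>
    (Subgroup.mem_centralizer_iff.1 (hVC hy) x (hVQ hx))
  have hvp : ∀ v ∈ Vc P, v ^ p = 1 := by
    let W : Subgroup G :=
      { carrier := {v | v ∈ Vc P ∧ v ^ p = 1}
        one_mem' := ⟨one_mem _, one_pow p⟩
        mul_mem' := fun {a b} ha hb => ⟨mul_mem ha.1 hb.1, by
          rw [(hVc a ha.1 b hb.1).mul_pow, ha.2, hb.2, one_mul]⟩
        inv_mem' := fun {a} ha => ⟨inv_mem ha.1, by rw [inv_pow, ha.2, inv_one]⟩ }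
    haveI : W.Normal := ⟨fun v hv g => ⟨(PushRankOne.Vc_normal P).conj_mem v hv.1 g, by
      rw [conj_pow, hv.2]; group⟩⟩
    exact fun v hv => (Subgroup.normalClosure_le_normal (N := W)
      (fun z hz => ⟨Subgroup.le_normalClosure hz, hel z hz⟩) hv).2
  obtain ⟨ρV, ψV, hnat⟩ := exists_natural st (Vc P) ⊥ bot_le
    (Subgroup.commutator_le.2 fun a ha b hb => Subgroup.mem_bot.2
      (commutatorElement_eq_one_iff_commute.2 (hVc a ha b hb)))
    (fun v hv => Subgroup.mem_bot.2 (hvp v hv))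
    (Subgroup.commutator_le.2 fun a ha b hb => Subgroup.mem_bot.2
      (commutatorElement_eq_one_iff_commute.2 (Subgroup.mem_centralizer_iff.1 (hVC hb) a ha)))
    (by
      refine Subgroup.commutator_le.2 fun a ha b hb => Subgroup.mem_bot.2 ?_
      rw [commutatorElement_eq_one_iff_commute]
      have hle : ⁅(P : Subgroup G), Vc P⁆ ≤ Subgroup.centralizer ((P : Subgroup G) : Set G) :=
        Subgroup.commutator_le.2 fun s hs v hv => Subgroup.mem_centralizer_iff.2 fun t ht =>
          (hquad v hv (hvp v hv) s hs t ht).symm.eq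
      exact Subgroup.mem_centralizer_iff.1 (hle hb) a ha)
    (L := Vc P ⊓ Subgroup.centralizer ((P : Subgroup G) : Set G)) bot_le inf_le_left
    (Subgroup.commutator_le.2 fun a ha b hb => Subgroup.mem_bot.2
      (commutatorElement_eq_one_iff_commute.2
        (Subgroup.mem_centralizer_iff.1 (Subgroup.mem_inf.1 hb).2 a ha)))
    hcard (fun g hg => hVM (Subgroup.mem_centralizer_iff.2 fun v hv =>
      (commutatorElement_eq_one_iff_mul_comm.1 (Subgroup.mem_bot.1 (hg v hv))).symm))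
  exact ⟨ρV, ψV, hnat, hvp⟩

end Data

/-- A property of all members gives it in all groups. -/
theorem goodPair_of_members (hZ : ⁅ZJ S, (⊤ : Subgroup S)⁆ = ⊥)
    (hel : ∀ z ∈ Subgroup.center S, z ^ p = 1) {S₁ S₂ : Subgroup S} (h₁ : S₁ ≤ Subgroup.center S)
    (h : ∀ D : Member p S, (D.img S₁).Normal ∨ (D.img S₂).Normal) : GoodPair p S₁ S₂ := by
  intro G _ _ P₀ e hP
  obtain ⟨-, ⟨P, rfl⟩, hE₁, hE₂, K, hK, F, hF, hFt, n, hcard, hiso⟩ := hP
  letI := hF
  letI := hFt
  haveI := hK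
  haveI : CharP F p := charP_of_card n hcard
  obtain ⟨M, π, st⟩ := exists_setting (F := F) P hE₁ hE₂ K hiso
  by_cases hZn : (Zc P).Normal
  · left
    haveI := hZn
    refine PushRankOne.normal_of_le_center (le_trans ?_
      (PushRankOne.le_center_of_normal st (W := Zc P) inf_le_right))
    rw [← emb0_center P e]
    exact Subgroup.map_mono h₁
  have hel' : ∀ z ∈ Zc P, z ^ p = 1 := by
    rw [← emb0_center P e]
    rintro _ ⟨z, hz, rfl⟩
    rw [← map_pow, hel z hz, map_one]
  obtain ⟨ρV, ψV, hnat, hvp⟩ := exists_member P st (le_centralizer_of_central P e hZ) hel' hZn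
  exact h ⟨⟨G, P, F, M, π, ρV, ψV, st, hnat, hvp⟩, e⟩

theorem exists_mcl : ∃ R : Subgroup S, Cfsg.IsMinimalCentrallyLarge R := by
  obtain ⟨Q, hQ, hC⟩ := CD.exists_large_containing_centralizer (P := S)
  obtain ⟨R, -, hR⟩ := CD.Offender.exists_mcl_le (CD.centrallyLarge_iff.2 ⟨hQ, hC⟩)
  exact ⟨R, hR⟩

theorem inf_center_ne_bot (hS : IsPGroup p S) {N : Subgroup S} [N.Normal] (h : N ≠ ⊥) :
    N ⊓ Subgroup.center S ≠ ⊥ := by
  have h1 := Signalizer.inf_centralizer_ne_bot (v := p) (P := (⊤ : Subgroup S)) (N := N)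
    (hS.to_subgroup ⊤) le_top (le_top.trans (Subgroup.normalizer_eq_top (H := N)).ge) h
  rwa [Subgroup.coe_top, Subgroup.centralizer_univ] at h1

theorem inf_char {A B : Subgroup S} [A.Characteristic] [B.Characteristic] : (A ⊓ B).Characteristic :=
  Subgroup.characteristic_iff_map_eq.2 fun σ => by
    rw [Subgroup.map_inf _ _ _ σ.injective, Subgroup.characteristic_iff_map_eq.1 inferInstance σ,
      Subgroup.characteristic_iff_map_eq.1 inferInstance σ]

theorem subgroupOf_char {X Y : Subgroup S} (hY : Y = ⊤) [hX : X.Characteristic] :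
    (X.subgroupOf Y).Characteristic := by
  subst hY
  refine Subgroup.characteristic_iff_map_le.2 fun σ => ?_
  rintro _ ⟨x, hx, rfl⟩
  exact (Subgroup.characteristic_iff_map_le.1 hX
    ((Subgroup.topEquiv.symm.trans σ).trans Subgroup.topEquiv)) ⟨x, hx, rfl⟩

/-- What the three theorems ask, apart from the centrally large subgroup. -/
def Result (p : ℕ) (S₁ S₂ : Subgroup S) : Prop :=
  S₁ ≠ ⊥ ∧ S₂ ≠ ⊥ ∧ S₁.Characteristic ∧ S₂.Characteristic ∧ S₁ ≤ Subgroup.center S ∧
    S₂ ≤ Subgroup.centralizer (ZJ S : Set S) ∧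
    (S₂.subgroupOf (Subgroup.centralizer (ZJ S : Set S))).Characteristic ∧
    Cfsg.maxCentralProduct S₂ = Cfsg.maxCentralProduct (Subgroup.centralizer (ZJ S : Set S)) ∧
    GoodPair p S₁ S₂

theorem Jt_eq_top (hZ : ⁅ZJ S, (⊤ : Subgroup S)⁆ = ⊥) : Subgroup.centralizer (ZJ S : Set S) = ⊤ :=
  eq_top_iff.2 (Subgroup.commutator_eq_bot_iff_le_centralizer.1 (by
    rw [Subgroup.commutator_comm, hZ]))

theorem self_subgroupOf_char (X : Subgroup S) : (X.subgroupOf X).Characteristic := by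
  rw [Subgroup.subgroupOf_self]
  infer_instance

theorem maxCentralProduct_eq_of_cl {X B : Subgroup S} (hB : B ≤ X) (h : Cfsg.IsCentrallyLarge B)
    {Y : Subgroup S} (hY : Y = ⊤) : Cfsg.maxCentralProduct X = Cfsg.maxCentralProduct Y := by
  subst hY
  rw [Transport.maxCentralProduct_congr (Subgroup.topEquiv : (⊤ : Subgroup S) ≃* S)]
  refine le_antisymm (csSup_le ⟨_, ⊥, rfl⟩ ?_) ?_
  · rintro k ⟨R, rfl⟩
    refine le_csSup (CD.bddAbove_range (fun R : Subgroup S => Nat.card R * Nat.card (Subgroup.center R)))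
      ⟨R.map X.subtype, ?_⟩
    rw [Nat.card_congr (Subgroup.centerCongr (R.equivMapOfInjective _ X.subtype_injective)).toEquiv,
      Subgroup.card_map_of_injective X.subtype_injective]
  · rw [← h]
    refine le_csSup (CD.bddAbove_range (fun R : Subgroup X => Nat.card R * Nat.card (Subgroup.center R)))
      ⟨B.subgroupOf X, ?_⟩
    rw [Nat.card_congr (Subgroup.centerCongr (Subgroup.subgroupOfEquivOfLe hB)).toEquiv,
      Nat.card_congr (Subgroup.subgroupOfEquivOfLe hB).toEquiv]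

/-- The centre of the Thompson subgroup is not central. -/
theorem case_ZJ (hS : IsPGroup p S) (hZ : ⁅ZJ S, (⊤ : Subgroup S)⁆ ≠ ⊥) :
    ∃ S₁ S₂ : Subgroup S, Result p S₁ S₂ := by
  haveI := ZJ_char (S := S)
  haveI : Nontrivial S := by
    by_contra h
    rw [not_nontrivial_iff_subsingleton] at h
    exact hZ (Subsingleton.elim _ _)
  set Jt := Subgroup.centralizer (ZJ S : Set S) with hJt
  haveI hJc : Jt.Characteristic := exists_centralizer_char
  haveI : (⁅ZJ S, (⊤ : Subgroup S)⁆).Characteristic := Subgroup.characteristic_iff_map_eq.2 fun σ => by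
    rw [Subgroup.map_commutator, Subgroup.characteristic_iff_map_eq.1 inferInstance σ,
      Subgroup.characteristic_iff_map_eq.1 inferInstance σ]
  have hJne : Jt ≠ ⊥ := fun h => by
    have h1 : Subgroup.center S ≤ Jt := Subgroup.center_le_centralizer _
    rw [h] at h1
    exact inf_center_ne_bot hS (N := (⊤ : Subgroup S)) top_ne_bot (le_bot_iff.1 (inf_le_right.trans h1))
  refine ⟨⁅ZJ S, (⊤ : Subgroup S)⁆ ⊓ Subgroup.center S, Jt, inf_center_ne_bot hS hZ, hJne, inf_char, hJc,
    inf_le_right, le_rfl, self_subgroupOf_char Jt, rfl, ?_⟩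
  intro G _ _ P₀ e hP
  obtain ⟨-, ⟨P, rfl⟩, hE₁, hE₂, K, hK, F, hF, hFt, n, hcard, hiso⟩ := hP
  letI := hF
  letI := hFt
  haveI := hK
  have hn : 1 ≤ n := Nat.one_le_iff_ne_zero.2 fun h0 => by
    subst h0
    have := Fintype.one_lt_card (α := F)
    rw [hcard, pow_zero] at this
    omega
  show ((⁅ZJ S, ⊤⁆ ⊓ Subgroup.center S).map (emb0 P e)).Normal ∨ (Jt.map (emb0 P e)).Normal
  rw [Subgroup.map_inf _ _ _ (emb0_injective P e), Subgroup.map_commutator, emb0_ZJ, emb0_top, emb0_center,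
    hJt, emb0_Jt]
  refine Cfsg.Agent.S2769.result P hE₁ hE₂ K F n hn hcard hiso fun h => hZ ?_
  rw [← emb0_ZJ P e, ← emb0_top P e, ← Subgroup.map_commutator,
    Subgroup.map_eq_bot_iff_of_injective _ (emb0_injective P e)] at h
  exact h

/-- The centre is not elementary abelian. -/
theorem case_center (hS : IsPGroup p S) (hZ : ⁅ZJ S, (⊤ : Subgroup S)⁆ = ⊥)
    (hel : ¬ ∀ z ∈ Subgroup.center S, z ^ p = 1) : ∃ S₁ S₂ : Subgroup S, Result p S₁ S₂ := by
  haveI := powerClosure_char p 1 (Subgroup.center S)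
  have hne : Cfsg.powerClosure p 1 (Subgroup.center S) ≠ ⊥ := fun h => hel fun z hz => by
    have h1 : z ^ p ^ 1 ∈ Cfsg.powerClosure p 1 (Subgroup.center S) :=
      Subgroup.subset_closure ⟨z, hz, rfl⟩
    rwa [h, Subgroup.mem_bot, pow_one] at h1
  have hle : Cfsg.powerClosure p 1 (Subgroup.center S) ≤ Subgroup.center S := (Subgroup.closure_le _).2 (by
    rintro _ ⟨x, hx, rfl⟩
    exact pow_mem hx _)
  haveI : Nontrivial S := by
    by_contra h
    rw [not_nontrivial_iff_subsingleton] at h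
    exact hne (Subsingleton.elim _ _)
  refine ⟨_, Subgroup.centralizer (ZJ S : Set S), hne, by rw [Jt_eq_top hZ]; exact top_ne_bot, inferInstance,
    exists_centralizer_char, hle, le_rfl, self_subgroupOf_char _, rfl, ?_⟩
  intro G _ _ P₀ e hP
  obtain ⟨-, ⟨P, rfl⟩, hE₁, hE₂, K, hK, F, hF, hFt, n, hcard, hiso⟩ := hP
  letI := hF
  letI := hFt
  haveI := hK
  have hn : 1 ≤ n := Nat.one_le_iff_ne_zero.2 fun h0 => by
    subst h0
    have := Fintype.one_lt_card (α := F)
    rw [hcard, pow_zero] at this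
    omega
  show ((Cfsg.powerClosure p 1 (Subgroup.center S)).map (emb0 P e)).Normal ∨
    ((Subgroup.centralizer (ZJ S : Set S)).map (emb0 P e)).Normal
  rw [map_powerClosure, emb0_center, emb0_Jt]
  refine Cfsg.Agent.S2770.result P hE₁ hE₂ K F n hn hcard hiso fun h => hel fun z hz =>
    emb0_injective P e ?_
  rw [map_pow, map_one]
  exact h.2 _ ((emb0_center P e).le ⟨z, hz, rfl⟩)

/-- The second layer is not trivial. -/
theorem case_layer (hS : IsPGroup p S) (hZ : ⁅ZJ S, (⊤ : Subgroup S)⁆ = ⊥)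
    (hel : ∀ z ∈ Subgroup.center S, z ^ p = 1) (hne : szero p (⊤ : Subgroup S) (phi ⊤) ≠ ⊥) :
    ∃ S₁ S₂ : Subgroup S, S₁ ≠ ⊥ ∧ S₂ ≠ ⊥ ∧ S₁.Characteristic ∧ S₂.Characteristic ∧
      S₁ ≤ Subgroup.center S ∧ S₂ ≤ Subgroup.centralizer (ZJ S : Set S) ∧
      (S₂.subgroupOf (Subgroup.centralizer (ZJ S : Set S))).Characteristic ∧
      (∃ B, B ≤ S₂ ∧ Large B) ∧ GoodPair p S₁ S₂ := by
  obtain ⟨S₁, S₂, h1, h1c, h1Z, h2c, ⟨B, hB, hBL⟩, hgood⟩ := main hS hne
  haveI := h2c
  refine ⟨S₁, S₂, h1, fun h2 => ?_, h1c, h2c, h1Z, le_top.trans (Jt_eq_top hZ).ge,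
    subgroupOf_char (Jt_eq_top hZ), ⟨B, hB, hBL⟩, goodPair_of_members hZ hel h1Z hgood⟩
  haveI : IsMulCommutative (Subgroup.center S) := inferInstance
  have h3 := hBL.2 (Subgroup.center S) inferInstance
  rw [le_bot_iff.1 (hB.trans h2.le), Subgroup.card_bot] at h3
  exact h1 (le_bot_iff.1 (h1Z.trans (Subgroup.eq_bot_of_card_le _ h3).le))

/-- The minimal centrally large subgroups are not abelian. -/
theorem case_derived (hS : IsPGroup p S) (hZ : ⁅ZJ S, (⊤ : Subgroup S)⁆ = ⊥) {R₀ : Subgroup S}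
    (hR₀ : Cfsg.IsMinimalCentrallyLarge R₀) (hne : ⁅R₀, R₀⁆ ≠ ⊥) :
    ∃ S₁ S₂ : Subgroup S, Result p S₁ S₂ := by
  haveI hDc : (⁅R₀, R₀⁆).Characteristic := PushRankOne.derived_char hR₀
  haveI hMc := Transport.mclJoin_char (A := S)
  have hle : R₀ ≤ Cfsg.minimalCentrallyLargeJoin S := le_sSup hR₀
  refine ⟨Subgroup.center S ⊓ ⁅R₀, R₀⁆, Cfsg.minimalCentrallyLargeJoin S, ?_, ?_, inf_char, hMc,
    inf_le_left, le_top.trans (Jt_eq_top hZ).ge, subgroupOf_char (Jt_eq_top hZ),
    maxCentralProduct_eq_of_cl hle hR₀.1 (Jt_eq_top hZ), ?_⟩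
  · rw [inf_comm]
    exact inf_center_ne_bot hS hne
  · intro h
    rw [h, le_bot_iff] at hle
    exact hne (by rw [hle, Subgroup.commutator_bot_left])
  intro G _ _ P₀ e hP
  obtain ⟨-, ⟨P, rfl⟩, hE₁, hE₂, K, hK, F, hF, hFt, n, hcard, hiso⟩ := hP
  letI := hF
  letI := hFt
  haveI := hK
  haveI : CharP F p := charP_of_card n hcard
  obtain ⟨M, π, st⟩ := exists_setting (F := F) P hE₁ hE₂ K hiso
  show ((Subgroup.center S ⊓ ⁅R₀, R₀⁆).map (emb0 P e)).Normal ∨
    ((Cfsg.minimalCentrallyLargeJoin S).map (emb0 P e)).Normal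
  rw [Subgroup.map_inf _ _ _ (emb0_injective P e), emb0_center, emb0_map, emb0_map,
    Transport.mclJoin_map e, Subgroup.map_commutator R₀]
  exact PushRankOne.derived_case st (le_centralizer_of_central P e hZ) ((Transport.mcl_map e).2 hR₀)

/-- The Frattini subgroups of the distinguished minimal centrally large subgroups are not trivial. -/
theorem case_frattini (hS : IsPGroup p S) (hZ : ⁅ZJ S, (⊤ : Subgroup S)⁆ = ⊥)
    (hne : Cfsg.frattiniOfMinimalCLJoin p S ≠ ⊥) :
    ∃ S₁ S₂ : Subgroup S, S₁ ≠ ⊥ ∧ S₂ ≠ ⊥ ∧ S₁.Characteristic ∧ S₂.Characteristic ∧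
      S₁ ≤ Subgroup.center S ∧ S₂ ≤ Subgroup.centralizer (ZJ S : Set S) ∧
      (S₂.subgroupOf (Subgroup.centralizer (ZJ S : Set S))).Characteristic ∧ GoodPair p S₁ S₂ := by
  haveI hMc := Transport.frattiniJoin_char (A := S) p
  haveI : Nontrivial S := by
    by_contra h
    rw [not_nontrivial_iff_subsingleton] at h
    exact hne (Subsingleton.elim _ _)
  refine ⟨Subgroup.center S, _, ?_, hne, inferInstance, hMc, le_rfl, le_top.trans (Jt_eq_top hZ).ge,
    subgroupOf_char (Jt_eq_top hZ), ?_⟩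
  · have h1 := inf_center_ne_bot hS (N := (⊤ : Subgroup S)) top_ne_bot
    rwa [top_inf_eq] at h1
  intro G _ _ P₀ e hP
  obtain ⟨-, ⟨P, rfl⟩, hE₁, hE₂, K, hK, F, hF, hFt, n, hcard, hiso⟩ := hP
  letI := hF
  letI := hFt
  haveI := hK
  haveI : CharP F p := charP_of_card n hcard
  obtain ⟨M, π, st⟩ := exists_setting (F := F) P hE₁ hE₂ K hiso
  show ((Subgroup.center S).map (emb0 P e)).Normal ∨
    ((Cfsg.frattiniOfMinimalCLJoin p S).map (emb0 P e)).Normal
  rw [emb0_center, emb0_map, Transport.frattiniJoin_map e p]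
  exact PushRankOne.frattini_case st (le_centralizer_of_central P e hZ)

end CfsgLib.PushFamily
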