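import Cfsg.Agent.Lib.PushRankOne.Aut

/-!
An isomorphism of subgroups of two groups carrying the subgroups below them.
-/

set_option autoImplicit false

namespace CfsgLib.PushFamily

open scoped commutatorElement

variable {G H K : Type*} [Group G] [Group H] [Group K] {S : Subgroup G} {T : Subgroup H} {U : Subgroup K}

/-- The image of a subgroup of `S`. -/
def tr (φ : S ≃* T) (A : Subgroup G) : Subgroup H :=
  ((A.subgroupOf S).map φ.toMonoidHom).map T.subtype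

theorem mem_tr {φ : S ≃* T} {A : Subgroup G} {x : H} :
    x ∈ tr φ A ↔ ∃ h : S, (h : G) ∈ A ∧ (φ h : H) = x := by
  constructor
  · rintro ⟨_, ⟨h, hh, rfl⟩, rfl⟩
    exact ⟨h, hh, rfl⟩
  · rintro ⟨h, hh, rfl⟩
    exact ⟨_, ⟨h, hh, rfl⟩, rfl⟩

theorem mem_tr_of_mem (φ : S ≃* T) {A : Subgroup G} {h : S} (hh : (h : G) ∈ A) : (φ h : H) ∈ tr φ A :=
  mem_tr.2 ⟨h, hh, rfl⟩

theorem symm_mem_of_mem_tr (φ : S ≃* T) {A : Subgroup G} {x : T} (hx : (x : H) ∈ tr φ A) :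
    (φ.symm x : G) ∈ A := by
  obtain ⟨h, hh, e⟩ := mem_tr.1 hx
  rw [← Subtype.ext e, MulEquiv.symm_apply_apply]
  exact hh

theorem tr_le (φ : S ≃* T) (A : Subgroup G) : tr φ A ≤ T := Subgroup.map_subtype_le _

theorem tr_mono (φ : S ≃* T) {A B : Subgroup G} (h : A ≤ B) : tr φ A ≤ tr φ B :=
  Subgroup.map_mono (Subgroup.map_mono (Subgroup.comap_mono h))

theorem tr_trans (φ : S ≃* T) (ψ : T ≃* U) (A : Subgroup G) : tr ψ (tr φ A) = tr (φ.trans ψ) A := by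
  ext x
  rw [mem_tr, mem_tr]
  constructor
  · rintro ⟨h, hh, rfl⟩
    obtain ⟨k, hk, e⟩ := mem_tr.1 hh
    exact ⟨k, hk, by rw [MulEquiv.trans_apply, Subtype.ext e]⟩
  · rintro ⟨k, hk, rfl⟩
    exact ⟨φ k, mem_tr_of_mem φ hk, rfl⟩

theorem tr_refl {A : Subgroup G} (hA : A ≤ S) : tr (MulEquiv.refl S) A = A := by
  ext x
  rw [mem_tr]
  exact ⟨fun ⟨h, hh, e⟩ => e ▸ hh, fun hx => ⟨⟨x, hA hx⟩, hx, rfl⟩⟩

theorem tr_symm_tr (φ : S ≃* T) {A : Subgroup G} (hA : A ≤ S) : tr φ.symm (tr φ A) = A := by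
  rw [tr_trans, MulEquiv.self_trans_symm, tr_refl hA]

theorem tr_tr_symm (φ : S ≃* T) {B : Subgroup H} (hB : B ≤ T) : tr φ (tr φ.symm B) = B := by
  rw [tr_trans, MulEquiv.symm_trans_self, tr_refl hB]

theorem tr_self (φ : S ≃* T) : tr φ S = T :=
  le_antisymm (tr_le φ S) fun x hx =>
    mem_tr.2 ⟨φ.symm ⟨x, hx⟩, (φ.symm ⟨x, hx⟩).2, by rw [MulEquiv.apply_symm_apply]⟩

theorem card_tr (φ : S ≃* T) {A : Subgroup G} (hA : A ≤ S) : Nat.card (tr φ A) = Nat.card A := by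
  rw [tr, Subgroup.card_map_of_injective T.subtype_injective, Subgroup.card_map_of_injective φ.injective]
  exact Nat.card_congr (Subgroup.subgroupOfEquivOfLe hA).toEquiv

theorem tr_le_iff (φ : S ≃* T) {A B : Subgroup G} (hA : A ≤ S) (hB : B ≤ S) :
    tr φ A ≤ tr φ B ↔ A ≤ B :=
  ⟨fun h => by
    have := tr_mono φ.symm h
    rwa [tr_symm_tr φ hA, tr_symm_tr φ hB] at this, tr_mono φ⟩

theorem tr_le_comm (φ : S ≃* T) {A : Subgroup G} {B : Subgroup H} (hA : A ≤ S) (hB : B ≤ T) :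
    tr φ A ≤ B ↔ A ≤ tr φ.symm B := by
  rw [← tr_le_iff φ hA (tr_le _ _), tr_tr_symm φ hB]

theorem tr_comm (φ : S ≃* T) {A B : Subgroup G} (hA : A ≤ S) (hB : B ≤ S) :
    tr φ ⁅A, B⁆ = ⁅tr φ A, tr φ B⁆ := by
  have h : (⁅A, B⁆ : Subgroup G).subgroupOf S = ⁅A.subgroupOf S, B.subgroupOf S⁆ :=
    Subgroup.map_injective S.subtype_injective (by
      rw [Subgroup.map_commutator, Subgroup.subgroupOf_map_subtype, Subgroup.subgroupOf_map_subtype,
        Subgroup.subgroupOf_map_subtype, inf_eq_left.2 hA, inf_eq_left.2 hB, inf_eq_left.2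
          ((Subgroup.commutator_mono hA hB).trans (Subgroup.commutator_le_self S))])
  rw [tr, h, Subgroup.map_commutator, Subgroup.map_commutator, ← tr, ← tr]

theorem tr_sup (φ : S ≃* T) {A B : Subgroup G} (hA : A ≤ S) (hB : B ≤ S) :
    tr φ (A ⊔ B) = tr φ A ⊔ tr φ B := by
  refine le_antisymm ?_ (sup_le (tr_mono φ le_sup_left) (tr_mono φ le_sup_right))
  rw [tr_le_comm φ (sup_le hA hB) (sup_le (tr_le _ _) (tr_le _ _))]
  exact sup_le ((tr_le_comm φ hA (sup_le (tr_le _ _) (tr_le _ _))).1 le_sup_left)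
    ((tr_le_comm φ hB (sup_le (tr_le _ _) (tr_le _ _))).1 le_sup_right)

theorem tr_norm (φ : S ≃* T) {A : Subgroup G} (hn : S ≤ Subgroup.normalizer (A : Set G)) :
    ∀ s ∈ T, ∀ x ∈ tr φ A, s * x * s⁻¹ ∈ tr φ A := by
  intro s hs x hx
  obtain ⟨h, hh, rfl⟩ := mem_tr.1 hx
  refine mem_tr.2 ⟨φ.symm ⟨s, hs⟩ * h * (φ.symm ⟨s, hs⟩)⁻¹,
    ((Subgroup.mem_normalizer_iff.1 (hn (φ.symm ⟨s, hs⟩).2)) h).1 hh, ?_⟩
  rw [map_mul, map_mul, map_inv, MulEquiv.apply_symm_apply]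
  rfl

theorem le_normalizer_tr (φ : S ≃* T) {A : Subgroup G}
    (hn : S ≤ Subgroup.normalizer (A : Set G)) : T ≤ Subgroup.normalizer ((tr φ A : Subgroup H) : Set H) :=
  fun s hs => Subgroup.mem_normalizer_iff.2 fun x => ⟨tr_norm φ hn s hs x, fun h => by
    have := tr_norm φ hn s⁻¹ (inv_mem hs) _ h
    simpa [mul_assoc] using this⟩

end CfsgLib.PushFamily
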