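import Cfsg.Agent.Lib.PushRankOne.CLPush
import Cfsg.Agent.Lib.PushRankOne.NegPart
import Cfsg.Agent.Lib.PushFamily.Tr

/-!
One member of a family of groups sharing a Sylow subgroup: a group in the pushing-up situation in
which the centre of the Sylow subgroup generates a natural module.
-/

set_option autoImplicit false
set_option linter.unusedSectionVars false
set_option linter.style.haveILetI false

namespace CfsgLib.PushFamily

open CfsgLib.SL2 CfsgLib.SL2Module CfsgLib.SL2Module.Baumann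
open CfsgLib.PushRankOne (Zc Vc Rc Natural fixMod comm_mul_left comm_mul_right normalClosure_comm_le
  comm_sup_le comm_sup_le_normal normal_of_le_center le_center_of_normal exists_natural card_S
  mem_fixMod fixMod_bot)
open scoped MatrixGroups commutatorElement

universe u

variable {p : ℕ} [hp : Fact p.Prime]

/-- A group in the pushing-up situation with a natural module generated by the centre. -/
structure Vtx (p : ℕ) [Fact p.Prime] : Type (u + 1) where
  G : Type u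
  [grp : Group G]
  [fin : Finite G]
  S : Sylow p G
  F : Type
  [fld : Field F]
  [ft : Fintype F]
  [chp : CharP F p]
  M : Subgroup G
  π : G →* Matrix.ProjectiveSpecialLinearGroup (Fin 2) F
  ρV : G →* SL(2, F)
  ψV : G → Fin 2 → F
  st : Setting S M π
  nat : Natural S M (Vc S) ⊥ ρV ψV
  vp : ∀ v ∈ Vc S, v ^ p = 1

attribute [instance] Vtx.grp Vtx.fin Vtx.fld Vtx.ft Vtx.chp

namespace Vtx

variable (A : Vtx.{u} p)

/-- The Sylow subgroup. -/
abbrev P : Subgroup A.G := (A.S : Subgroup A.G)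

/-- The core. -/
abbrev Q : Subgroup A.G := Cfsg.pCore p A.G

/-- The centre of the Sylow subgroup. -/
abbrev Z : Subgroup A.G := Zc A.S

/-- The module. -/
abbrev V : Subgroup A.G := Vc A.S

/-- The commutator of the module with the Sylow subgroup. -/
abbrev R : Subgroup A.G := Rc A.S

theorem Q_normal : A.Q.Normal := Fitting.pCore_normal p

theorem Q_le_P : A.Q ≤ A.P := pCore_le A.S

theorem Z_le_V : A.Z ≤ A.V := Subgroup.le_normalClosure

theorem Z_le_P : A.Z ≤ A.P := inf_le_left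

theorem V_le_Q : A.V ≤ A.Q := by
  haveI := A.Q_normal
  exact Subgroup.normalClosure_le_normal fun z hz =>
    A.st.self (Subgroup.mem_centralizer_iff.2 fun x hx =>
      Subgroup.mem_centralizer_iff.1 (Subgroup.mem_inf.1 hz).2 x (pCore_le A.S hx))

theorem V_le_P : A.V ≤ A.P := A.V_le_Q.trans A.Q_le_P

theorem Q_comm_V : ⁅A.Q, A.V⁆ = ⊥ := by
  refine le_bot_iff.1 (Subgroup.commutator_le.2 fun x hx v hv => ?_)
  exact (A.nat.ker x).1 ((A.nat.inf x (pCore_le A.S hx)).2 hx) v hv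

theorem commute_Q {x v : A.G} (hx : x ∈ A.Q) (hv : v ∈ A.V) : Commute x v :=
  commutatorElement_eq_one_iff_commute.1
    (Subgroup.mem_bot.1 (A.Q_comm_V.le (Subgroup.commutator_mem_commutator hx hv)))

theorem commute_V {x v : A.G} (hx : x ∈ A.V) (hv : v ∈ A.V) : Commute x v :=
  A.commute_Q (A.V_le_Q hx) hv

theorem centralizer_inf_P : Subgroup.centralizer (A.V : Set A.G) ⊓ A.P ≤ A.Q :=
  fun s hs => (A.nat.inf s hs.2).1 ((A.nat.ker s).2 fun v hv => Subgroup.mem_bot.2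
    (commutatorElement_eq_one_iff_mul_comm.2 (Subgroup.mem_centralizer_iff.1 hs.1 v hv).symm))

theorem zero_iff {v : A.G} (hv : v ∈ A.V) : A.ψV v = 0 ↔ v ∈ Subgroup.center A.G := by
  rw [A.nat.zero v hv, Subgroup.mem_center_iff]
  simp only [Subgroup.mem_bot, commutatorElement_eq_one_iff_mul_comm]

theorem line_iff {v : A.G} (hv : v ∈ A.V) : A.ψV v 1 = 0 ↔ v ∈ A.Z := by
  rw [← A.nat.line v hv, Vtx.Z, Zc, Subgroup.mem_inf, and_iff_right (A.V_le_P hv),
    Subgroup.mem_centralizer_iff]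
  simp only [Subgroup.mem_bot, commutatorElement_eq_one_iff_mul_comm]
  rfl

/-- The fixed points of an element outside the core. -/
theorem fixed {s v : A.G} (hs : s ∈ A.P) (hsQ : s ∉ A.Q) (hv : v ∈ A.V)
    (h : A.ψV ⁅s, v⁆ = 0) : v ∈ A.Z := by
  obtain ⟨c, hc⟩ := A.nat.upper s hs
  have hc0 : c ≠ 0 := fun e => hsQ ((A.nat.inf s hs).1 (by rw [hc, e]; exact map_one _))
  rw [A.nat.map_comm_upper hc hv] at h
  have h1 := congrFun h 0
  simp at h1
  exact (A.line_iff hv).1 (h1.resolve_left hc0)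

theorem fixed_of_commute {s v : A.G} (hs : s ∈ A.P) (hsQ : s ∉ A.Q)
    (hv : v ∈ A.V) (h : Commute s v) : v ∈ A.Z :=
  A.fixed hs hsQ hv (by rw [commutatorElement_eq_one_iff_commute.2 h]; exact A.nat.map_one)

theorem card_V : Nat.card A.V = Nat.card A.F * Nat.card A.Z := by
  let f : A.V →* Multiplicative A.F :=
    { toFun := fun v => Multiplicative.ofAdd (A.ψV v 1)
      map_one' := by rw [OneMemClass.coe_one, A.nat.map_one]; rfl
      map_mul' := fun v w => by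
        rw [Subgroup.coe_mul, A.nat.add _ v.2 _ w.2]
        rfl }
  have hf : Function.Surjective f := fun z => by
    obtain ⟨v, hv, e⟩ := A.nat.onto ![0, z.toAdd]
    exact ⟨⟨v, hv⟩, show Multiplicative.ofAdd (A.ψV v 1) = z by rw [e]; rfl⟩
  have hk : f.ker = A.Z.subgroupOf A.V := by
    ext ⟨v, hv⟩
    rw [MonoidHom.mem_ker, Subgroup.mem_subgroupOf]
    show Multiplicative.ofAdd (A.ψV v 1) = 1 ↔ v ∈ A.Z
    rw [← A.line_iff hv]
    exact Multiplicative.ofAdd.injective.eq_iff' rfl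
  rw [Subgroup.card_eq_card_quotient_mul_card_subgroup f.ker,
    Nat.card_congr (QuotientGroup.quotientKerEquivOfSurjective f hf).toEquiv, hk,
    Nat.card_congr (Subgroup.subgroupOfEquivOfLe A.Z_le_V).toEquiv]
  congr 1

theorem card_P : Nat.card A.P = Nat.card A.F * Nat.card A.Q := card_S A.st

theorem R_le_Z : A.R ≤ A.Z := by
  rw [Vtx.R, Rc, Subgroup.commutator_comm]
  refine Subgroup.commutator_le.2 fun s hs v hv => ?_
  obtain ⟨c, hc⟩ := A.nat.upper s hs
  refine (A.line_iff (A.nat.map_comm s hv).1).1 ?_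
  rw [A.nat.map_comm_upper hc hv]
  rfl

theorem R_le_V : A.R ≤ A.V := A.R_le_Z.trans A.Z_le_V

theorem R_le_P : A.R ≤ A.P := A.R_le_Z.trans A.Z_le_P

theorem exists_R_onto (z : A.F) : ∃ r ∈ A.R, A.ψV r = ![z, 0] := by
  obtain ⟨s, hs, hc⟩ := A.nat.upper_onto z
  obtain ⟨v, hv, e⟩ := A.nat.onto ![0, 1]
  refine ⟨⁅s, v⁆, ?_, ?_⟩
  · rw [Vtx.R, Rc, Subgroup.commutator_comm]
    exact Subgroup.commutator_mem_commutator hs hv
  · rw [A.nat.map_comm_upper hc hv, e]
    simp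

theorem R_not_le_center : ¬ A.R ≤ Subgroup.center A.G := fun h => by
  obtain ⟨r, hr, e⟩ := A.exists_R_onto 1
  rw [(A.zero_iff (A.R_le_V hr)).2 (h hr)] at e
  simpa using congrFun e 0

theorem Z_commute {z s : A.G} (hz : z ∈ A.Z) (hs : s ∈ A.P) : Commute z s :=
  (Subgroup.mem_centralizer_iff.1 (Subgroup.mem_inf.1 hz).2 s hs).symm

theorem P_le_normalizer_of_le_Z {W : Subgroup A.G} (hW : W ≤ A.Z) :
    A.P ≤ Subgroup.normalizer (W : Set A.G) := fun s hs =>
  Subgroup.mem_normalizer_fintype fun z hz => by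
    rw [← (A.Z_commute (hW hz) hs).eq, mul_inv_cancel_right]
    exact hz

theorem comm_Z_P : ⁅A.Z, A.P⁆ = ⊥ :=
  le_bot_iff.1 (Subgroup.commutator_le.2 fun _ hz _ hs => Subgroup.mem_bot.2
    (commutatorElement_eq_one_iff_commute.2 (A.Z_commute hz hs)))

theorem center_of_normal {W : Subgroup A.G} (hW : W ≤ A.Z) [W.Normal] : W ≤ Subgroup.center A.G :=
  le_center_of_normal A.st (hW.trans inf_le_right)

theorem sup_top {L : Subgroup A.G} [hL : L.Normal] (h : A.P ≤ A.Q ⊔ L) : A.Q ⊔ L = ⊤ := by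
  haveI := A.Q_normal
  rw [← top_le_iff, ← normalClosure_S A.st]
  exact Subgroup.normalClosure_le_normal h

theorem exists_not_mem_M : ∃ g, g ∉ A.M := by
  by_contra h
  push Not at h
  exact A.st.ne (eq_top_iff.2 fun x _ => h x)

theorem R_inf_center (hp2 : p ≠ 2) : A.R ⊓ Subgroup.center A.G = ⊥ := by
  obtain ⟨x, hx⟩ := A.nat.surj (-1)
  have hab : ⁅A.V, A.V⁆ ≤ (⊥ : Subgroup A.G) :=
    ((Subgroup.commutator_mono A.V_le_Q le_rfl).trans A.Q_comm_V.le)
  have hR : A.R ≤ PushRankOne.negPart A.V ⊥ bot_le hab x := by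
    rw [Vtx.R, Rc, Subgroup.commutator_comm]
    exact Subgroup.commutator_le.2 fun s _ v hv => PushRankOne.negPart_comm A.nat bot_le hab hx hp2 s hv
  refine le_bot_iff.1 fun r hr => PushRankOne.negPart_fix A.nat bot_le hab hx hp2 (hR hr.1) ?_
  rw [fixMod_bot]
  exact ⟨A.R_le_V hr.1, hr.2⟩

end Vtx

section Pair

variable {A B : Vtx.{u} p} (φ : A.P ≃* B.P)

theorem tr_Z_le : tr φ A.Z ≤ B.Z := by
  rintro x hx
  obtain ⟨h, hh, rfl⟩ := mem_tr.1 hx
  refine Subgroup.mem_inf.2 ⟨(φ h).2, Subgroup.mem_centralizer_iff.2 fun y hy => ?_⟩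
  have h1 : h * φ.symm ⟨y, hy⟩ = φ.symm ⟨y, hy⟩ * h :=
    Subtype.ext (A.Z_commute hh (φ.symm ⟨y, hy⟩).2).eq
  have h2 := congrArg φ h1
  rw [map_mul, map_mul, MulEquiv.apply_symm_apply] at h2
  exact (congrArg Subtype.val h2).symm

theorem tr_Z : tr φ A.Z = B.Z :=
  le_antisymm (tr_Z_le φ) ((tr_tr_symm φ B.Z_le_P).ge.trans (tr_mono φ (tr_Z_le φ.symm)))

theorem card_Z (φ : A.P ≃* B.P) : Nat.card A.Z = Nat.card B.Z := by
  rw [← tr_Z φ, card_tr φ A.Z_le_P]

theorem comm_tr_V : ⁅tr φ A.V, B.P⁆ = tr φ A.R := by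
  rw [Vtx.R, Rc, tr_comm φ A.V_le_P le_rfl, tr_self]

theorem tr_R_le_Z : tr φ A.R ≤ B.Z := (tr_mono φ A.R_le_Z).trans (tr_Z_le φ)

theorem tr_V_abelian : ∀ x ∈ tr φ A.V, ∀ y ∈ tr φ A.V, Commute x y := by
  intro x hx y hy
  obtain ⟨h, hh, rfl⟩ := mem_tr.1 hx
  obtain ⟨k, hk, rfl⟩ := mem_tr.1 hy
  have h1 : h * k = k * h := Subtype.ext (A.commute_V hh hk).eq
  exact congrArg Subtype.val (show φ h * φ k = φ k * φ h by rw [← map_mul, h1, map_mul])

theorem tr_V_pow : ∀ x ∈ tr φ A.V, x ^ p = 1 := by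
  intro x hx
  obtain ⟨h, hh, rfl⟩ := mem_tr.1 hx
  rw [← SubmonoidClass.coe_pow, ← map_pow, show h ^ p = 1 from Subtype.ext (A.vp h hh), map_one]
  rfl

end Pair

/-! ### The second Frattini layer -/

/-- The subgroup `[Φ, S]Φ(Φ)`, `[Φ, S, S]Φ(Φ)`, `[Φ, S]℧¹` according to the prime, inside the ambient
group. -/
def szero {G : Type*} [Group G] (p : ℕ) (P Φ : Subgroup G) : Subgroup G :=
  if p = 2 then ⁅Φ, P⁆ ⊔ CD.Offender.phi Φ
  else if p = 3 then ⁅⁅Φ, P⁆, P⁆ ⊔ CD.Offender.phi Φ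
  else ⁅Φ, P⁆ ⊔ Cfsg.powerClosure p 1 P

end CfsgLib.PushFamily
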